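import Groth.Agent.H21Split.R2.WeylSign
import Groth.Agent.H21Diag.Conj

/-!
Conjugation by words in the Weyl elements: root homomorphisms, coroots, inverse words.
-/

open CategoryTheory MonoidalCategory CartesianMonoidalCategory MonObj GrpObj AlgebraicGeometry

universe u

set_option backward.isDefEq.respectTransparency false
set_option linter.style.haveILetI false
set_option linter.unusedSectionVars false
set_option synthInstance.maxHeartbeats 400000

noncomputable section

namespace Groth.Agent.H21Split.R2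

variable {S : Scheme.{u}} {G : Over S} [GrpObj G]

/-- conjugation by an `S`-point -/
def cj (W : 𝟙_ (Over S) ⟶ G) : G ⟶ G := (toUnit G ≫ W) * 𝟙 G * (toUnit G ≫ W)⁻¹

theorem comp_cj (W : 𝟙_ (Over S) ⟶ G) {X : Over S} (x : X ⟶ G) :
    x ≫ cj W = (toUnit X ≫ W) * x * (toUnit X ≫ W)⁻¹ := by
  rw [cj, MonObj.comp_mul, MonObj.comp_mul, GrpObj.comp_inv, Category.comp_id, ← Category.assoc,
    toUnit_unique (x ≫ toUnit G) (toUnit X)]

instance isMonHom_cj (W : 𝟙_ (Over S) ⟶ G) : IsMonHom (cj W) :=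
  H21Diag.isMonHom_of_mul _ fun {T} a b => by rw [comp_cj, comp_cj, comp_cj]; group

theorem cj_cj {X : Over S} (W W' : 𝟙_ (Over S) ⟶ G) (x : X ⟶ G) : (x ≫ cj W') ≫ cj W = x ≫ cj (W * W') := by
  rw [comp_cj, comp_cj, comp_cj, MonObj.comp_mul]; group

theorem cj_one : cj (1 : 𝟙_ (Over S) ⟶ G) = 𝟙 G := by
  rw [cj, MonObj.comp_one, inv_one, _root_.one_mul, _root_.mul_one]

theorem cj_mul (W W' : 𝟙_ (Over S) ⟶ G) : cj W' ≫ cj W = cj (W * W') := by
  have h := cj_cj W W' (𝟙 G)
  rwa [Category.id_comp, Category.id_comp] at h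

instance isIso_cj (W : 𝟙_ (Over S) ⟶ G) : IsIso (cj W) :=
  ⟨cj W⁻¹, by rw [cj_mul, inv_mul_cancel, cj_one], by rw [cj_mul, mul_inv_cancel, cj_one]⟩

variable (D : Red.SplitRed G)

theorem DSmap_comp {A B C : Type} [AddCommGroup A] [AddCommGroup B] [AddCommGroup C] (φ : A →+ B) (ψ : B →+ C) :
    Red.DSmap S ψ ≫ Red.DSmap S φ = Red.DSmap S (ψ.comp φ) := by
  refine hom_ext_pt fun R _ g j => ?_
  obtain ⟨χ, rfl⟩ := ds_surjective g j
  rw [← Category.assoc, ds_DSmap, ds_DSmap, ds_DSmap]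
  congr 1

/-- the reflection of the torus -/
def phi (s : D.idx) : D.T ⟶ D.T :=
  D.split.hom.hom.hom ≫ Red.DSmap S (D.P.reflection s).toLinearMap.toAddMonoidHom ≫ D.split.inv.hom.hom

theorem phi_phi (s : D.idx) : phi D s ≫ phi D s = 𝟙 D.T := by
  simp only [phi, Category.assoc]
  rw [reassoc_of% (split_inv_hom D), reassoc_of% (DSmap_comp (S := S))]
  rw [show (D.P.reflection s).toLinearMap.toAddMonoidHom.comp (D.P.reflection s).toLinearMap.toAddMonoidHom =
      AddMonoidHom.id D.M from AddMonoidHom.ext fun m => D.P.reflection_same s m]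
  rw [show Red.DSmap S (AddMonoidHom.id D.M) = 𝟙 _ from hom_ext_pt fun R _ g j => by
    obtain ⟨χ, rfl⟩ := ds_surjective g j
    rw [ds_DSmap, Category.comp_id]; congr 1]
  rw [Category.id_comp, split_hom_inv]

theorem chi_phi (s c : D.idx) :
    phi D s ≫ D.split.hom.hom.hom ≫ Red.chi S (D.P.root c) =
      D.split.hom.hom.hom ≫ Red.chi S (D.P.root (D.P.reflectionPerm s c)) := by
  simp only [phi, Category.assoc]
  rw [reassoc_of% (split_inv_hom D), Red.chi, Red.chi, DSmap_comp]
  congr 2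
  refine AddMonoidHom.ext_int ?_
  simp [D.P.root_reflectionPerm]

theorem coroot_phi (s c : D.idx) :
    (Red.DSmap S (D.P.coroot c).toAddMonoidHom ≫ D.split.inv.hom.hom) ≫ phi D s =
      Red.DSmap S (D.P.coroot (D.P.reflectionPerm s c)).toAddMonoidHom ≫ D.split.inv.hom.hom := by
  simp only [phi, Category.assoc]
  rw [reassoc_of% (split_inv_hom D), reassoc_of% (DSmap_comp (S := S))]
  congr 2
  refine AddMonoidHom.ext fun m => ?_
  change D.P.coroot c (D.P.reflection s m) = D.P.coroot (D.P.reflectionPerm s c) m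
  rw [coroot_refl, reflection_apply', LinearMap.sub_apply, LinearMap.smul_apply, map_sub, map_smul, smul_eq_mul,
    smul_eq_mul, coroot_apply D c (D.P.root s), D.P.root_coroot'_eq_pairing, mul_comm]

/-- an `S`-point acting on the torus as the reflection -/
def ActsRefl (W : 𝟙_ (Over S) ⟶ G) (s : D.idx) : Prop :=
  ∀ (X : Over S) (t : X ⟶ D.T), (toUnit X ≫ W) * (t ≫ D.i) * (toUnit X ≫ W)⁻¹ = t ≫ phi D s ≫ D.i

/-- conjugation transporting root homomorphisms and coroots by a permutation -/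
def Tr (W : 𝟙_ (Over S) ⟶ G) (σ : Equiv.Perm D.idx) : Prop :=
  (∀ c, (Red.DSmap S (D.P.coroot c).toAddMonoidHom ≫ D.split.inv.hom.hom) ≫ D.i ≫ cj W =
    (Red.DSmap S (D.P.coroot (σ c)).toAddMonoidHom ≫ D.split.inv.hom.hom) ≫ D.i) ∧
  ∀ c (v : Red.Ga S ⟶ G), Red.IsRootHom D.i (D.split.hom.hom.hom ≫ Red.chi S (D.P.root c)) v →
    Red.IsRootHom D.i (D.split.hom.hom.hom ≫ Red.chi S (D.P.root (σ c))) (v ≫ cj W)

variable {D}

theorem tr_one : Tr D (1 : 𝟙_ (Over S) ⟶ G) 1 := by
  refine ⟨fun c => ?_, fun c v hv => ?_⟩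
  · rw [cj_one, Category.comp_id]; rfl
  · rw [cj_one, Category.comp_id]; exact hv

theorem Tr.mul {W W' : 𝟙_ (Over S) ⟶ G} {σ σ' : Equiv.Perm D.idx} (h : Tr D W σ) (h' : Tr D W' σ') :
    Tr D (W * W') (σ * σ') := by
  refine ⟨fun c => ?_, fun c v hv => ?_⟩
  · rw [← cj_mul, ← Category.assoc D.i, ← Category.assoc, h'.1 c, Category.assoc, h.1 (σ' c)]
    rfl
  · rw [← cj_mul, ← Category.assoc]
    exact h.2 (σ' c) _ (h'.2 c v hv)

theorem tr_of_acts {W : 𝟙_ (Over S) ⟶ G} {s : D.idx} (h : ActsRefl D W s) : Tr D W (D.P.reflectionPerm s) := by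
  refine ⟨fun c => ?_, fun c v hv => ?_⟩
  · rw [← Category.assoc _ D.i, comp_cj, h, ← Category.assoc, coroot_phi]
  · haveI := hv.1
    haveI := hv.2.1
    refine ⟨inferInstance, ?_, fun X t x => ?_⟩
    · haveI : IsIso (cj W).left := inferInstanceAs (IsIso ((Over.forget S).map (cj W)))
      rw [Over.comp_left]; infer_instance
    · obtain ⟨y, hy, hy2⟩ := hv.2.2 X (t ≫ phi D s) x
      refine ⟨y, ?_, ?_⟩
      · rw [← Category.assoc, hy, comp_cj, ← Category.assoc x, comp_cj]
        have ht : (toUnit X ≫ W) * ((t ≫ phi D s) ≫ D.i) * (toUnit X ≫ W)⁻¹ = t ≫ D.i := by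
          rw [h, ← Category.assoc, Category.assoc t, phi_phi, Category.comp_id]
        rw [← ht]
        group
      · rw [hy2, Category.assoc, chi_phi]

theorem tr_word (w : D.idx → (𝟙_ (Over S) ⟶ G)) (l : List D.idx) (h : ∀ s ∈ l, ActsRefl D (w s) s) :
    Tr D (l.map w).prod (l.map D.P.reflectionPerm).prod := by
  induction l with
  | nil => exact tr_one
  | cons s l ih =>
    rw [List.map_cons, List.map_cons, List.prod_cons, List.prod_cons]
    exact (tr_of_acts (h s List.mem_cons_self)).mul (ih fun t ht => h t (List.mem_cons_of_mem s ht))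

/-- the inverse word, each letter tripled -/
def invW {α : Type*} : List α → List α
  | [] => []
  | s :: l => invW l ++ [s, s, s]

theorem mem_invW {α : Type*} {l : List α} {x : α} (h : x ∈ invW l) : x ∈ l := by
  induction l with
  | nil => exact h
  | cons s l ih =>
    rw [invW, List.mem_append] at h
    rcases h with h | h
    · exact List.mem_cons_of_mem s (ih h)
    · simp only [List.mem_cons, List.not_mem_nil, or_false, or_self] at h
      exact h ▸ List.mem_cons_self

theorem prod_invW {α M : Type*} [Group M] (f : α → M) (l : List α) (h : ∀ s ∈ l, f s ^ 4 = 1) :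
    ((invW l).map f).prod = ((l.map f).prod)⁻¹ := by
  induction l with
  | nil => simp [invW]
  | cons s l ih =>
    have h4 : f s * (f s * (f s * f s)) = 1 := by
      rw [← h s List.mem_cons_self]; simp only [pow_succ, pow_zero, _root_.one_mul, _root_.mul_assoc]
    rw [invW, List.map_append, List.prod_append, ih fun t ht => h t (List.mem_cons_of_mem s ht), List.map_cons,
      List.map_cons, List.map_cons, List.map_nil, List.prod_cons, List.prod_cons, List.prod_cons, List.prod_nil,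
      List.map_cons, List.prod_cons, _root_.mul_inv_rev, _root_.mul_one, ← inv_eq_of_mul_eq_one_right h4]

theorem refl_pow_four (s : D.idx) : (D.P.reflectionPerm s : Equiv.Perm D.idx) ^ 4 = 1 :=
  Equiv.ext fun c => by simp [pow_succ, D.P.reflectionPerm_self]

theorem wPt_pow_four {R : Type u} [CommRing R] (g : Spec (CommRingCat.of R) ⟶ S) {a a' : D.idx} {k : Rˣ}
    (ha : D.P.root a' = -D.P.root a) (hk : Dual g D a a' (k : R)) : wPt g D a a' k R ^ 4 = 1 := by
  have h : (wPt g D a a' k R * wPt g D a a' k R) * (wPt g D a a' k R * wPt g D a a' k R) = 1 := by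
    rw [wPt_sq g D ha hk, ← tPt_mul, ← cor_mul, neg_one_mul, neg_neg, cor_one, tPt_one]
  rw [← h]
  simp only [pow_succ, pow_zero, _root_.one_mul, _root_.mul_assoc]

theorem sign_aux {H : Type*} [Group H] (L Wd n Wb x y z : H) (hL : L = Wd⁻¹ * (n * Wb))
    (h : L * x * L⁻¹ = y) (hz : z = Wd * y * Wd⁻¹) : n * (Wb * x * Wb⁻¹) * n⁻¹ = z := by
  rw [hz, ← h, hL]; group

end Groth.Agent.H21Split.R2
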