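import Groth.Agent.H21Split.R2.Roots
import Mathlib.LinearAlgebra.RootSystem.Chain

/-!
The root strings behind the table of commutator constants.
-/

namespace Groth.Agent.H21Split.R2

open RootPairing

set_option linter.style.haveILetI false
set_option linter.unusedSectionVars false

variable {ι M N : Type} [Finite ι] [AddCommGroup M] [AddCommGroup N] (P : RootPairing ι ℤ M N)
variable {a b : ι}

theorem pairing_same' (a : ι) : P.pairing a a = 2 := P.pairing_same a

theorem indep_of_forall (h : ∀ r s : ℤ, r • P.root a + s • P.root b = 0 → r = 0 ∧ s = 0) :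
    LinearIndependent ℤ ![P.root a, P.root b] := LinearIndependent.pair_iff.mpr h

theorem indep_shift (h : LinearIndependent ℤ ![P.root a, P.root b]) {d : ι} (k : ℤ)
    (hd : P.root d = P.root b + k • P.root a) : LinearIndependent ℤ ![P.root a, P.root d] := by
  rw [LinearIndependent.pair_iff] at h ⊢
  intro r s hrs
  obtain ⟨h1, h2⟩ := h (r + s * k) s (by rw [← hrs, hd]; module)
  subst h2
  exact ⟨by simpa using h1, rfl⟩

/-- the value of the pairing from the ends of the string -/
theorem pairing_of_string (h : LinearIndependent ℤ ![P.root a, P.root b]) {r q : ℕ}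
    (hr : P.root b - (r : ℤ) • P.root a ∈ Set.range P.root)
    (hr' : P.root b - ((r : ℤ) + 1) • P.root a ∉ Set.range P.root)
    (hq : P.root b + (q : ℤ) • P.root a ∈ Set.range P.root)
    (hq' : P.root b + ((q : ℤ) + 1) • P.root a ∉ Set.range P.root) : P.pairing b a = (r : ℤ) - q := by
  haveI : IsAddTorsionFree M := by
    haveI : Module.IsReflexive ℤ M := .of_isPerfPair P.toLinearMap
    exact .of_isTorsionFree ℤ M
  have h1 := P.chainBotCoeff_sub_chainTopCoeff h
  rw [P.root_sub_zsmul_mem_range_iff h, Set.mem_Icc] at hr hr'
  rw [P.root_add_zsmul_mem_range_iff h, Set.mem_Icc] at hq hq'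
  have e : P.pairingIn ℤ b a = P.pairing b a := by simpa using P.algebraMap_pairingIn ℤ b a
  omega

theorem pairing_prod_nonneg (a b : ι) : 0 ≤ P.pairing a b * P.pairing b a := by
  haveI : Module.IsReflexive ℤ M := .of_isPerfPair P.toLinearMap
  haveI : IsAddTorsionFree M := .of_isTorsionFree ℤ M
  have h := P.coxeterWeightIn_mem_set_of_isCrystallographic a b
  have e : P.coxeterWeightIn ℤ a b = P.pairing a b * P.pairing b a := by
    simpa [RootPairing.coxeterWeight] using P.algebraMap_coxeterWeightIn ℤ a b
  simp only [Set.mem_insert_iff, Set.mem_singleton_iff] at h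
  omega

/-- independent roots with a negative pairing: the possible values -/
theorem pairing_partner (h : LinearIndependent ℤ ![P.root a, P.root b]) {m : ℤ} (hm : 0 < m)
    (hA : P.pairing b a = -m) (hlen : m = 1 → |P.pairing a b| ≤ 1) : P.pairing a b = -1 := by
  haveI : Module.IsReflexive ℤ M := .of_isPerfPair P.toLinearMap
  haveI : IsAddTorsionFree M := .of_isTorsionFree ℤ M
  have h4 := pairing_prod_lt_four P h
  have hne : P.pairing a b ≠ 0 := fun h0 => by
    rw [P.pairing_eq_zero_iff'] at h0
    omega
  have hpos := pairing_prod_nonneg P a b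
  rw [hA] at h4 hpos
  set x := P.pairing a b
  have hx : x ≤ -1 := by
    by_contra hc
    have : 1 ≤ x := by omega
    nlinarith
  by_cases h1 : m = 1
  · have := hlen h1
    rw [abs_le] at this
    omega
  · refine le_antisymm hx ?_
    by_contra hc
    have h5 : x ≤ -2 := by omega
    have h6 : 2 ≤ m := by omega
    nlinarith

/-- the string of length three through a root at its bottom -/
theorem pairing_of_long_string (h : LinearIndependent ℤ ![P.root a, P.root b]) {d : ι}
    (hd : P.root d = P.root b + (3 : ℤ) • P.root a) (hm : P.root b - P.root a ∉ Set.range P.root) :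
    P.pairing b a = -3 := by
  haveI : Module.IsReflexive ℤ M := .of_isPerfPair P.toLinearMap
  haveI : IsAddTorsionFree M := .of_isTorsionFree ℤ M
  have hq : P.root b + (3 : ℤ) • P.root a ∈ Set.range P.root := ⟨d, hd⟩
  rw [← one_zsmul (P.root a)] at hm
  have h1 := P.chainBotCoeff_sub_chainTopCoeff h
  rw [P.root_sub_zsmul_mem_range_iff h, Set.mem_Icc] at hm
  rw [P.root_add_zsmul_mem_range_iff h, Set.mem_Icc] at hq
  have e : P.pairingIn ℤ b a = P.pairing b a := by simpa using P.algebraMap_pairingIn ℤ b a
  have h4 := pairing_prod_lt_four P h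
  have hne : P.pairing a b ≠ 0 := fun h0 => by
    rw [P.pairing_eq_zero_iff'] at h0
    omega
  have hpos := pairing_prod_nonneg P a b
  have hneg : P.pairing b a ≤ -3 := by omega
  have hx : P.pairing a b ≤ -1 := by
    by_contra hc
    have : 1 ≤ P.pairing a b := by omega
    nlinarith
  nlinarith

/-- the reflection moves along the string -/
theorem refl_eq {c : ι} {m : ℤ} (hA : P.pairing b a = -m) (hc : P.root c = P.root b + m • P.root a) :
    P.reflectionPerm a b = c := by
  refine P.root.injective ?_
  rw [P.root_reflectionPerm, P.reflection_apply_root, hA, hc, neg_smul, sub_neg_eq_add]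

end Groth.Agent.H21Split.R2
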