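import Groth.Agent.H21Split.R2.G2Coeff

/-!
The commutator formulas of systems of type A₂ and B₂.
-/

open CategoryTheory MonoidalCategory CartesianMonoidalCategory MonObj GrpObj AlgebraicGeometry
open TrivSqZeroExt (inl inr)

universe u

set_option backward.isDefEq.respectTransparency false
set_option linter.style.haveILetI false
set_option linter.unusedSectionVars false
set_option synthInstance.maxHeartbeats 400000

noncomputable section

namespace Groth.Agent.H21Split.R2

variable {S : Scheme.{u}} {R : Type u} [CommRing R] (g : Spec (CommRingCat.of R) ⟶ S)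
variable {G : Over S} [GrpObj G] (D : Red.SplitRed G)

/-- roots `a`, `b` spanning A₂ with `b - a` not a root -/
structure A2Data where
  a : D.idx
  b : D.idx
  a' : D.idx
  b' : D.idx
  e : D.idx
  ka : Rˣ
  kb : Rˣ
  M : Rˣ
  N : Rˣ
  hA : D.P.pairing b a = -1
  hB : D.P.pairing a b = -1
  hsub : D.P.root b - D.P.root a ∉ Set.range D.P.root
  ha' : D.P.root a' = -D.P.root a
  hb' : D.P.root b' = -D.P.root b
  he : D.P.root e = (1 : ℤ) • D.P.root a + (1 : ℤ) • D.P.root b
  hka : Dual g D a a' (ka : R)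
  hkb : Dual g D b b' (kb : R)
  nAb : HasN g D a a' ka b e (N : R)
  nBa : HasN g D b b' kb a e (M : R)

/-- roots `a`, `b` spanning B₂ (`a` short) -/
structure B2Data where
  a : D.idx
  b : D.idx
  a' : D.idx
  b' : D.idx
  e : D.idx
  f : D.idx
  ka : Rˣ
  kb : Rˣ
  M : Rˣ
  N : Rˣ
  P : Rˣ
  hA : D.P.pairing b a = -2
  hB : D.P.pairing a b = -1
  ha' : D.P.root a' = -D.P.root a
  hb' : D.P.root b' = -D.P.root b
  he : D.P.root e = (1 : ℤ) • D.P.root a + (1 : ℤ) • D.P.root b
  hf : D.P.root f = (2 : ℤ) • D.P.root a + (1 : ℤ) • D.P.root b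
  hka : Dual g D a a' (ka : R)
  hkb : Dual g D b b' (kb : R)
  nAb : HasN g D a a' ka b f (N : R)
  nAe : HasN g D a a' ka e e (P : R)
  nBa : HasN g D b b' kb a e (M : R)

variable {g D}

theorem zpow_odd {n : ℤ} (h : Odd n) : ((-1 : Rˣ) ^ n : Rˣ) = -1 := by rw [Odd.neg_zpow h, one_zpow]

theorem zpow_even {n : ℤ} (h : Even n) : ((-1 : Rˣ) ^ n : Rˣ) = 1 := by rw [Even.neg_zpow h, one_zpow]

/-- the linear action of `u_b` on `L_a` from the formula of `a` and `b` -/
theorem linear_swap [IsAffineHom G.hom] {a b : D.idx} {n : ℕ} (e : Fin (n + 1) → D.idx) (i : Fin (n + 1) → ℕ)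
    (C : Fin (n + 1) → R) (jj : Fin (n + 1) → ℕ) (hi0 : i 0 = 1) (hj0 : jj 0 = 1) (hi : ∀ k : Fin n, 2 ≤ i k.succ)
    (hC : ∀ (B : Type u) [CommRing B] [Algebra R B] (x y : B),
      uPt g D a x * uPt g D b y * (uPt g D a x)⁻¹ = uPt g D b y *
        (List.ofFn fun k => uPt g D (e k) (algebraMap R B (C k) * x ^ i k * y ^ jj k)).prod) (t y : R) :
    uPt g D b (inl t : DualNumber R) * uPt g D a (inr y : DualNumber R) * (uPt g D b (inl t : DualNumber R))⁻¹ =
      LL g D [(e 0, -(C 0 * t * y)), (a, y)] := by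
  have h := hC (DualNumber R) (inr y) (-inl t)
  rw [List.ofFn_succ, List.prod_cons, List.prod_eq_one (l := List.ofFn _) ?_, _root_.mul_one, hi0, hj0, pow_one, pow_one] at h
  · rw [mul_inv_eq_iff_eq_mul, uPt_neg] at h
    rw [LL_cons, LL_singleton]
    calc _ = uPt g D b (inl t : DualNumber R) *
        (uPt g D a (inr y : DualNumber R) * (uPt g D b (inl t : DualNumber R))⁻¹) := by group
      _ = _ := by
        rw [h, ← pow_one (-inl t : DualNumber R), TrivSqZeroExt.algebraMap_eq_inl', dual_swap_pow, ← uPt_neg, pow_one]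
        simp only [Algebra.algebraMap_self_apply]
        rw [uPt_neg, ← _root_.mul_assoc, ← _root_.mul_assoc, mul_inv_cancel, _root_.one_mul]
        congr 3
        ring
  · intro z hz
    obtain ⟨k, rfl⟩ := List.mem_ofFn.mp hz
    have h0 : (inr y : DualNumber R) ^ i k.succ = 0 := by
      rw [← Nat.sub_add_cancel (hi k), pow_add, pow_two, TrivSqZeroExt.inr_mul_inr, mul_zero]
    rw [h0, mul_zero, zero_mul, uPt_zero]

variable [IsAffineHom G.hom]

open Classical in
/-- the two braid relations of A₂ -/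
theorem A2Data.rel (T : A2Data g D) :
    (T.N : R) = -T.M ∧ ∀ (B : Type u) [CommRing B] [Algebra R B] (x y : B),
      uPt g D T.a x * uPt g D T.b y * (uPt g D T.a x)⁻¹ =
        uPt g D T.b y * uPt g D T.e (-algebraMap R B T.M * x * y) := by
  haveI := D.fintypeIdx
  haveI : Finite D.idx := Finite.of_fintype _
  have ha0 : D.P.root T.a = (1 : ℤ) • D.P.root T.a + (0 : ℤ) • D.P.root T.b := by simp
  have hb0 : D.P.root T.b = (0 : ℤ) • D.P.root T.a + (1 : ℤ) • D.P.root T.b := by simp
  have hr : ∀ (c : D.idx) (i j : ℤ), D.P.root c = i • D.P.root T.a + j • D.P.root T.b → 1 ≤ i → 1 ≤ j →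
      IsPosRootCoord 1 i j ∧ ¬((1 : ℤ) = 2 ∧ i = 2 ∧ j = 2) := fun c i j hc hi hj =>
    ⟨pos_root_coord D.P T.hA T.hB (by norm_num) (fun _ => T.hsub) hc hi hj, by norm_num⟩
  obtain ⟨C, hC⟩ := exists_formula g D (m := 1) T.hA T.hB (by norm_num) hr T.a T.b 1 0 0 1 (by simp) (by simp) (by omega)
    (by norm_num) ![T.e] ![1] ![1] (by decide) (fun k => by fin_cases k; simp) (fun k => by fin_cases k; simp [T.he])
    (fun p q _ _ h _ => by
      simp only [IsPosRootCoord, Fin.exists_fin_succ, Matrix.cons_val_zero, IsEmpty.exists_iff] at h ⊢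
      omega)
  have hC' : ∀ (B : Type u) [CommRing B] [Algebra R B] (x y : B), uPt g D T.a x * uPt g D T.b y * (uPt g D T.a x)⁻¹ =
      uPt g D T.b y * uPt g D T.e (algebraMap R B (C 0) * x * y) := fun B _ _ x y => by
    rw [hC B x y]; simp [List.ofFn_succ]
  have ne1 : T.a ≠ T.e := fun h => by
    have := comb_inj D.P T.hA T.hB (by norm_num) ((congrArg D.P.root h).symm.trans ha0 |>.symm.trans T.he); omega
  have ne2 : T.b ≠ T.e := fun h => by
    have := comb_inj D.P T.hA T.hB (by norm_num) ((congrArg D.P.root h).symm.trans hb0 |>.symm.trans T.he); omega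
  have fix : ∀ (c : D.idx) (i j : ℤ), D.P.root c = i • D.P.root T.a + j • D.P.root T.b → 0 ≤ i → 0 ≤ j →
      ¬IsPosRootCoord 1 (i + 1) (j + 1) → ∀ x y : DualNumber R, uPt g D c x * uPt g D T.e y = uPt g D T.e y * uPt g D c x := by
    intro c i j hc hi hj hn x y
    have e0 : D.P.root c + D.P.root T.e = (i + 1) • D.P.root T.a + (j + 1) • D.P.root T.b := by rw [hc, T.he]; module
    refine uPt_commute g D (e0 ▸ fun h => ?_) (e0 ▸ fun ⟨r, hr'⟩ => ?_) x y
    · have := comb_eq_zero D.P T.hA T.hB (by norm_num) h; omega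
    · exact hn (hr r _ _ hr' (by omega) (by omega)).1
  have ze : D.P.pairing T.b T.a = -1 := T.hA
  have nAe : HasN g D T.a T.a' T.ka T.e T.b (-↑T.N⁻¹) := by
    have h := T.nAb.symm' g D T.ha' T.hka T.N rfl
    rw [zpow_odd (by rw [T.hA]; decide), neg_one_mul, Units.val_neg] at h
    exact h
  have nBe : HasN g D T.b T.b' T.kb T.e T.a (-↑T.M⁻¹) := by
    have h := T.nBa.symm' g D T.hb' T.hkb T.M rfl
    rw [zpow_odd (by rw [T.hB]; decide), neg_one_mul, Units.val_neg] at h
    exact h
  have lC : ∀ t y : R, uPt g D T.a (inl t : DualNumber R) * uPt g D T.b (inr y : DualNumber R) *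
      (uPt g D T.a (inl t : DualNumber R))⁻¹ = LL g D [(T.b, y), (T.e, C 0 * t * y)] := fun t y => by
    rw [hC', dual_one, LL_cons, LL_singleton, Algebra.algebraMap_self_apply]
  have lB := linear_swap (g := g) (D := D) (a := T.a) (b := T.b) ![T.e] ![1] C ![1] rfl rfl (fun k => k.elim0)
    (fun B _ _ x y => by rw [hC']; simp [List.ofFn_succ])
  have neg1 : ∀ c : D.idx, (uPt g D c (inl (1 : R) : DualNumber R))⁻¹ = uPt g D c (inl (-1 : R) : DualNumber R) :=
    fun c => by rw [← uPt_neg, ← TrivSqZeroExt.inl_neg]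
  have hWa := wPt_braid g D T.ha' T.hka (B := DualNumber R)
  have hWb := wPt_braid g D T.hb' T.hkb (B := DualNumber R)
  rw [show (1 : DualNumber R) = inl 1 from rfl] at hWa hWb
  have e1 : (T.M : R) = -C 0 := by
    have h := braid_conj hWb (X := uPt g D T.a (inr (1 : R) : DualNumber R))
      (Y := uPt g D T.e (inr (T.M : R) : DualNumber R)) (Z := uPt g D T.a (inr (-1 : R) : DualNumber R))
      (by simpa using HasN.inr g D T.nBa (1 : R)) (fix_of_commute (fix T.b 0 1 hb0 le_rfl zero_le_one (by norm_num [IsPosRootCoord]) _ _))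
      (by simpa using HasN.inr g D nBe (T.M : R))
    rw [lB 1 1, conj_LL g D (wPt g D T.b T.b' T.kb (DualNumber R)) _ [(T.a, ↑T.M⁻¹ * C 0), (T.e, (T.M : R))]
      (List.Forall₂.cons (by simpa using HasN.inr g D nBe (-(C 0))) <|
        List.Forall₂.cons (by simpa using HasN.inr g D T.nBa (1 : R)) List.Forall₂.nil)] at h
    rw [neg1, lB (-1) (-1)] at h
    simpa [ne1, ne1.symm] using coord_eq g D h T.e
  have e2 : (T.N : R) = C 0 := by
    have h := braid_conj hWa (X := uPt g D T.b (inr (1 : R) : DualNumber R))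
      (Y := uPt g D T.e (inr (T.N : R) : DualNumber R)) (Z := uPt g D T.b (inr (-1 : R) : DualNumber R))
      (by simpa using HasN.inr g D T.nAb (1 : R)) (fix_of_commute (fix T.a 1 0 ha0 zero_le_one le_rfl (by norm_num [IsPosRootCoord]) _ _))
      (by simpa using HasN.inr g D nAe (T.N : R))
    rw [lC 1 1, conj_LL g D (wPt g D T.a T.a' T.ka (DualNumber R)) _ [(T.e, (T.N : R)), (T.b, -↑T.N⁻¹ * C 0)]
      (List.Forall₂.cons (by simpa using HasN.inr g D T.nAb (1 : R)) <|
        List.Forall₂.cons (by simpa using HasN.inr g D nAe (C 0)) List.Forall₂.nil)] at h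
    rw [neg1, lC (-1) (-1)] at h
    simpa [ne2, ne2.symm] using coord_eq g D h T.e
  have hc : C 0 = -(T.M : R) := by rw [e1, neg_neg]
  exact ⟨e2.trans hc, fun B _ _ x y => by rw [hC', hc, map_neg]⟩

theorem swap_left {H : Type*} [Group H] {x y P : H} (h : x * y * x⁻¹ = y * P) : y⁻¹ * x * y = P * x := by
  calc y⁻¹ * x * y = y⁻¹ * (x * y * x⁻¹) * x := by group
    _ = _ := by rw [h]; group

open Classical in
/-- the coefficient at `2a+2b` in the commutator of `a` and `b` vanishes -/
theorem B2Data.coeff22 (T : B2Data g D) (r : D.idx)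
    (hr22 : D.P.root r = (2 : ℤ) • D.P.root T.a + (2 : ℤ) • D.P.root T.b) (C : Fin 3 → R)
    (h3 : ∀ (B : Type u) [CommRing B] [Algebra R B] (x y : B), uPt g D T.a x * uPt g D T.b y * (uPt g D T.a x)⁻¹ =
      uPt g D T.b y * (uPt g D T.e (algebraMap R B (C 0) * x * y) * uPt g D T.f (algebraMap R B (C 1) * x ^ 2 * y) *
        uPt g D r (algebraMap R B (C 2) * x ^ 2 * y ^ 2))) : C 2 = 0 := by
  haveI := D.fintypeIdx
  haveI : Finite D.idx := Finite.of_fintype _
  have hm : (2 : ℤ) = 1 ∨ (2 : ℤ) = 2 ∨ (2 : ℤ) = 3 := by norm_num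
  have ha0 : D.P.root T.a = (1 : ℤ) • D.P.root T.a + (0 : ℤ) • D.P.root T.b := by simp
  have hb0 : D.P.root T.b = (0 : ℤ) • D.P.root T.a + (1 : ℤ) • D.P.root T.b := by simp
  have hr : ∀ (c : D.idx) (i j : ℤ), D.P.root c = i • D.P.root T.a + j • D.P.root T.b → 1 ≤ i → 1 ≤ j →
      IsPosRootCoord 2 i j := fun c i j hc hi hj => pos_root_coord D.P T.hA T.hB hm (by norm_num) hc hi hj
  set q := D.P.reflectionPerm T.b r with hqdef
  have hq : D.P.root q = (2 : ℤ) • D.P.root T.a + (0 : ℤ) • D.P.root T.b := by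
    rw [hqdef, D.P.root_reflectionPerm, D.P.reflection_apply_root, ← D.P.root_coroot'_eq_pairing, hr22,
      coroot_b D.P T.hB]
    module
  have eb : D.P.reflectionPerm T.b T.b = T.b' := D.P.root.injective (by
    rw [D.P.root_reflectionPerm, D.P.reflection_apply_self, T.hb'])
  have ee : D.P.reflectionPerm T.b T.a = T.e := D.P.root.injective (by
    rw [D.P.root_reflectionPerm, D.P.reflection_apply_root, T.hB, T.he]; module)
  have hA2 : D.P.pairing T.b' T.e = -2 := by
    rw [← ee, D.P.pairing_reflectionPerm, ← eb, D.P.reflectionPerm_self, T.hA]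
  have hB2 : D.P.pairing T.e T.b' = -1 := by
    rw [← eb, D.P.pairing_reflectionPerm_self_right, ← D.P.root_coroot'_eq_pairing, T.he, coroot_b D.P T.hB]; norm_num
  have hr2 : ∀ (c : D.idx) (i j : ℤ), D.P.root c = i • D.P.root T.e + j • D.P.root T.b' → 1 ≤ i → 1 ≤ j →
      IsPosRootCoord 2 i j := fun c i j hc hi hj => pos_root_coord D.P hA2 hB2 hm (by norm_num) hc hi hj
  obtain ⟨F, hF⟩ := exists_formula' g D (m := 2) hA2 hB2 hm hr2 T.e T.b' 1 0 0 1 (by simp) (by simp) (by omega)
    (by norm_num) ![T.a, T.f, q] ![1, 2, 2] ![1, 1, 2] (by decide) (fun k => by fin_cases k <;> simp)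
    (fun k => by
      fin_cases k
      · simp [T.he, T.hb']
      · simp [T.he, T.hb', T.hf]; module
      · simp [T.he, T.hb', hq])
    (fun p q' _ _ _ h => by
      simp only [IsPosRootCoord, Fin.exists_fin_succ, Matrix.cons_val_zero, Matrix.cons_val_succ, IsEmpty.exists_iff, true_and, or_false, Nat.cast_one, Nat.cast_zero, mul_zero, add_zero, zero_add] at h ⊢
      omega)
  obtain ⟨E, hE⟩ := exists_formula' g D (m := 2) T.hA T.hB hm hr T.a T.e 1 0 1 1 (by simp) (by simpa using T.he) (by omega)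
    (by norm_num) ![T.f] ![1] ![1] (by decide) (fun k => by fin_cases k; simp)
    (fun k => by fin_cases k; simp [T.hf])
    (fun p q' _ _ _ h => by
      simp only [IsPosRootCoord, Fin.exists_fin_succ, Matrix.cons_val_zero, Matrix.cons_val_succ, IsEmpty.exists_iff, true_and, or_false] at h ⊢
      omega)
  have fix : ∀ (c d : D.idx) (i j k l : ℤ), D.P.root c = i • D.P.root T.a + j • D.P.root T.b →
      D.P.root d = k • D.P.root T.a + l • D.P.root T.b →
      (1 ≤ i + k ∧ 1 ≤ j + l ∧ ¬IsPosRootCoord 2 (i + k) (j + l)) →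
      ∀ x y : R, uPt g D c x * uPt g D d y = uPt g D d y * uPt g D c x := by
    intro c d i j k l hc hd hn x y
    have e0 : D.P.root c + D.P.root d = (i + k) • D.P.root T.a + (j + l) • D.P.root T.b := by rw [hc, hd]; module
    refine uPt_commute g D (e0 ▸ fun h => ?_) (e0 ▸ fun ⟨c', hc'⟩ => ?_) x y
    · have := comb_eq_zero D.P T.hA T.hB (by norm_num) h; omega
    · exact hn.2.2 (hr c' _ _ hc' hn.1 hn.2.1)
  set u : R := C 0 * 1 * -1
  set v : R := C 1 * 1 ^ 2 * -1
  set z : R := C 2 * 1 ^ 2 * (-1) ^ 2 with hzdef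
  set c : R := -((T.kb⁻¹ : Rˣ) : R) with hcdef
  have hK : uPt g D T.b (1 : R) * uPt g D T.a (1 : R) * (uPt g D T.b (1 : R))⁻¹ =
      uPt g D T.e u * uPt g D T.f v * uPt g D r z * uPt g D T.a (1 : R) := by
    have h := swap_left (h3 R (1 : R) (-1))
    rw [uPt_neg, _root_.inv_inv] at h
    simpa only [Algebra.algebraMap_self_apply] using h
  have hM : uPt g D T.b' c * (uPt g D T.b (1 : R) * uPt g D T.a (1 : R) * (uPt g D T.b (1 : R))⁻¹) *
      (uPt g D T.b' c)⁻¹ = uPt g D T.e (T.M : R) := by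
    have h := T.nBa R 1
    have hc : uPt g D T.b' (-algebraMap R R ((T.kb⁻¹ : Rˣ) : R)) = uPt g D T.b' c := by
      rw [hcdef, Algebra.algebraMap_self_apply]
    rw [wPt, hc, Algebra.algebraMap_self_apply, _root_.mul_one] at h
    have hcom := fix T.b T.e 0 1 1 1 hb0 T.he (by norm_num [IsPosRootCoord]) (1 : R) (T.M : R)
    calc _ = (uPt g D T.b (1 : R))⁻¹ * ((uPt g D T.b (1 : R) * uPt g D T.b' c * uPt g D T.b (1 : R)) *
        uPt g D T.a (1 : R) * (uPt g D T.b (1 : R) * uPt g D T.b' c * uPt g D T.b (1 : R))⁻¹) *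
        uPt g D T.b (1 : R) := by group
      _ = _ := by rw [h, _root_.mul_assoc, ← hcom]; group
  have h := swap_left (hF R (T.M : R) c)
  have h' : uPt g D T.e u * uPt g D T.f v * uPt g D r z * uPt g D T.a (1 : R) =
      uPt g D T.a (F 0 * T.M * c) * uPt g D T.f (F 1 * T.M ^ 2 * c) * uPt g D q (F 2 * T.M ^ 2 * c ^ 2) *
        uPt g D T.e (T.M : R) := by
    calc _ = (uPt g D T.b' c)⁻¹ * (uPt g D T.b' c * (uPt g D T.e u * uPt g D T.f v * uPt g D r z * uPt g D T.a (1 : R)) *
        (uPt g D T.b' c)⁻¹) * uPt g D T.b' c := by group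
      _ = (uPt g D T.b' c)⁻¹ * uPt g D T.e (T.M : R) * uPt g D T.b' c := by rw [← hK, hM]
      _ = _ := by rw [h]; simp [List.ofFn_succ, _root_.mul_assoc]
  have hea : uPt g D T.e u * uPt g D T.a (1 : R) = uPt g D T.a (1 : R) * (uPt g D T.e u * uPt g D T.f (-(E 0 * u))) := by
    have h1 := hE R (-1) u
    rw [uPt_neg, _root_.inv_inv] at h1
    simp [List.ofFn_succ] at h1
    rw [← h1]; group
  have cfa := fix T.f T.a 2 1 1 0 T.hf ha0 (by norm_num [IsPosRootCoord]) v 1
  have cra := fix r T.a 2 2 1 0 hr22 ha0 (by norm_num [IsPosRootCoord]) z 1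
  have cfe := fix T.f T.e 2 1 1 1 T.hf T.he (by norm_num [IsPosRootCoord]) (F 1 * T.M ^ 2 * c) (T.M : R)
  have cqe := fix q T.e 2 0 1 1 hq T.he (by norm_num [IsPosRootCoord]) (F 2 * T.M ^ 2 * c ^ 2) (T.M : R)
  have hl : uPt g D T.e u * uPt g D T.f v * uPt g D r z * uPt g D T.a (1 : R) =
      uPt g D T.a (1 : R) * uPt g D T.e u * uPt g D T.f (-(E 0 * u) + v) * uPt g D r z := by
    rw [_root_.mul_assoc _ (uPt g D r z), cra, ← _root_.mul_assoc, _root_.mul_assoc _ (uPt g D T.f v), cfa,
      ← _root_.mul_assoc, hea, uPt_add]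
    simp only [_root_.mul_assoc]
  have hrr : uPt g D T.a (F 0 * T.M * c) * uPt g D T.f (F 1 * T.M ^ 2 * c) * uPt g D q (F 2 * T.M ^ 2 * c ^ 2) *
      uPt g D T.e (T.M : R) = uPt g D T.a (F 0 * T.M * c) * uPt g D T.e (T.M : R) *
        uPt g D T.f (F 1 * T.M ^ 2 * c) * uPt g D q (F 2 * T.M ^ 2 * c ^ 2) := by
    rw [_root_.mul_assoc _ (uPt g D q _), cqe, ← _root_.mul_assoc, _root_.mul_assoc _ (uPt g D T.f _), cfe,
      ← _root_.mul_assoc]
  rw [hl, hrr] at h'
  let L : D.M →ₗ[ℤ] ℤ := (D.P.coroot T.a : D.M →ₗ[ℤ] ℤ) + (D.P.coroot T.b : D.M →ₗ[ℤ] ℤ)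
  have hL : ∀ (c : D.idx) (i j : ℤ), D.P.root c = i • D.P.root T.a + j • D.P.root T.b →
      L.toAddMonoidHom (D.P.root c) = i := by
    intro c i j hc
    change L (D.P.root c) = _
    rw [LinearMap.add_apply, coroot_apply, coroot_apply, hc, coroot_a D.P T.hA, coroot_b D.P T.hB]
    ring
  have key := prod_uPt_injective g D ![T.a, T.e, T.f, q, r] ?_ L.toAddMonoidHom ?_
    (x := ![(1 : R), u, -(E 0 * u) + v, 0, z])
    (y := ![F 0 * T.M * c, (T.M : R), F 1 * T.M ^ 2 * c, F 2 * T.M ^ 2 * c ^ 2, 0])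
    (by simpa [List.ofFn_succ, uPt_zero, _root_.mul_assoc] using h')
  · simpa [hzdef] using congrFun key 4
  · intro k l hkl
    have := congrArg D.P.root hkl
    fin_cases k <;> fin_cases l <;> first
      | rfl
      | (exfalso
         simp only [Fin.mk_zero, Fin.mk_one, Matrix.cons_val_zero, Matrix.cons_val_one, Fin.reduceFinMk, Matrix.cons_val] at this
         first
          | exact absurd (comb_inj D.P T.hA T.hB (by norm_num) ((ha0.symm.trans this).trans T.he)) (by norm_num)
          | exact absurd (comb_inj D.P T.hA T.hB (by norm_num) ((T.he.symm.trans this).trans ha0)) (by norm_num)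
          | exact absurd (comb_inj D.P T.hA T.hB (by norm_num) ((ha0.symm.trans this).trans T.hf)) (by norm_num)
          | exact absurd (comb_inj D.P T.hA T.hB (by norm_num) ((T.hf.symm.trans this).trans ha0)) (by norm_num)
          | exact absurd (comb_inj D.P T.hA T.hB (by norm_num) ((ha0.symm.trans this).trans hq)) (by norm_num)
          | exact absurd (comb_inj D.P T.hA T.hB (by norm_num) ((hq.symm.trans this).trans ha0)) (by norm_num)
          | exact absurd (comb_inj D.P T.hA T.hB (by norm_num) ((ha0.symm.trans this).trans hr22)) (by norm_num)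
          | exact absurd (comb_inj D.P T.hA T.hB (by norm_num) ((hr22.symm.trans this).trans ha0)) (by norm_num)
          | exact absurd (comb_inj D.P T.hA T.hB (by norm_num) ((T.he.symm.trans this).trans T.hf)) (by norm_num)
          | exact absurd (comb_inj D.P T.hA T.hB (by norm_num) ((T.hf.symm.trans this).trans T.he)) (by norm_num)
          | exact absurd (comb_inj D.P T.hA T.hB (by norm_num) ((T.he.symm.trans this).trans hq)) (by norm_num)
          | exact absurd (comb_inj D.P T.hA T.hB (by norm_num) ((hq.symm.trans this).trans T.he)) (by norm_num)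
          | exact absurd (comb_inj D.P T.hA T.hB (by norm_num) ((T.he.symm.trans this).trans hr22)) (by norm_num)
          | exact absurd (comb_inj D.P T.hA T.hB (by norm_num) ((hr22.symm.trans this).trans T.he)) (by norm_num)
          | exact absurd (comb_inj D.P T.hA T.hB (by norm_num) ((T.hf.symm.trans this).trans hq)) (by norm_num)
          | exact absurd (comb_inj D.P T.hA T.hB (by norm_num) ((hq.symm.trans this).trans T.hf)) (by norm_num)
          | exact absurd (comb_inj D.P T.hA T.hB (by norm_num) ((T.hf.symm.trans this).trans hr22)) (by norm_num)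
          | exact absurd (comb_inj D.P T.hA T.hB (by norm_num) ((hr22.symm.trans this).trans T.hf)) (by norm_num)
          | exact absurd (comb_inj D.P T.hA T.hB (by norm_num) ((hq.symm.trans this).trans hr22)) (by norm_num)
          | exact absurd (comb_inj D.P T.hA T.hB (by norm_num) ((hr22.symm.trans this).trans hq)) (by norm_num))
  · intro k
    fin_cases k
    · simp [hL _ _ _ ha0]
    · simp [hL _ _ _ T.he]
    · simp [hL _ _ _ T.hf]
    · simp [hL _ _ _ hq]
    · simp [hL _ _ _ hr22]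

open Classical in
/-- the commutator formula of `a` and `b` in B₂, linearly and exactly -/
theorem B2Data.exists_ab (T : B2Data g D) :
    ∃ C : Fin 2 → R,
      (∀ (B : Type u) [CommRing B] [Algebra R B] (t y : B),
        uPt g D T.a (inl t : DualNumber B) * uPt g D T.b (inr y : DualNumber B) * (uPt g D T.a (inl t : DualNumber B))⁻¹ =
          LL g D [(T.b, y), (T.e, algebraMap R B (C 0) * t * y), (T.f, algebraMap R B (C 1) * t ^ 2 * y)]) ∧
      (∀ t y : R, uPt g D T.b (inl t : DualNumber R) * uPt g D T.a (inr y : DualNumber R) *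
        (uPt g D T.b (inl t : DualNumber R))⁻¹ = LL g D [(T.e, -(C 0 * t * y)), (T.a, y)]) ∧
      (∀ (B : Type u) [CommRing B] [Algebra R B] (x y : B), uPt g D T.a x * uPt g D T.b y * (uPt g D T.a x)⁻¹ =
          uPt g D T.b y * (uPt g D T.e (algebraMap R B (C 0) * x * y) * uPt g D T.f (algebraMap R B (C 1) * x ^ 2 * y))) := by
  haveI := D.fintypeIdx
  haveI : Finite D.idx := Finite.of_fintype _
  have hm : (2 : ℤ) = 1 ∨ (2 : ℤ) = 2 ∨ (2 : ℤ) = 3 := by norm_num
  have hr : ∀ (c : D.idx) (i j : ℤ), D.P.root c = i • D.P.root T.a + j • D.P.root T.b → 1 ≤ i → 1 ≤ j →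
      IsPosRootCoord 2 i j := fun c i j hc hi hj => pos_root_coord D.P T.hA T.hB hm (by norm_num) hc hi hj
  by_cases h22 : ∃ r : D.idx, D.P.root r = (2 : ℤ) • D.P.root T.a + (2 : ℤ) • D.P.root T.b
  · obtain ⟨r, hr22⟩ := h22
    obtain ⟨C, hC⟩ := exists_formula' g D (m := 2) T.hA T.hB hm hr T.a T.b 1 0 0 1 (by simp) (by simp) (by omega)
      (by norm_num) ![T.e, T.f, r] ![1, 2, 2] ![1, 1, 2] (by decide) (fun k => by fin_cases k <;> simp)
      (fun k => by fin_cases k <;> simp [T.he, T.hf, hr22])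
      (fun p q _ _ _ h => by
        simp only [IsPosRootCoord, Fin.exists_fin_succ, Matrix.cons_val_zero, Matrix.cons_val_succ, IsEmpty.exists_iff, true_and, or_false, Nat.cast_one, Nat.cast_zero, mul_zero, add_zero, zero_add] at h ⊢
        omega)
    refine ⟨![C 0, C 1], fun B _ _ t y => ?_, fun t y => ?_, fun B _ _ x y => ?_⟩
    · have h3 : ∀ (B : Type u) [CommRing B] [Algebra R B] (x y : B), uPt g D T.a x * uPt g D T.b y * (uPt g D T.a x)⁻¹ =
          uPt g D T.b y * (uPt g D T.e (algebraMap R B (C 0) * x * y) * uPt g D T.f (algebraMap R B (C 1) * x ^ 2 * y) *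
            uPt g D r (algebraMap R B (C 2) * x ^ 2 * y ^ 2)) :=
        fun B _ _ x y => by rw [hC B x y]; simp [List.ofFn_succ, _root_.mul_assoc]
      rw [h3, dual_one, dual_pow, pow_two (inr y : DualNumber B), TrivSqZeroExt.inr_mul_inr, mul_zero, uPt_zero,
        _root_.mul_one, LL_cons, LL_cons, LL_singleton]
      rfl
    · exact linear_swap (g := g) (D := D) ![T.e, T.f, r] ![1, 2, 2] C ![1, 1, 2] rfl rfl
        (fun k => by fin_cases k <;> simp) hC t y
    · have h3 : ∀ (B : Type u) [CommRing B] [Algebra R B] (x y : B), uPt g D T.a x * uPt g D T.b y * (uPt g D T.a x)⁻¹ =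
          uPt g D T.b y * (uPt g D T.e (algebraMap R B (C 0) * x * y) * uPt g D T.f (algebraMap R B (C 1) * x ^ 2 * y) *
            uPt g D r (algebraMap R B (C 2) * x ^ 2 * y ^ 2)) :=
        fun B _ _ x y => by rw [hC B x y]; simp [List.ofFn_succ, _root_.mul_assoc]
      rw [h3, T.coeff22 r hr22 C h3, map_zero, zero_mul, zero_mul, uPt_zero, _root_.mul_one]
      rfl
  · obtain ⟨C, hC⟩ := exists_formula' g D (m := 2) T.hA T.hB hm hr T.a T.b 1 0 0 1 (by simp) (by simp) (by omega)
      (by norm_num) ![T.e, T.f] ![1, 2] ![1, 1] (by decide) (fun k => by fin_cases k <;> simp)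
      (fun k => by fin_cases k <;> simp [T.he, T.hf])
      (fun p q _ _ hex h => by
        have hne : ¬((p : ℤ) = 2 ∧ (q : ℤ) = 2) := fun ⟨h1, h2⟩ => by
          obtain ⟨c, hc⟩ := hex
          exact h22 ⟨c, by rw [hc, h1, h2]⟩
        simp only [IsPosRootCoord, Fin.exists_fin_succ, Matrix.cons_val_zero, Matrix.cons_val_succ, IsEmpty.exists_iff, true_and, or_false, Nat.cast_one, Nat.cast_zero, mul_zero, add_zero, zero_add] at h ⊢
        omega)
    have hC' : ∀ (B : Type u) [CommRing B] [Algebra R B] (x y : B), uPt g D T.a x * uPt g D T.b y * (uPt g D T.a x)⁻¹ =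
        uPt g D T.b y * (uPt g D T.e (algebraMap R B (C 0) * x * y) * uPt g D T.f (algebraMap R B (C 1) * x ^ 2 * y)) :=
      fun B _ _ x y => by rw [hC B x y]; simp [List.ofFn_succ]
    refine ⟨C, fun B _ _ t y => ?_, fun t y => ?_, hC'⟩
    · rw [hC', dual_one, dual_pow, LL_cons, LL_cons, LL_singleton]
    · exact linear_swap (g := g) (D := D) ![T.e, T.f] ![1, 2] C ![1, 1] rfl rfl (fun k => by fin_cases k; simp) hC t y

open Classical in
set_option maxHeartbeats 1600000 in
/-- the formulas of B₂ -/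
theorem B2Data.rel (T : B2Data g D) :
    (T.P : R) = -1 ∧ (∀ (B : Type u) [CommRing B] [Algebra R B] (x y : B),
      uPt g D T.a x * uPt g D T.b y * (uPt g D T.a x)⁻¹ = uPt g D T.b y *
        (uPt g D T.e (-algebraMap R B T.M * x * y) * uPt g D T.f (algebraMap R B T.N * x ^ 2 * y))) ∧
      ∀ (B : Type u) [CommRing B] [Algebra R B] (x y : B),
      uPt g D T.a x * uPt g D T.e y * (uPt g D T.a x)⁻¹ = uPt g D T.e y *
        uPt g D T.f (algebraMap R B (-2 * T.N * ↑T.M⁻¹) * x * y) := by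
  haveI := D.fintypeIdx
  haveI : Finite D.idx := Finite.of_fintype _
  have hm : (2 : ℤ) = 1 ∨ (2 : ℤ) = 2 ∨ (2 : ℤ) = 3 := by norm_num
  have ha0 : D.P.root T.a = (1 : ℤ) • D.P.root T.a + (0 : ℤ) • D.P.root T.b := by simp
  have hb0 : D.P.root T.b = (0 : ℤ) • D.P.root T.a + (1 : ℤ) • D.P.root T.b := by simp
  have hr : ∀ (c : D.idx) (i j : ℤ), D.P.root c = i • D.P.root T.a + j • D.P.root T.b → 1 ≤ i → 1 ≤ j →
      IsPosRootCoord 2 i j := fun c i j hc hi hj => pos_root_coord D.P T.hA T.hB hm (by norm_num) hc hi hj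
  obtain ⟨C, lC, lB, hC'⟩ := T.exists_ab
  obtain ⟨E, hE⟩ := exists_formula' g D (m := 2) T.hA T.hB hm hr T.a T.e 1 0 1 1 (by simp) (by simpa using T.he) (by omega)
    (by norm_num) ![T.f] ![1] ![1] (by decide) (fun k => by fin_cases k; simp)
    (fun k => by fin_cases k; simp [T.hf])
    (fun p q _ _ _ h => by
      simp only [IsPosRootCoord, Fin.exists_fin_succ, Matrix.cons_val_zero, Matrix.cons_val_succ, IsEmpty.exists_iff, true_and, or_false] at h ⊢
      omega)
  have hE' : ∀ (B : Type u) [CommRing B] [Algebra R B] (x y : B), uPt g D T.a x * uPt g D T.e y * (uPt g D T.a x)⁻¹ =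
      uPt g D T.e y * uPt g D T.f (algebraMap R B (E 0) * x * y) := fun B _ _ x y => by
    rw [hE B x y]; simp [List.ofFn_succ]
  have key : ∀ {c d : D.idx} {i j k l : ℤ}, D.P.root c = i • D.P.root T.a + j • D.P.root T.b →
      D.P.root d = k • D.P.root T.a + l • D.P.root T.b → (i ≠ k ∨ j ≠ l) → c ≠ d := fun hc hd hn h => by
    subst h
    obtain ⟨h1, h2⟩ := comb_inj D.P T.hA T.hB (by norm_num) (hc.symm.trans hd)
    rcases hn with h | h
    exacts [h h1, h h2]
  have nae := key ha0 T.he (by norm_num)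
  have nbe := key hb0 T.he (by norm_num)
  have nbf := key hb0 T.hf (by norm_num)
  have nef := key T.he T.hf (by norm_num)
  have fix : ∀ (c d : D.idx) (i j k l : ℤ), D.P.root c = i • D.P.root T.a + j • D.P.root T.b →
      D.P.root d = k • D.P.root T.a + l • D.P.root T.b → 1 ≤ i + k → 1 ≤ j + l →
      ¬IsPosRootCoord 2 (i + k) (j + l) →
      ∀ (B : Type u) [CommRing B] [Algebra R B] (x y : B), uPt g D c x * uPt g D d y = uPt g D d y * uPt g D c x := by
    intro c d i j k l hc hd hi hj hn B _ _ x y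
    have e0 : D.P.root c + D.P.root d = (i + k) • D.P.root T.a + (j + l) • D.P.root T.b := by rw [hc, hd]; module
    refine uPt_commute g D (e0 ▸ fun h => ?_) (e0 ▸ fun ⟨r, hr'⟩ => ?_) x y
    · have := comb_eq_zero D.P T.hA T.hB (by norm_num) h; omega
    · exact hn (hr r _ _ hr' hi hj)
  have nAf : HasN g D T.a T.a' T.ka T.f T.b (↑T.N⁻¹) := by
    have h := T.nAb.symm' g D T.ha' T.hka T.N rfl
    rw [zpow_even (by rw [T.hA]; decide), _root_.one_mul] at h
    exact h
  have nBe : HasN g D T.b T.b' T.kb T.e T.a (-↑T.M⁻¹) := by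
    have h := T.nBa.symm' g D T.hb' T.hkb T.M rfl
    rw [zpow_odd (by rw [T.hB]; decide), neg_one_mul, Units.val_neg] at h
    exact h
  have lE : ∀ (B : Type u) [CommRing B] [Algebra R B] (t y : B),
      uPt g D T.a (inl t : DualNumber B) * uPt g D T.e (inr y : DualNumber B) * (uPt g D T.a (inl t : DualNumber B))⁻¹ =
        LL g D [(T.e, y), (T.f, algebraMap R B (E 0) * t * y)] := fun B _ _ t y => by
    rw [hE', dual_one, LL_cons, LL_singleton]
  have neg1 : ∀ c : D.idx, (uPt g D c (inl (1 : R) : DualNumber R))⁻¹ = uPt g D c (inl (-1 : R) : DualNumber R) :=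
    fun c => by rw [← uPt_neg, ← TrivSqZeroExt.inl_neg]
  have hWa := wPt_braid g D T.ha' T.hka (B := DualNumber R)
  have hWb := wPt_braid g D T.hb' T.hkb (B := DualNumber R)
  rw [show (1 : DualNumber R) = inl 1 from rfl] at hWa hWb
  have e1 : (T.M : R) = -C 0 := by
    have h := braid_conj hWb (X := uPt g D T.a (inr (1 : R) : DualNumber R))
      (Y := uPt g D T.e (inr (T.M : R) : DualNumber R)) (Z := uPt g D T.a (inr (-1 : R) : DualNumber R))
      (by simpa using HasN.inr g D T.nBa (1 : R))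
      (fix_of_commute (fix T.b T.e 0 1 1 1 hb0 T.he (by norm_num) (by norm_num) (by norm_num [IsPosRootCoord]) _ _ _))
      (by simpa using HasN.inr g D nBe (T.M : R))
    rw [lB 1 1, conj_LL g D (wPt g D T.b T.b' T.kb (DualNumber R)) _ [(T.a, ↑T.M⁻¹ * C 0), (T.e, (T.M : R))]
      (List.Forall₂.cons (by simpa using HasN.inr g D nBe (-(C 0))) <|
        List.Forall₂.cons (by simpa using HasN.inr g D T.nBa (1 : R)) List.Forall₂.nil)] at h
    rw [neg1, lB (-1) (-1)] at h
    simpa [nae, nae.symm] using coord_eq g D h T.e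
  obtain ⟨e2, e3⟩ : (T.N : R) = C 1 ∧ (T.P : R) * C 0 = -C 0 := by
    have h := braid_conj hWa (X := uPt g D T.b (inr (1 : R) : DualNumber R))
      (Y := uPt g D T.f (inr (T.N : R) : DualNumber R)) (Z := uPt g D T.b (inr (1 : R) : DualNumber R))
      (by simpa using HasN.inr g D T.nAb (1 : R))
      (fix_of_commute (fix T.a T.f 1 0 2 1 ha0 T.hf (by norm_num) (by norm_num) (by norm_num [IsPosRootCoord]) _ _ _))
      (by simpa using HasN.inr g D nAf (T.N : R))
    rw [lC R 1 1, conj_LL g D (wPt g D T.a T.a' T.ka (DualNumber R)) _ [(T.f, (T.N : R)), (T.e, (T.P : R) * C 0), (T.b, ↑T.N⁻¹ * C 1)]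
      (List.Forall₂.cons (by simpa using HasN.inr g D T.nAb (1 : R)) <|
        List.Forall₂.cons (by simpa using HasN.inr g D T.nAe (C 0)) <|
        List.Forall₂.cons (by simpa using HasN.inr g D nAf (C 1)) List.Forall₂.nil)] at h
    rw [neg1, lC R (-1) 1] at h
    refine ⟨?_, ?_⟩
    · simpa [nbf, nef, nbf.symm, nef.symm, pow_succ] using coord_eq g D h T.f
    · simpa [nbe, nef, nbe.symm, nef.symm, pow_succ] using coord_eq g D h T.e
  have e4 : E 0 * C 0 = 2 * C 1 := by
    let A := Polynomial R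
    let t : A := Polynomial.X
    have hlhs : uPt g D T.a (inl (1 : A) : DualNumber A) * (uPt g D T.a (inl t : DualNumber A) *
        uPt g D T.b (inr (1 : A) : DualNumber A) * (uPt g D T.a (inl t : DualNumber A))⁻¹) *
        (uPt g D T.a (inl (1 : A) : DualNumber A))⁻¹ = uPt g D T.a (inl (1 + t) : DualNumber A) *
        uPt g D T.b (inr (1 : A) : DualNumber A) * (uPt g D T.a (inl (1 + t) : DualNumber A))⁻¹ := by
      rw [TrivSqZeroExt.inl_add, uPt_add]; group
    rw [lC A t 1, lC A (1 + t) 1] at hlhs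
    simp only [_root_.mul_one] at hlhs
    set U := uPt g D T.a (inl (1 : A) : DualNumber A)
    have hf1 : ∀ x : A, U * uPt g D T.f (inr x : DualNumber A) * U⁻¹ = LL g D [(T.f, x)] := fun x => by
      rw [LL_singleton, mul_inv_eq_iff_eq_mul]
      exact fix T.a T.f 1 0 2 1 ha0 T.hf (by norm_num) (by norm_num) (by norm_num [IsPosRootCoord]) _ _ _
    have hprod : U * LL g D [(T.b, (1 : A)), (T.e, algebraMap R A (C 0) * t), (T.f, algebraMap R A (C 1) * t ^ 2)] * U⁻¹ =
      LL g D ([(T.b, (1 : A)), (T.e, algebraMap R A (C 0)), (T.f, algebraMap R A (C 1))] ++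
        [(T.e, algebraMap R A (C 0) * t), (T.f, algebraMap R A (E 0) * (algebraMap R A (C 0) * t))] ++
        [(T.f, algebraMap R A (C 1) * t ^ 2)]) := by
      rw [LL_cons, LL_cons, LL_singleton, ← conj_mul3, ← conj_mul3, lC, lE, hf1, LL_append, LL_append]
      simp only [_root_.mul_one, one_pow, _root_.mul_assoc]
    rw [hprod] at hlhs
    have hf := congrArg (fun p : A => p.coeff 1) (coord_eq g D hlhs T.f)
    simp [nbf, nef, A, t, Polynomial.algebraMap_eq, Polynomial.coeff_one_add_X_pow, Polynomial.coeff_C_mul,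
      Polynomial.coeff_C, Polynomial.coeff_X_pow, Polynomial.coeff_one, mul_add] at hf
    linear_combination hf
  have hc : C 0 = -(T.M : R) := by rw [e1, neg_neg]
  refine ⟨?_, fun B _ _ x y => by rw [hC', hc, e2, map_neg], fun B _ _ x y => ?_⟩
  · refine T.M.isUnit.mul_right_cancel ?_
    rw [hc] at e3
    linear_combination -e3
  · have : E 0 = -2 * T.N * ↑T.M⁻¹ := by
      refine T.M.isUnit.mul_right_cancel ?_
      rw [hc, ← e2] at e4
      linear_combination -e4 + 2 * (T.N : R) * T.M.inv_mul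
    rw [hE', this]

end Groth.Agent.H21Split.R2
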