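import Groth.Agent.H21Split.Dual
import Groth.Agent.H21Split.PinWeyl

/-!
The point `u_a(1) u_{-a}(-1/k) u_a(1)` of a pair of opposite roots in duality with constant `k`, and the points of
root groups with values in dual numbers.
-/

open CategoryTheory MonoidalCategory CartesianMonoidalCategory MonObj GrpObj AlgebraicGeometry
open TrivSqZeroExt (inl inr)

universe u

set_option backward.isDefEq.respectTransparency false
set_option linter.style.haveILetI false
set_option linter.unusedSectionVars false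
set_option synthInstance.maxHeartbeats 400000

noncomputable section

namespace Groth.Agent.H21Split.R2

variable {S : Scheme.{u}} {R : Type u} [CommRing R] (g : Spec (CommRingCat.of R) ⟶ S)
variable {B B' : Type u} [CommRing B] [Algebra R B] [CommRing B'] [Algebra R B']
variable {G : Over S} [GrpObj G] (D : Red.SplitRed G)

/-- the Weyl point of a pair with constant `k` -/
def wPt (a a' : D.idx) (k : Rˣ) (B : Type u) [CommRing B] [Algebra R B] : pt g B ⟶ G :=
  uPt g D a (1 : B) * uPt g D a' (-algebraMap R B (↑k⁻¹)) * uPt g D a (1 : B)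

/-- conjugation by the Weyl point sends `u_d` to `u_{d'}` with factor `N` -/
def HasN (a a' : D.idx) (k : Rˣ) (d d' : D.idx) (N : R) : Prop :=
  ∀ (B : Type u) [CommRing B] [Algebra R B] (x : B),
    wPt g D a a' k B * uPt g D d x * (wPt g D a a' k B)⁻¹ = uPt g D d' (algebraMap R B N * x)

theorem pmap_wPt (a a' : D.idx) (k : Rˣ) (f : B →ₐ[R] B') :
    pmap g f ≫ wPt g D a a' k B = wPt g D a a' k B' := by
  rw [wPt, wPt, MonObj.comp_mul, MonObj.comp_mul, pmap_uPt, pmap_uPt, map_one, map_neg, AlgHom.commutes]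

theorem pmap_toBase_wPt (a a' : D.idx) (k : Rˣ) :
    pmap g (toBase R B) ≫ wPt g D a a' k R = wPt g D a a' k B := pmap_wPt g D a a' k _

theorem uPt_comm_self (a : D.idx) (x y : B) : uPt g D a x * uPt g D a y = uPt g D a y * uPt g D a x := by
  rw [← uPt_add, ← uPt_add, add_comm]

theorem tPt_inv' (χ χ' : Multiplicative D.M →* B) (h : χ * χ' = 1) : (tPt g D χ)⁻¹ = tPt g D χ' :=
  inv_eq_of_mul_eq_one_right (by rw [← tPt_mul, h, tPt_one])

theorem tPt_cor_inv (s : Bˣ) (a : D.idx) : (tPt g D (cor D s a))⁻¹ = tPt g D (cor D s⁻¹ a) :=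
  tPt_inv' g D _ _ (by rw [← cor_mul, mul_inv_cancel, cor_one])

variable {a a' : D.idx} {k : Rˣ} (ha : D.P.root a' = -D.P.root a) (hk : Dual g D a a' (k : R))

theorem scale_aux {H : Type*} [Group H] {A C U1 V1 P Q T Y : H} (h : P * Q = V1 * T * Y)
    (hU : A = P * U1) (hV : C * V1 = 1) (hY : A * T * Y = T * U1) :
    A * C * A = T * (U1 * Q⁻¹ * U1) := by
  calc A * C * A = A * C * (P * U1) := by rw [← hU]
    _ = A * C * (P * Q) * Q⁻¹ * U1 := by group
    _ = A * (C * V1) * T * Y * Q⁻¹ * U1 := by rw [h]; group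
    _ = _ := by rw [hV, _root_.mul_one, hY]; group

theorem act_aux {H : Type*} [Group H] {t W c : H} (h : t * W * t⁻¹ = c * W) : W * t * W⁻¹ = c⁻¹ * t := by
  have hc : c = t * W * t⁻¹ * W⁻¹ := by rw [h]; group
  rw [hc]; group

include ha hk

/-- the word with parameter `s` is the coroot at `s` times the Weyl point -/
theorem wPt_scale (s : Bˣ) :
    uPt g D a (s : B) * uPt g D a' (-(algebraMap R B ↑k⁻¹ * ↑s⁻¹)) * uPt g D a (s : B) =
      tPt g D (cor D s a) * wPt g D a a' k B := by
  have hkk : algebraMap R B k * algebraMap R B ↑k⁻¹ = 1 := by rw [← map_mul, k.mul_inv, map_one]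
  have hd := hk B ((s : B) - 1) (algebraMap R B ↑k⁻¹) s (by
    linear_combination -((s : B) - 1) * hkk)
  rw [wPt, uPt_neg g D a' (algebraMap R B ↑k⁻¹)]
  refine scale_aux hd ?_ ?_ ?_
  · rw [← uPt_add, sub_add_cancel]
  · rw [← uPt_add, mul_comm (↑s⁻¹ : B), neg_add_cancel, uPt_zero]
  · have hc : ∀ x : B, tPt g D (cor D s a) * uPt g D a x =
        uPt g D a (((s * s : Bˣ) : B) * x) * tPt g D (cor D s a) := fun x => by
      rw [← cor_self D s a, ← tPt_conj]; group
    rw [_root_.mul_assoc, hc, hc, ← _root_.mul_assoc, ← uPt_add]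
    congr 2
    rw [Units.val_mul]
    linear_combination ((s : B) ^ 2 - (s : B)) * s.mul_inv

/-- the Weyl point acts on the torus as the reflection -/
theorem wPt_tPt (χ : Multiplicative D.M →* B) :
    wPt g D a a' k B * tPt g D χ * (wPt g D a a' k B)⁻¹ =
      tPt g D (χ.comp (AddMonoidHom.toMultiplicative (sMap D a))) := by
  set W := wPt g D a a' k B
  let s : Bˣ := χ.toHomUnits (Multiplicative.ofAdd (D.P.root a))
  have hs : χ (Multiplicative.ofAdd (D.P.root a)) = (s : B) := rfl
  have hs' : χ (Multiplicative.ofAdd (D.P.root a')) = ((s⁻¹ : Bˣ) : B) := by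
    rw [ha, ofAdd_neg, show s⁻¹ = χ.toHomUnits (Multiplicative.ofAdd (D.P.root a))⁻¹ from (map_inv _ _).symm]
    rfl
  have hW : tPt g D χ * W * (tPt g D χ)⁻¹ = tPt g D (cor D s a) * W := by
    rw [← wPt_scale g D ha hk s]
    simp only [W, wPt]
    rw [← conj_mul3, ← conj_mul3, tPt_conj, tPt_conj, hs, hs', _root_.mul_one, mul_neg,
      mul_comm (↑s⁻¹ : B)]
  rw [act_aux hW, tPt_cor_inv, ← tPt_mul]
  congr 1
  refine MonoidHom.ext fun m => ?_
  obtain ⟨m, rfl⟩ := Multiplicative.ofAdd.surjective m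
  rw [MonoidHom.mul_apply, cor_apply, MonoidHom.comp_apply]
  change _ = χ (Multiplicative.ofAdd (D.P.reflection a m))
  rw [reflection_apply', sub_eq_add_neg, ← neg_smul, ofAdd_add, map_mul, mul_comm (χ _)]
  congr 1
  rw [inv_zpow', ofAdd_zsmul]
  change ((s ^ (-D.P.coroot a m) : Bˣ) : B) = χ _
  rw [← map_zpow]
  rfl

/-- the square of the Weyl point -/
theorem wPt_sq : wPt g D a a' k B * wPt g D a a' k B = tPt g D (cor D (-1 : Bˣ) a) := by
  have h := wPt_scale g D ha hk (-1 : Bˣ)
  have hi : uPt g D a ((-1 : Bˣ) : B) * uPt g D a' (-(algebraMap R B ↑k⁻¹ * ↑(-1 : Bˣ)⁻¹)) *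
      uPt g D a ((-1 : Bˣ) : B) = (wPt g D a a' k B)⁻¹ := by
    rw [wPt, inv_neg_one, Units.val_neg, Units.val_one, mul_neg, _root_.mul_one, neg_neg, uPt_neg, uPt_neg]
    group
  rw [hi] at h
  have e : wPt g D a a' k B * wPt g D a a' k B = (tPt g D (cor D (-1 : Bˣ) a))⁻¹ := by
    refine (inv_eq_of_mul_eq_one_right ?_).symm
    rw [← _root_.mul_assoc, ← h, inv_mul_cancel]
  rw [e, tPt_cor_inv, inv_neg_one]

theorem actsBy_wPt : ActsBy g D a (wPt g D a a' k R) := fun B _ _ χ => by
  rw [pmap_toBase_wPt]; exact wPt_tPt g D ha hk χ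

omit ha hk in
theorem move_aux {H : Type*} [Group H] {A C U Q A' P V T Y T' V' Y' : H} (h : U * Q = V * T * Y) (h' : A * (C * V) = P * T' * V')
    (hT : T * (Y * A') = Y' * T) (hV : V' * Y' = 1) (hTT : T' * T = 1) : A * C * U * Q * A' = P := by
  calc A * C * U * Q * A' = A * C * (U * Q) * A' := by group
    _ = A * (C * V) * (T * (Y * A')) := by rw [h]; group
    _ = P * T' * (V' * Y') * T := by rw [h', hT]; group
    _ = P := by rw [hV, _root_.mul_one, _root_.mul_assoc, hTT, _root_.mul_one]

omit ha hk in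
theorem regroup5 {H : Type*} [Group H] (A C U A' Q : H) :
    A * C * A * U * (A' * Q * A') = A * C * (A * U * A') * Q * A' := by group

omit ha hk in
theorem braid_aux {H : Type*} [Group H] {W u : H} (h : W = u * (W * u * W⁻¹) * u) :
    u * W * u = W * u⁻¹ * W := by
  calc u * W * u = (u * (W * u * W⁻¹) * u) * u⁻¹ * W := by group
    _ = _ := by rw [← h]

/-- the Weyl point exchanges the two root groups, at a parameter `x` with `1 + x` a unit -/
theorem wPt_conj_self_unit (x : B) (z : Bˣ) (hz : (z : B) = 1 + x) :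
    wPt g D a a' k B * uPt g D a x * (wPt g D a a' k B)⁻¹ = uPt g D a' (-(algebraMap R B ↑k⁻¹ * x)) := by
  have hkk : algebraMap R B k * algebraMap R B ↑k⁻¹ = 1 := by rw [← map_mul, k.mul_inv, map_one]
  set σ := algebraMap R B ↑k⁻¹
  have h1 := hk B x σ z (by rw [hz]; linear_combination -x * hkk)
  have h2 := hk B 1 (-σ + ↑z⁻¹ * σ) z⁻¹ (by
    linear_combination (1 - (↑z⁻¹ : B)) * hkk)
  have hi : (wPt g D a a' k B)⁻¹ = uPt g D a (-1 : B) * uPt g D a' σ * uPt g D a (-1 : B) := by
    simp only [wPt, _root_.mul_inv_rev, ← uPt_neg, neg_neg, _root_.mul_assoc, σ]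
  rw [hi, wPt]
  have key : uPt g D a (1 : B) * uPt g D a' (-σ) * uPt g D a x * uPt g D a' σ * uPt g D a (-1 : B) =
      uPt g D a' (-(σ * x)) := by
    refine move_aux h1 (V' := uPt g D a ((z : B))) (Y' := uPt g D a (-(z : B)))
      (T' := tPt g D (cor D z⁻¹ a)) ?_ ?_ ?_ ?_
    · rw [← uPt_add, h2, _root_.inv_inv, _root_.mul_one]
      congr 3
      linear_combination σ * z.inv_mul - σ * z.mul_inv - σ * hz + σ * z.mul_inv
    · rw [← uPt_add, ← mul_inv_eq_iff_eq_mul, tPt_conj, cor_self]
      congr 1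
      rw [Units.val_mul]
      linear_combination ((z : B) * x) * z.mul_inv + (z : B) * (-1) * hz
    · rw [← uPt_add, add_neg_cancel, uPt_zero]
    · rw [← tPt_mul, ← cor_mul, inv_mul_cancel, cor_one, tPt_one]
  rw [regroup5, ← uPt_add, ← uPt_add, show (1 : B) + x + -1 = x by ring]
  exact key

/-- the Weyl point sends `u_a` to `u_{a'}` with factor `-1/k` -/
theorem hasN_self [IsAffineHom G.hom] : HasN g D a a' k a a' (-↑k⁻¹) := by
  intro B _ _ x
  let P := Polynomial B
  let A := Localization.Away (1 + Polynomial.X : P)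
  let X₁ : A := algebraMap P A Polynomial.X
  let z : Aˣ := (IsLocalization.Away.algebraMap_isUnit (S := A) (1 + Polynomial.X : P)).unit
  have hinj : Function.Injective (IsScalarTower.toAlgHom R P A) := by
    refine IsLocalization.injective (M := Submonoid.powers (1 + Polynomial.X : P)) A (Submonoid.powers_le.mpr ?_)
    rw [add_comm, show (Polynomial.X + 1 : P) = Polynomial.X + Polynomial.C 1 by simp]
    exact (Polynomial.monic_X_add_C 1).mem_nonZeroDivisors
  have h : wPt g D a a' k P * uPt g D a (Polynomial.X : P) * (wPt g D a a' k P)⁻¹ =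
      uPt g D a' (algebraMap R P (-↑k⁻¹) * Polynomial.X) := by
    refine ext_of_injective g (IsScalarTower.toAlgHom R P A) hinj ?_
    simp only [MonObj.comp_mul, GrpObj.comp_inv, pmap_wPt, pmap_uPt, map_mul, AlgHom.commutes]
    rw [map_neg, neg_mul]
    exact wPt_conj_self_unit g D ha hk X₁ z (by simp [z, X₁])
  have := congrArg (fun w => pmap g ((Polynomial.aeval x).restrictScalars R) ≫ w) h
  simp only [MonObj.comp_mul, GrpObj.comp_inv, pmap_wPt, pmap_uPt, map_mul, AlgHom.commutes] at this
  have hX : (Polynomial.aeval x).restrictScalars R (Polynomial.X : Polynomial B) = x := Polynomial.aeval_X x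
  rw [hX] at this
  exact this

/-- and back -/
theorem hasN_opp [IsAffineHom G.hom] : HasN g D a a' k a' a (-(k : R)) := by
  intro B _ _ x
  have hkk : algebraMap R B ↑k⁻¹ * algebraMap R B k = 1 := by rw [← map_mul, k.inv_mul, map_one]
  have h := hasN_self g D ha hk B (-(algebraMap R B k * x))
  rw [map_neg, neg_mul_neg, ← _root_.mul_assoc, hkk, _root_.one_mul] at h
  rw [← h, map_neg, neg_mul]
  set W := wPt g D a a' k B
  calc W * (W * uPt g D a (-(algebraMap R B k * x)) * W⁻¹) * W⁻¹ =
      (W * W) * uPt g D a (-(algebraMap R B k * x)) * (W * W)⁻¹ := by group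
    _ = _ := by
      rw [wPt_sq g D ha hk, tPt_conj, cor_self]
      simp

/-- the braid relation of the Weyl point with its root group -/
theorem wPt_braid [IsAffineHom G.hom] :
    uPt g D a (1 : B) * wPt g D a a' k B * uPt g D a (1 : B) =
      wPt g D a a' k B * (uPt g D a (1 : B))⁻¹ * wPt g D a a' k B := by
  have h := hasN_self g D ha hk B 1
  rw [_root_.mul_one, map_neg] at h
  have hW : wPt g D a a' k B = uPt g D a (1 : B) *
      (wPt g D a a' k B * uPt g D a (1 : B) * (wPt g D a a' k B)⁻¹) * uPt g D a (1 : B) := by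
    rw [h]; rfl
  exact braid_aux hW

omit ha hk in
theorem round_aux {H : Type*} [Group H] {W U V : H} (h : W * U * W⁻¹ = V) :
    W * V * W⁻¹ = (W * W) * U * (W * W)⁻¹ := by rw [← h]; group

/-- the two factors of a pair of roots exchanged by the reflection -/
theorem HasN.round [IsAffineHom G.hom] {d d' : D.idx} {N N' : R} (h : HasN g D a a' k d d' N)
    (h' : HasN g D a a' k d' d N') : N' * N = ((-1 : Rˣ) ^ D.P.pairing d a : Rˣ) := by
  have h1 := round_aux (h R 1)
  rw [wPt_sq g D ha hk, tPt_conj, h' R, Algebra.algebraMap_self_apply, Algebra.algebraMap_self_apply,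
    _root_.mul_one, _root_.mul_one, cor_apply, coroot_apply, D.P.root_coroot'_eq_pairing] at h1
  exact uPt_injective g D d h1

/-- back, up to the sign of the square -/
theorem HasN.symm' [IsAffineHom G.hom] {d d' : D.idx} {N : R} (h : HasN g D a a' k d d' N) (N' : Rˣ) (hN : (N' : R) = N) :
    HasN g D a a' k d' d ((((-1 : Rˣ) ^ D.P.pairing d a) * N'⁻¹ : Rˣ) : R) := by
  intro B _ _ x
  have h1 := h B (algebraMap R B ↑N'⁻¹ * x)
  rw [← _root_.mul_assoc, ← map_mul, ← hN, N'.mul_inv, map_one, _root_.one_mul] at h1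
  rw [round_aux h1, wPt_sq g D ha hk, tPt_conj, cor_apply, coroot_apply, D.P.root_coroot'_eq_pairing,
    Units.val_mul, map_mul, _root_.mul_assoc]
  congr 2
  rw [show (-1 : Bˣ) = Units.map (algebraMap R B).toMonoidHom (-1) from Units.ext (by simp), ← map_zpow]
  rfl

omit ha hk in
theorem HasN.apply_one [IsAffineHom G.hom] {d d' : D.idx} {N : R} (h : HasN g D a a' k d d' N) :
    wPt g D a a' k R * uPt g D d (1 : R) * (wPt g D a a' k R)⁻¹ = uPt g D d' N := by
  rw [h R 1, Algebra.algebraMap_self_apply, _root_.mul_one]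

omit ha hk in
/-- root groups whose roots have no root as a positive combination commute -/
theorem uPt_commute [IsAffineHom G.hom] {c d : D.idx} (h0 : D.P.root c + D.P.root d ≠ 0)
    (hn : D.P.root c + D.P.root d ∉ Set.range D.P.root) (x y : B) :
    uPt g D c x * uPt g D d y = uPt g D d y * uPt g D c x := by
  haveI := D.fintypeIdx
  haveI : Finite D.idx := Finite.of_fintype _
  obtain ⟨C, hC, -⟩ := existsUnique_comm_core D g c d
    (fun p q hp hq => (comb_ne_zero_and_notMem D.P c d h0 hn p q hp hq).1) (Fin.elim0 : Fin 0 → D.idx)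
    Fin.elim0 Fin.elim0 (fun i => i.elim0) (fun i => i.elim0)
    (fun e p q hp hq he => absurd ⟨e, he⟩ (comb_ne_zero_and_notMem D.P c d h0 hn p q hp hq).2)
  have := hC B x y
  rw [List.ofFn_zero, List.prod_nil, _root_.mul_one, mul_inv_eq_iff_eq_mul] at this
  exact this

/-- the Weyl point fixes a root group which commutes with the pair -/
theorem hasN_fix [IsAffineHom G.hom] {d : D.idx} (h0 : D.P.root a + D.P.root d ≠ 0)
    (hp : D.P.root a + D.P.root d ∉ Set.range D.P.root) (h0' : D.P.root d - D.P.root a ≠ 0)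
    (hm : D.P.root d - D.P.root a ∉ Set.range D.P.root) : HasN g D a a' k d d 1 := by
  intro B _ _ x
  have e : D.P.root a' + D.P.root d = D.P.root d - D.P.root a := by rw [ha, neg_add_eq_sub]
  have h1 : ∀ y : B, Commute (uPt g D a y) (uPt g D d x) := fun y => uPt_commute g D h0 hp y x
  have h2 : ∀ y : B, Commute (uPt g D a' y) (uPt g D d x) := fun y =>
    uPt_commute g D (e ▸ h0') (e ▸ hm) y x
  rw [map_one, _root_.one_mul, mul_inv_eq_iff_eq_mul]
  exact (((h1 _).mul_left (h2 _)).mul_left (h1 _)).eq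

omit ha hk in
/-- points of root groups with values in square zero elements commute -/
theorem sq_commute [IsAffineHom G.hom] (c d : D.idx) (x y : B) :
    Commute (uPt g D c (inr x : DualNumber B)) (uPt g D d (inr y : DualNumber B)) := by
  refine eq_of_lieDev ((isLie_uPt_inr g D c x).mul (isLie_uPt_inr g D d y))
    ((isLie_uPt_inr g D d y).mul (isLie_uPt_inr g D c x)) ?_
  rw [lieDev_mul (isLie_uPt_inr g D c x) (isLie_uPt_inr g D d y),
    lieDev_mul (isLie_uPt_inr g D d y) (isLie_uPt_inr g D c x), add_comm]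

end Groth.Agent.H21Split.R2
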