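import Groth.Agent.H21Split.R2.Pinned

/-!
A Chevalley system: every pair of opposite roots is in duality with constant `±1`, and the Weyl points act on
root groups by signs.
-/

open CategoryTheory MonoidalCategory CartesianMonoidalCategory MonObj GrpObj AlgebraicGeometry
open Groth.Agent.H27Witt.GaCoord (gaFn_comp gaFn_injective gaFn_one)

universe u

set_option backward.isDefEq.respectTransparency false
set_option linter.style.haveILetI false
set_option linter.unusedSectionVars false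
set_option synthInstance.maxHeartbeats 400000

noncomputable section

namespace Groth.Agent.H21Split.R2

variable {S : Scheme.{u}} {G : Over S} [GrpObj G] (D : Red.SplitRed G)

/-- the splitting with other root homomorphisms -/
abbrev withU (v : D.idx → (Red.Ga S ⟶ G))
    (hv : ∀ c, Red.IsRootHom D.i (D.split.hom.hom.hom ≫ Red.chi S (D.P.root c)) (v c)) : Red.SplitRed G :=
  { D with u := v, rootHom := hv }

variable {R : Type u} [CommRing R] (g : Spec (CommRingCat.of R) ⟶ S) {B : Type u} [CommRing B] [Algebra R B]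

/-- a point of the additive group with a given value, pushed by a homomorphism -/
def hPt (f : Red.Ga S ⟶ G) (b : B) : pt g B ⟶ G := ga g b ≫ f

theorem hPt_add (f : Red.Ga S ⟶ G) [IsMonHom f] (b b' : B) : hPt g f (b + b') = hPt g f b * hPt g f b' := by
  rw [hPt, hPt, hPt, ga_add, MonObj.mul_comp]

theorem hPt_neg (f : Red.Ga S ⟶ G) [IsMonHom f] (b : B) : hPt g f (-b) = (hPt g f b)⁻¹ := by
  refine eq_inv_of_mul_eq_one_left ?_
  rw [← hPt_add, neg_add_cancel, hPt, ga_zero, MonObj.one_comp]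

theorem hPt_zero (f : Red.Ga S ⟶ G) [IsMonHom f] : hPt g f (0 : B) = 1 := by
  rw [hPt, ga_zero, MonObj.one_comp]

theorem pmap_hPt {B' : Type u} [CommRing B'] [Algebra R B'] (φ : B →ₐ[R] B') (f : Red.Ga S ⟶ G) (b : B) :
    pmap g φ ≫ hPt g f b = hPt g f (φ b) := by
  rw [hPt, hPt, ← Category.assoc, pmap_ga]

/-- the rank one relation of a root homomorphism and a dual one, at test algebras -/
def PairPt (c : D.idx) (f : Red.Ga S ⟶ G) : Prop :=
  ∀ (B : Type u) [CommRing B] [Algebra R B] (ξ ζ : B) (z : Bˣ), (z : B) = 1 + ξ * ζ →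
    uPt g D c ξ * hPt g f ζ = hPt g f (↑z⁻¹ * ζ) * tPt g D (cor D z c) * uPt g D c (↑z⁻¹ * ξ)

theorem pairPt_of_global {c : D.idx} {av : Red.Gm S ⟶ D.T}
    (hav : av = Red.DSmap S (D.P.coroot c).toAddMonoidHom ≫ D.split.inv.hom.hom) (f : Red.Ga S ⟶ G)
    (h : ∀ (X : Over S) (x y : X ⟶ Red.Ga S), IsUnit (1 + Red.gaFn x * Red.gaFn y) →
      ∃ (x' y' : X ⟶ Red.Ga S) (z : X ⟶ Red.Gm S), Red.gmFn z = 1 + Red.gaFn x * Red.gaFn y ∧
        Red.gaFn x' * Red.gmFn z = Red.gaFn x ∧ Red.gaFn y' * Red.gmFn z = Red.gaFn y ∧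
        (x ≫ D.u c) * (y ≫ f) = (y' ≫ f) * (z ≫ av ≫ D.i) * (x' ≫ D.u c)) : PairPt D g c f := by
  intro B _ _ ξ ζ z hz
  have hu : IsUnit (1 + Red.gaFn (ga g ξ) * Red.gaFn (ga g ζ)) := by
    have h1 : IsUnit (1 + ξ * ζ) := ⟨z, hz⟩
    rw [gaFn_eq_of_gv g (gv_ga g ξ), gaFn_eq_of_gv g (gv_ga g ζ)]
    simpa only [map_add, map_one, map_mul] using h1.map (Scheme.ΓSpecIso (CommRingCat.of B)).inv.hom
  obtain ⟨x', y', t, ht, hx', hy', he⟩ := h (pt g B) (ga g ξ) (ga g ζ) hu
  have hg : ∀ w : pt g B ⟶ Red.Ga S, gv g w = (Scheme.ΓSpecIso (CommRingCat.of B)).hom (Red.gaFn w) := gv_def g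
  have hzt : gmv g t = (z : B) := by
    rw [gmv, ht, map_add, map_one, map_mul, ← hg, ← hg, gv_ga, gv_ga, hz]
  have hxv : gv g x' = ↑z⁻¹ * ξ := by
    have := congrArg (Scheme.ΓSpecIso (CommRingCat.of B)).hom hx'
    rw [map_mul, ← hg, ← hg, gv_ga] at this
    rw [← this, show (Scheme.ΓSpecIso (CommRingCat.of B)).hom (Red.gmFn t) = (z : B) from hzt]
    linear_combination -(gv g x') * z.mul_inv
  have hyv : gv g y' = ↑z⁻¹ * ζ := by
    have := congrArg (Scheme.ΓSpecIso (CommRingCat.of B)).hom hy'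
    rw [map_mul, ← hg, ← hg, gv_ga] at this
    rw [← this, show (Scheme.ΓSpecIso (CommRingCat.of B)).hom (Red.gmFn t) = (z : B) from hzt]
    linear_combination -(gv g y') * z.mul_inv
  rw [← ga_gv g x', ← ga_gv g y', hxv, hyv, hav, coroot_pt D g c t z hzt] at he
  exact he

/-- the point `u_c(1) f(1)⁻¹ u_c(1)` -/
def nPt (c : D.idx) (f : Red.Ga S ⟶ G) (B : Type u) [CommRing B] [Algebra R B] : pt g B ⟶ G :=
  uPt g D c (1 : B) * (hPt g f (1 : B))⁻¹ * uPt g D c (1 : B)

variable {c : D.idx} {f : Red.Ga S ⟶ G} [IsMonHom f]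

theorem inv_aux {H : Type*} [Group H] (a q : H) : (a * q⁻¹ * a)⁻¹ = a⁻¹ * q * a⁻¹ := by group

/-- conjugation of `u_c` by that point, at a parameter `x` with `1 + x` a unit -/
theorem nPt_conj_unit (h : PairPt D g c f) (x : B) (z : Bˣ) (hz : (z : B) = 1 + x) :
    nPt D g c f B * uPt g D c x * (nPt D g c f B)⁻¹ = hPt g f (-x) := by
  have h1 := h B x 1 z (by rw [_root_.mul_one]; exact hz)
  have h2 := h B 1 (-1 + ↑z⁻¹) z⁻¹ (by ring)
  rw [nPt, inv_aux, ← uPt_neg, ← hPt_neg]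
  rw [regroup5, ← uPt_add, ← uPt_add, show (1 : B) + x + -1 = x by ring]
  refine move_aux h1 (V' := uPt g D c ((z : B))) (Y' := uPt g D c (-(z : B)))
    (T' := tPt g D (cor D z⁻¹ c)) ?_ ?_ ?_ ?_
  · rw [← hPt_add, _root_.mul_one, h2, _root_.inv_inv, _root_.mul_one]
    congr 3
    linear_combination z.inv_mul - z.mul_inv - hz + z.mul_inv
  · rw [← uPt_add, ← mul_inv_eq_iff_eq_mul, tPt_conj, cor_self]
    congr 1
    rw [Units.val_mul]
    linear_combination ((z : B) * x) * z.mul_inv + (z : B) * (-1) * hz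
  · rw [← uPt_add, add_neg_cancel, uPt_zero]
  · rw [← tPt_mul, ← cor_mul, inv_mul_cancel, cor_one, tPt_one]

theorem pmap_nPt {B' : Type u} [CommRing B'] [Algebra R B'] (φ : B →ₐ[R] B') :
    pmap g φ ≫ nPt D g c f B = nPt D g c f B' := by
  rw [nPt, nPt, MonObj.comp_mul, MonObj.comp_mul, GrpObj.comp_inv, pmap_uPt, pmap_hPt, map_one]

/-- if conjugation maps `u_c` to `u_{c'}` by a scalar, the dual homomorphism is a multiple of `u_{c'}` -/
theorem dual_hom_eq [IsAffineHom G.hom] (h : PairPt D g c f) (c' : D.idx) (ε : R)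
    (hε : ∀ (B : Type u) [CommRing B] [Algebra R B] (x : B),
      nPt D g c f B * uPt g D c x * (nPt D g c f B)⁻¹ = uPt g D c' (algebraMap R B ε * x))
    (y : B) : hPt g f y = uPt g D c' (-algebraMap R B ε * y) := by
  let P := Polynomial B
  let A := Localization.Away (1 + Polynomial.X : P)
  let X₁ : A := algebraMap P A Polynomial.X
  let z : Aˣ := (IsLocalization.Away.algebraMap_isUnit (S := A) (1 + Polynomial.X : P)).unit
  have hinj : Function.Injective (IsScalarTower.toAlgHom R P A) := by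
    refine IsLocalization.injective (M := Submonoid.powers (1 + Polynomial.X : P)) A (Submonoid.powers_le.mpr ?_)
    rw [add_comm, show (Polynomial.X + 1 : P) = Polynomial.X + Polynomial.C 1 by simp]
    exact (Polynomial.monic_X_add_C 1).mem_nonZeroDivisors
  have hX : hPt g f (-Polynomial.X : P) = uPt g D c' (algebraMap R P ε * Polynomial.X) := by
    refine ext_of_injective g (IsScalarTower.toAlgHom R P A) hinj ?_
    simp only [pmap_hPt, pmap_uPt, map_mul, AlgHom.commutes]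
    rw [← hε A, show IsScalarTower.toAlgHom R P A (-Polynomial.X) = -X₁ from map_neg (algebraMap P A) _]
    exact (nPt_conj_unit D g h X₁ z (by simp [z, X₁])).symm
  have := congrArg (fun w => pmap g ((Polynomial.aeval (-y)).restrictScalars R) ≫ w) hX
  have hev : (Polynomial.aeval (-y)).restrictScalars R (Polynomial.X : Polynomial B) = -y := Polynomial.aeval_X _
  have hc : (Polynomial.aeval (-y)).restrictScalars R (algebraMap R P ε) = algebraMap R B ε := AlgHom.commutes _ _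
  simp only [pmap_hPt, pmap_uPt, map_mul, map_neg] at this
  rw [hev, hc, neg_neg, mul_neg, ← neg_mul] at this
  exact this

/-- duality of `c` with `c'` and the form of the Weyl point -/
theorem dual_of_nPt [IsAffineHom G.hom] (h : PairPt D g c f) (c' : D.idx) (σ : Rˣ) (hσ : σ * σ = 1)
    (hε : ∀ (B : Type u) [CommRing B] [Algebra R B] (x : B),
      nPt D g c f B * uPt g D c x * (nPt D g c f B)⁻¹ = uPt g D c' (algebraMap R B σ * x)) :
    Dual g D c c' ((-σ : Rˣ) : R) ∧ ∀ (B : Type u) [CommRing B] [Algebra R B], nPt D g c f B = wPt g D c c' (-σ) B := by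
  have hinv : σ⁻¹ = σ := inv_eq_of_mul_eq_one_right hσ
  have hss : (σ : R) * σ = 1 := by rw [← Units.val_mul, hσ, Units.val_one]
  refine ⟨fun B _ _ ξ ζ z hz => ?_, fun B _ _ => ?_⟩
  · set s := algebraMap R B σ
    have hs : s * s = 1 := by rw [← map_mul, hss, map_one]
    have e1 : ζ = -s * (-s * ζ) := by linear_combination -ζ * hs
    have h1 := h B ξ (-s * ζ) z (by rw [hz, Units.val_neg, map_neg]; ring)
    rw [dual_hom_eq D g h c' σ hε, ← e1, dual_hom_eq D g h c' σ hε] at h1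
    rw [h1]
    congr 3
    linear_combination (↑z⁻¹ * ζ) * hs
  · rw [nPt, ← hPt_neg, dual_hom_eq D g h c' σ hε, wPt, show (-σ)⁻¹ = -σ by rw [inv_neg, hinv], Units.val_neg, map_neg,
      neg_neg, neg_mul_neg, _root_.mul_one]

section system

variable (avc : D.idx → (Red.Gm S ⟶ D.T))
  (havc : ∀ a, avc a = Red.DSmap S (D.P.coroot a).toAddMonoidHom ≫ D.split.inv.hom.hom)
  (e₁ : 𝟙_ (Over S) ⟶ Red.Ga S) (he₁ : Red.gaFn e₁ = 1)
  (v vd : D.idx → (Red.Ga S ⟶ G)) (hv : ∀ c, Red.IsRootHom D.i (D.split.hom.hom.hom ≫ Red.chi S (D.P.root c)) (v c))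
  (hvd : ∀ c, IsMonHom (vd c) ∧ ∀ (X : Over S) (x y : X ⟶ Red.Ga S), IsUnit (1 + Red.gaFn x * Red.gaFn y) →
      ∃ (x' y' : X ⟶ Red.Ga S) (z : X ⟶ Red.Gm S), Red.gmFn z = 1 + Red.gaFn x * Red.gaFn y ∧
        Red.gaFn x' * Red.gmFn z = Red.gaFn x ∧ Red.gaFn y' * Red.gmFn z = Red.gaFn y ∧
        (x ≫ v c) * (y ≫ vd c) = (y' ≫ vd c) * (z ≫ avc c ≫ D.i) * (x' ≫ v c))
  (n : D.idx → (𝟙_ (Over S) ⟶ G)) (hn : ∀ c, n c = (e₁ ≫ v c) * (e₁ ≫ vd c)⁻¹ * (e₁ ≫ v c))
  (hSC : ∀ c b, ∃ ε : ℤ, (ε = 1 ∨ ε = -1) ∧ ∀ (X : Over S) (x y : X ⟶ Red.Ga S),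
    Red.gaFn y = (ε : Γ(X.left, ⊤)) * Red.gaFn x →
      (toUnit X ≫ n c) * (x ≫ v b) * (toUnit X ≫ n c)⁻¹ = y ≫ v (D.P.reflectionPerm c b))

include havc he₁ hv hvd hn hSC

/-- the signs of a system, and the duality they give at every test ring -/
theorem exists_signs : ∃ s : D.idx → D.idx → ℤˣ, ∀ (R : Type u) [CommRing R] (g : Spec (CommRingCat.of R) ⟶ S),
    (∀ c, Dual g (withU D v hv) c (D.P.reflectionPerm c c)
      ((-(Units.map (Int.castRingHom R).toMonoidHom (s c c)) : Rˣ) : R)) ∧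
    ∀ c b, HasN g (withU D v hv) c (D.P.reflectionPerm c c) (-(Units.map (Int.castRingHom R).toMonoidHom (s c c))) b
      (D.P.reflectionPerm c b) ((Units.map (Int.castRingHom R).toMonoidHom (s c b) : Rˣ) : R) := by
  choose ε hε1 hε using hSC
  have hu : ∀ c b, IsUnit (ε c b) := fun c b => Int.isUnit_iff.mpr (hε1 c b)
  refine ⟨fun c b => (hu c b).unit, fun R _ g => ?_⟩
  haveI := isAffineHom_hom D
  let D' := withU D v hv
  have hnp : ∀ (c : D.idx) (B : Type u) [CommRing B] [Algebra R B],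
      toUnit (pt g B) ≫ n c = nPt D' g c (vd c) B := fun c B _ _ => by
    have h1 : toUnit (pt g B) ≫ e₁ = ga g (1 : B) := gv_injective g (by
      rw [gv_ga, gv_def, gaFn_comp, he₁, map_one, map_one])
    rw [hn, MonObj.comp_mul, MonObj.comp_mul, GrpObj.comp_inv, ← Category.assoc, ← Category.assoc, h1]
    rfl
  have hconj : ∀ (c b : D.idx) (B : Type u) [CommRing B] [Algebra R B] (x : B),
      nPt D' g c (vd c) B * uPt g D' b x * (nPt D' g c (vd c) B)⁻¹ =
        uPt g D' (D.P.reflectionPerm c b) (algebraMap R B ((Units.map (Int.castRingHom R).toMonoidHom (hu c b).unit : Rˣ) : R) * x) := by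
    intro c b B _ _ x
    rw [← hnp]
    refine hε c b (pt g B) (ga g x) (ga g _) ?_
    rw [gaFn_eq_of_gv g (gv_ga g _), gaFn_eq_of_gv g (gv_ga g x), map_mul, Units.coe_map, IsUnit.unit_spec]
    congr 1
    simp
  have hp : ∀ c, PairPt D' g c (vd c) := fun c => pairPt_of_global D' g (havc c) (vd c) (hvd c).2
  have hd := fun c => haveI := (hvd c).1; dual_of_nPt D' g (hp c) (D.P.reflectionPerm c c)
    (Units.map (Int.castRingHom R).toMonoidHom (hu c c).unit)
    (by rw [← map_mul, Int.units_mul_self, map_one]) (hconj c c)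
  exact ⟨fun c => (hd c).1, fun c b B _ _ x => by rw [← (hd c).2 B]; exact hconj c b B x⟩

end system

end Groth.Agent.H21Split.R2
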