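import Groth.Agent.H21Split.R2.Pinned

/-!
Pinned groups: two simple roots of type G₂, at a point.
-/

open CategoryTheory MonoidalCategory CartesianMonoidalCategory MonObj GrpObj AlgebraicGeometry
open Groth.Agent.H27Witt.GaCoord (gaFn_comp)

universe u

set_option backward.isDefEq.respectTransparency false
set_option linter.style.haveILetI false
set_option linter.unusedSectionVars false
set_option synthInstance.maxHeartbeats 400000

noncomputable section

namespace Groth.Agent.H21Split.R2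

variable {S : Scheme.{u}} {G : Over S} [GrpObj G]

theorem conj_conj {H : Type*} [Group H] (p q x : H) : p * q * x * (p * q)⁻¹ = p * (q * x * q⁻¹) * p⁻¹ := by group

/-- the root groups defined by conjugation, at a point, for type G₂ -/
theorem g2_point (e₁ : 𝟙_ (Over S) ⟶ Red.Ga S) (he₁ : Red.gaFn e₁ = 1) (D : Red.Pinning G)
    (avc : D.idx → (Red.Gm S ⟶ D.T))
    (havc : ∀ a, avc a = Red.DSmap S (D.P.coroot a).toAddMonoidHom ≫ D.split.inv.hom.hom)
    (hpair : ∀ a ∈ D.base.support, Pair1 D.toSplitRed a (avc a))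
    (w : D.idx → (𝟙_ (Over S) ⟶ G))
    (hw : ∀ a, w a = (e₁ ≫ D.u a) * (e₁ ≫ D.u (D.P.reflectionPerm a a))⁻¹ * (e₁ ≫ D.u a))
    (a b : D.idx) (ha : a ∈ D.base.support) (hb : b ∈ D.base.support)
    (hba : D.P.pairing b a = -3) (hab : D.P.pairing a b = -1)
    {R : Type u} [CommRing R] (g : Spec (CommRingCat.of R) ⟶ S) {X : Over S} (j : pt g R ⟶ X) :
    ∃ T : G2Data g D.toSplitRed, T.a = a ∧ T.b = b ∧
      j ≫ toUnit X ≫ w a = wPt g D.toSplitRed T.a T.a' T.ka R ∧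
      j ≫ toUnit X ≫ w b = wPt g D.toSplitRed T.b T.b' T.kb R ∧
      ∀ x : X ⟶ Red.Ga S,
        j ≫ ((toUnit X ≫ w b) * (x ≫ D.u a) * (toUnit X ≫ w b)⁻¹) = uPt g D.toSplitRed T.e ((T.M : R) * gv g (j ≫ x)) ∧
        j ≫ ((toUnit X ≫ (w a * w b)) * (x ≫ D.u a) * (toUnit X ≫ (w a * w b))⁻¹) =
          uPt g D.toSplitRed T.f ((T.P : R) * T.M * gv g (j ≫ x)) ∧
        j ≫ ((toUnit X ≫ w a) * (x ≫ D.u b)⁻¹ * (toUnit X ≫ w a)⁻¹) =
          uPt g D.toSplitRed T.q (-(T.N : R) * gv g (j ≫ x)) ∧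
        j ≫ ((toUnit X ≫ (w b * w a)) * (x ≫ D.u b)⁻¹ * (toUnit X ≫ (w b * w a))⁻¹) =
          uPt g D.toSplitRed T.h (-(T.Q : R) * T.N * gv g (j ≫ x)) := by
  haveI := isAffineHom_hom D.toSplitRed
  haveI := D.fintypeIdx
  haveI : Finite D.idx := Finite.of_fintype _
  haveI : D.P.IsReduced := isReduced_of_base D.P D.base
  obtain ⟨T, rfl, rfl, hTa', hTb', hTka, hTkb, -, -⟩ := exists_g2Data D.toSplitRed g (root_opp D.toSplitRed a) (root_opp D.toSplitRed b)
    (dual_of_pair1 D.toSplitRed g (havc a) (hpair a ha)) (dual_of_pair1 D.toSplitRed g (havc b) (hpair b hb)) hba hab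
  have hwa : j ≫ toUnit X ≫ w T.a = wPt g D.toSplitRed T.a T.a' T.ka R := by
    rw [hTa', hTka, hw]; exact comp_weyl D.toSplitRed g j e₁ he₁ T.a
  have hwb : j ≫ toUnit X ≫ w T.b = wPt g D.toSplitRed T.b T.b' T.kb R := by
    rw [hTb', hTkb, hw]; exact comp_weyl D.toSplitRed g j e₁ he₁ T.b
  refine ⟨T, rfl, rfl, hwa, hwb, fun x => ?_⟩
  simp only [MonObj.comp_mul, GrpObj.comp_inv, hwa, hwb, comp_u D.toSplitRed g j]
  refine ⟨?_, ?_, ?_, ?_⟩
  · rw [T.nBa R, Algebra.algebraMap_self_apply]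
  · rw [conj_conj, T.nBa R, T.nAe R, Algebra.algebraMap_self_apply, Algebra.algebraMap_self_apply, _root_.mul_assoc]
  · rw [← conj_inv', T.nAb R, Algebra.algebraMap_self_apply, ← uPt_neg, neg_mul]
  · rw [conj_conj, ← conj_inv', T.nAb R, ← conj_inv', T.nBq R, Algebra.algebraMap_self_apply, Algebra.algebraMap_self_apply,
      ← uPt_neg]
    congr 1
    ring

end Groth.Agent.H21Split.R2
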