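import Groth.Agent.H21Split.R2.AB2
import Groth.Agent.H21Split.R2.PinG2

/-!
Pinned groups: two simple roots of type A₂ or B₂, at a point.
-/

open CategoryTheory MonoidalCategory CartesianMonoidalCategory MonObj GrpObj AlgebraicGeometry

universe u

set_option backward.isDefEq.respectTransparency false
set_option linter.style.haveILetI false
set_option linter.unusedSectionVars false
set_option synthInstance.maxHeartbeats 400000

noncomputable section

namespace Groth.Agent.H21Split.R2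

variable {S : Scheme.{u}} {G : Over S} [GrpObj G]

section

variable (D : Red.SplitRed G) [D.P.IsReduced] {R : Type u} [CommRing R] (g : Spec (CommRingCat.of R) ⟶ S)
variable [IsAffineHom G.hom] {a b a' b' : D.idx} {ka kb : Rˣ}

theorem two_comb_notMem (r : D.idx) (c : D.idx) : D.P.root r ≠ (2 : ℤ) • D.P.root c :=
  fun h => two_smul_notMem D c ⟨r, h⟩

theorem exists_a2Data (ha' : D.P.root a' = -D.P.root a) (hb' : D.P.root b' = -D.P.root b)
    (hka : Dual g D a a' (ka : R)) (hkb : Dual g D b b' (kb : R)) (hA : D.P.pairing b a = -1)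
    (hB : D.P.pairing a b = -1) (hsub : D.P.root b - D.P.root a ∉ Set.range D.P.root) :
    ∃ T : A2Data g D, T.a = a ∧ T.b = b ∧ T.a' = a' ∧ T.b' = b' ∧ T.ka = ka ∧ T.kb = kb ∧
      T.e = D.P.reflectionPerm b a := by
  set e := D.P.reflectionPerm b a with he'
  have he : D.P.root e = (1 : ℤ) • D.P.root a + (1 : ℤ) • D.P.root b := by
    rw [he', D.P.root_reflectionPerm, D.P.reflection_apply_root, hB]; module
  have hab : D.P.reflectionPerm a b = e := D.P.root.injective (by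
    rw [he, D.P.root_reflectionPerm, D.P.reflection_apply_root, hA]; module)
  obtain ⟨N, hN⟩ := exists_hasN D g ha' hka hab
  obtain ⟨M, hM⟩ := exists_hasN D g hb' hkb he'.symm
  exact ⟨⟨a, b, a', b', e, ka, kb, M, N, hA, hB, hsub, ha', hb', he, hka, hkb, hN, hM⟩, rfl, rfl, rfl, rfl, rfl, rfl, rfl⟩

theorem exists_b2Data (ha' : D.P.root a' = -D.P.root a) (hb' : D.P.root b' = -D.P.root b)
    (hka : Dual g D a a' (ka : R)) (hkb : Dual g D b b' (kb : R)) (hA : D.P.pairing b a = -2)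
    (hB : D.P.pairing a b = -1) :
    ∃ T : B2Data g D, T.a = a ∧ T.b = b ∧ T.a' = a' ∧ T.b' = b' ∧ T.ka = ka ∧ T.kb = kb ∧
      T.e = D.P.reflectionPerm b a ∧ T.f = D.P.reflectionPerm a b ∧
      HasN g D b b' kb T.f T.f 1 ∧ ∀ r : D.idx, D.P.root r ≠ (2 : ℤ) • D.P.root a + (2 : ℤ) • D.P.root b := by
  haveI := D.fintypeIdx
  haveI : Finite D.idx := Finite.of_fintype _
  set e := D.P.reflectionPerm b a with he'
  set f := D.P.reflectionPerm a b with hf'
  have he : D.P.root e = (1 : ℤ) • D.P.root a + (1 : ℤ) • D.P.root b := by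
    rw [he', D.P.root_reflectionPerm, D.P.reflection_apply_root, hB]; module
  have hf : D.P.root f = (2 : ℤ) • D.P.root a + (1 : ℤ) • D.P.root b := by
    rw [hf', D.P.root_reflectionPerm, D.P.reflection_apply_root, hA]; module
  have pe : D.P.pairing e a = 0 := by
    rw [← D.P.root_coroot'_eq_pairing, he, coroot_a D.P (m := 2) hA]; norm_num
  have hee : D.P.reflectionPerm a e = e := D.P.root.injective (by
    rw [D.P.root_reflectionPerm, D.P.reflection_apply_root, pe, zero_smul, sub_zero])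
  have n22 : ∀ r : D.idx, D.P.root r ≠ (2 : ℤ) • D.P.root a + (2 : ℤ) • D.P.root b := fun r hr =>
    two_comb_notMem D r e (by rw [hr, he]; module)
  obtain ⟨N, hN⟩ := exists_hasN D g ha' hka hf'.symm
  obtain ⟨P, hP⟩ := exists_hasN D g ha' hka hee
  obtain ⟨M, hM⟩ := exists_hasN D g hb' hkb he'.symm
  refine ⟨⟨a, b, a', b', e, f, ka, kb, M, N, P, hA, hB, ha', hb', he, hf, hka, hkb, hN, hP, hM⟩, rfl, rfl, rfl, rfl,
    rfl, rfl, rfl, rfl, ?_, n22⟩
  have hp : D.P.root b + D.P.root f = (2 : ℤ) • D.P.root a + (2 : ℤ) • D.P.root b := by rw [hf]; module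
  have hq : D.P.root f - D.P.root b = (2 : ℤ) • D.P.root a + (0 : ℤ) • D.P.root b := by rw [hf]; module
  refine hasN_fix g D hb' hkb (hp ▸ fun h => ?_) (hp ▸ fun ⟨r, hr⟩ => n22 r hr) (hq ▸ fun h => ?_)
    (hq ▸ fun ⟨r, hr⟩ => two_comb_notMem D r a (by rw [hr, zero_smul, add_zero]))
  · have := comb_eq_zero D.P hA hB (by norm_num) h; omega
  · have := comb_eq_zero D.P hA hB (by norm_num) h; omega

end

/-- the root groups defined by conjugation, at a point, for type A₂ -/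
theorem a2_point (e₁ : 𝟙_ (Over S) ⟶ Red.Ga S) (he₁ : Red.gaFn e₁ = 1) (D : Red.Pinning G)
    (avc : D.idx → (Red.Gm S ⟶ D.T))
    (havc : ∀ a, avc a = Red.DSmap S (D.P.coroot a).toAddMonoidHom ≫ D.split.inv.hom.hom)
    (hpair : ∀ a ∈ D.base.support, Pair1 D.toSplitRed a (avc a))
    (w : D.idx → (𝟙_ (Over S) ⟶ G))
    (hw : ∀ a, w a = (e₁ ≫ D.u a) * (e₁ ≫ D.u (D.P.reflectionPerm a a))⁻¹ * (e₁ ≫ D.u a))
    (a b : D.idx) (ha : a ∈ D.base.support) (hb : b ∈ D.base.support)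
    (hba : D.P.pairing b a = -1) (hab : D.P.pairing a b = -1)
    {R : Type u} [CommRing R] (g : Spec (CommRingCat.of R) ⟶ S) {X : Over S} (j : pt g R ⟶ X) :
    ∃ T : A2Data g D.toSplitRed, T.a = a ∧ T.b = b ∧
      j ≫ toUnit X ≫ w a = wPt g D.toSplitRed T.a T.a' T.ka R ∧
      j ≫ toUnit X ≫ w b = wPt g D.toSplitRed T.b T.b' T.kb R ∧
      HasN g D.toSplitRed T.a T.a' T.ka T.e T.b (-↑T.N⁻¹) ∧ HasN g D.toSplitRed T.b T.b' T.kb T.e T.a (-↑T.M⁻¹) ∧
      ∀ x : X ⟶ Red.Ga S,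
        j ≫ ((toUnit X ≫ w b) * (x ≫ D.u a) * (toUnit X ≫ w b)⁻¹) = uPt g D.toSplitRed T.e ((T.M : R) * gv g (j ≫ x)) := by
  haveI := isAffineHom_hom D.toSplitRed
  haveI : D.P.IsReduced := isReduced_of_base D.P D.base
  obtain ⟨T, rfl, rfl, hTa', hTb', hTka, hTkb, -⟩ := exists_a2Data D.toSplitRed g (root_opp D.toSplitRed a)
    (root_opp D.toSplitRed b) (dual_of_pair1 D.toSplitRed g (havc a) (hpair a ha))
    (dual_of_pair1 D.toSplitRed g (havc b) (hpair b hb)) hba hab (D.base.sub_notMem_range_root hb ha)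
  have hwa : j ≫ toUnit X ≫ w T.a = wPt g D.toSplitRed T.a T.a' T.ka R := by
    rw [hTa', hTka, hw]; exact comp_weyl D.toSplitRed g j e₁ he₁ T.a
  have hwb : j ≫ toUnit X ≫ w T.b = wPt g D.toSplitRed T.b T.b' T.kb R := by
    rw [hTb', hTkb, hw]; exact comp_weyl D.toSplitRed g j e₁ he₁ T.b
  refine ⟨T, rfl, rfl, hwa, hwb, ?_, ?_, fun x => ?_⟩
  · have h := T.nAb.symm' g D.toSplitRed T.ha' T.hka T.N rfl
    rw [zpow_odd (by rw [T.hA]; decide), neg_one_mul, Units.val_neg] at h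
    exact h
  · have h := T.nBa.symm' g D.toSplitRed T.hb' T.hkb T.M rfl
    rw [zpow_odd (by rw [T.hB]; decide), neg_one_mul, Units.val_neg] at h
    exact h
  · simp only [MonObj.comp_mul, GrpObj.comp_inv, hwb, comp_u D.toSplitRed g j]
    rw [T.nBa R, Algebra.algebraMap_self_apply]

/-- the root groups defined by conjugation, at a point, for type B₂ -/
theorem b2_point (e₁ : 𝟙_ (Over S) ⟶ Red.Ga S) (he₁ : Red.gaFn e₁ = 1) (D : Red.Pinning G)
    (avc : D.idx → (Red.Gm S ⟶ D.T))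
    (havc : ∀ a, avc a = Red.DSmap S (D.P.coroot a).toAddMonoidHom ≫ D.split.inv.hom.hom)
    (hpair : ∀ a ∈ D.base.support, Pair1 D.toSplitRed a (avc a))
    (w : D.idx → (𝟙_ (Over S) ⟶ G))
    (hw : ∀ a, w a = (e₁ ≫ D.u a) * (e₁ ≫ D.u (D.P.reflectionPerm a a))⁻¹ * (e₁ ≫ D.u a))
    (a b : D.idx) (ha : a ∈ D.base.support) (hb : b ∈ D.base.support)
    (hba : D.P.pairing b a = -2) (hab : D.P.pairing a b = -1)
    {R : Type u} [CommRing R] (g : Spec (CommRingCat.of R) ⟶ S) {X : Over S} (j : pt g R ⟶ X) :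
    ∃ T : B2Data g D.toSplitRed, T.a = a ∧ T.b = b ∧
      j ≫ toUnit X ≫ w a = wPt g D.toSplitRed T.a T.a' T.ka R ∧
      j ≫ toUnit X ≫ w b = wPt g D.toSplitRed T.b T.b' T.kb R ∧
      HasN g D.toSplitRed T.a T.a' T.ka T.f T.b (↑T.N⁻¹) ∧ HasN g D.toSplitRed T.b T.b' T.kb T.e T.a (-↑T.M⁻¹) ∧
      HasN g D.toSplitRed T.b T.b' T.kb T.f T.f 1 ∧
      (∀ r : D.idx, D.P.root r ≠ (2 : ℤ) • D.P.root T.a + (2 : ℤ) • D.P.root T.b) ∧
      ∀ x : X ⟶ Red.Ga S,
        j ≫ ((toUnit X ≫ w b) * (x ≫ D.u a) * (toUnit X ≫ w b)⁻¹) = uPt g D.toSplitRed T.e ((T.M : R) * gv g (j ≫ x)) ∧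
        j ≫ ((toUnit X ≫ w a) * (x ≫ D.u b) * (toUnit X ≫ w a)⁻¹) = uPt g D.toSplitRed T.f ((T.N : R) * gv g (j ≫ x)) := by
  haveI := isAffineHom_hom D.toSplitRed
  haveI : D.P.IsReduced := isReduced_of_base D.P D.base
  obtain ⟨T, rfl, rfl, hTa', hTb', hTka, hTkb, -, -, hf, hn22⟩ := exists_b2Data D.toSplitRed g (root_opp D.toSplitRed a)
    (root_opp D.toSplitRed b) (dual_of_pair1 D.toSplitRed g (havc a) (hpair a ha))
    (dual_of_pair1 D.toSplitRed g (havc b) (hpair b hb)) hba hab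
  have hwa : j ≫ toUnit X ≫ w T.a = wPt g D.toSplitRed T.a T.a' T.ka R := by
    rw [hTa', hTka, hw]; exact comp_weyl D.toSplitRed g j e₁ he₁ T.a
  have hwb : j ≫ toUnit X ≫ w T.b = wPt g D.toSplitRed T.b T.b' T.kb R := by
    rw [hTb', hTkb, hw]; exact comp_weyl D.toSplitRed g j e₁ he₁ T.b
  refine ⟨T, rfl, rfl, hwa, hwb, ?_, ?_, hTkb ▸ hTb' ▸ hf, hn22, fun x => ?_⟩
  · have h := T.nAb.symm' g D.toSplitRed T.ha' T.hka T.N rfl
    rw [zpow_even (by rw [T.hA]; decide), _root_.one_mul] at h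
    exact h
  · have h := T.nBa.symm' g D.toSplitRed T.hb' T.hkb T.M rfl
    rw [zpow_odd (by rw [T.hB]; decide), neg_one_mul, Units.val_neg] at h
    exact h
  · simp only [MonObj.comp_mul, GrpObj.comp_inv, hwa, hwb, comp_u D.toSplitRed g j]
    exact ⟨by rw [T.nBa R, Algebra.algebraMap_self_apply], by rw [T.nAb R, Algebra.algebraMap_self_apply]⟩

end Groth.Agent.H21Split.R2
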