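import Groth.Agent.H21Split.R2.Chev
import Groth.Agent.H21Split.R2.ChevRoots
import Groth.Agent.H21Split.R2.PinAB2

/-!
The commutator constants of a Chevalley system, at test rings.
-/

open CategoryTheory MonoidalCategory CartesianMonoidalCategory MonObj GrpObj AlgebraicGeometry

universe u

set_option backward.isDefEq.respectTransparency false
set_option linter.style.haveILetI false
set_option linter.unusedSectionVars false
set_option synthInstance.maxHeartbeats 400000

noncomputable section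

namespace Groth.Agent.H21Split.R2

/-- a sign as a unit of a ring -/
abbrev sU (R : Type u) [CommRing R] : ℤˣ →* Rˣ := Units.map (Int.castRingHom R).toMonoidHom

theorem sU_val (R : Type u) [CommRing R] (w : ℤˣ) : ((sU R w : Rˣ) : R) = ((w : ℤ) : R) := rfl

theorem sU_inv (R : Type u) [CommRing R] (w : ℤˣ) : (sU R w)⁻¹ = sU R w := by
  rw [← map_inv, Int.units_inv_eq_self]

theorem sign_cases (w : ℤˣ) : (w : ℤ) = 1 ∨ (w : ℤ) = -1 := Int.isUnit_iff.mp w.isUnit

theorem comm_aux {H : Type*} [Group H] {a b P : H} (h : a * b⁻¹ * a⁻¹ = b⁻¹ * P) : b * a * b⁻¹ * a⁻¹ = P := by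
  calc _ = b * (a * b⁻¹ * a⁻¹) := by group
    _ = _ := by rw [h]; group

variable {S : Scheme.{u}} {G : Over S} [GrpObj G]

/-- signs giving duality and the action of the Weyl points, at every test ring -/
def Signs (D : Red.SplitRed G) (s : D.idx → D.idx → ℤˣ) : Prop :=
  ∀ (R : Type u) [CommRing R] (g : Spec (CommRingCat.of R) ⟶ S),
    (∀ c, Dual g D c (D.P.reflectionPerm c c) ((-(sU R (s c c)) : Rˣ) : R)) ∧
    ∀ c b, HasN g D c (D.P.reflectionPerm c c) (-(sU R (s c c))) b (D.P.reflectionPerm c b) ((sU R (s c b) : Rˣ) : R)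

variable {D : Red.SplitRed G} {s : D.idx → D.idx → ℤˣ} (hs : Signs D s)
variable {R : Type u} [CommRing R] (g : Spec (CommRingCat.of R) ⟶ S)

include hs in
theorem hasN_of_signs (c b d : D.idx) (hd : D.P.reflectionPerm c b = d) :
    HasN g D c (D.P.reflectionPerm c c) (-(sU R (s c c))) b d ((sU R (s c b) : Rˣ) : R) := hd ▸ (hs R g).2 c b

include hs in
/-- the case `(1,1)` -/
theorem comm_11 (a b e : D.idx) (hA : D.P.pairing b a = -1) (hB : D.P.pairing a b = -1)
    (hsub : D.P.root b - D.P.root a ∉ Set.range D.P.root) (he : D.P.root e = D.P.root a + D.P.root b) (x y : R) :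
    uPt g D b y * uPt g D a x * (uPt g D b y)⁻¹ * (uPt g D a x)⁻¹ = uPt g D e (((s b a : ℤ) : R) * x * y) := by
  haveI := isAffineHom_hom D
  haveI := D.fintypeIdx
  haveI : Finite D.idx := Finite.of_fintype _
  have e1 : D.P.reflectionPerm a b = e := refl_eq D.P hA (by rw [he, one_zsmul, add_comm])
  have e2 : D.P.reflectionPerm b a = e := refl_eq D.P hB (by rw [he, one_zsmul])
  let T : A2Data g D :=
    ⟨a, b, D.P.reflectionPerm a a, D.P.reflectionPerm b b, e, -(sU R (s a a)), -(sU R (s b b)), sU R (s b a),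
      sU R (s a b), hA, hB, hsub, root_opp D a, root_opp D b, by rw [he, one_zsmul, one_zsmul], (hs R g).1 a,
      (hs R g).1 b, hasN_of_signs hs g a b e e1, hasN_of_signs hs g b a e e2⟩
  have h := T.rel.2 R x (-y)
  rw [uPt_neg] at h
  rw [comm_aux h]
  congr 1
  simp only [T, Algebra.algebraMap_self_apply, sU_val]
  ring

include hs in
/-- the case `(2,1)`, with `d = b - a` -/
theorem comm_21 (a b d f : D.idx) (hd : D.P.root d = D.P.root b - D.P.root a) (hA : D.P.pairing d a = -2)
    (hB : D.P.pairing a d = -1) (hf : D.P.root f = D.P.root a + D.P.root b) (x y : R) :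
    uPt g D b y * uPt g D a x * (uPt g D b y)⁻¹ * (uPt g D a x)⁻¹ =
      uPt g D f (2 * ((s a d * s d a : ℤˣ) : ℤ) * x * y) := by
  haveI := isAffineHom_hom D
  haveI := D.fintypeIdx
  haveI : Finite D.idx := Finite.of_fintype _
  have he : D.P.root b = (1 : ℤ) • D.P.root a + (1 : ℤ) • D.P.root d := by rw [hd]; module
  have hf' : D.P.root f = (2 : ℤ) • D.P.root a + (1 : ℤ) • D.P.root d := by rw [hf, hd]; module
  have e1 : D.P.reflectionPerm a d = f := refl_eq D.P hA (by rw [hf, hd]; module)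
  have e2 : D.P.reflectionPerm d a = b := refl_eq D.P hB (by rw [hd]; module)
  have pab : D.P.pairing b a = 0 := by
    rw [← D.P.root_coroot'_eq_pairing, he, coroot_a D.P hA]; norm_num
  have e3 : D.P.reflectionPerm a b = b := refl_eq D.P (m := 0) (by rw [pab, neg_zero]) (by rw [zero_smul, add_zero])
  let T : B2Data g D :=
    ⟨a, d, D.P.reflectionPerm a a, D.P.reflectionPerm d d, b, f, -(sU R (s a a)), -(sU R (s d d)), sU R (s d a),
      sU R (s a d), sU R (s a b), hA, hB, root_opp D a, root_opp D d, he, hf', (hs R g).1 a,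
      (hs R g).1 d, hasN_of_signs hs g a d f e1, hasN_of_signs hs g a b b e3, hasN_of_signs hs g d a b e2⟩
  have h := T.rel.2.2 R x (-y)
  rw [uPt_neg] at h
  rw [comm_aux h]
  congr 1
  simp only [T, sU_inv, Algebra.algebraMap_self_apply, sU_val, Units.val_mul, Int.cast_mul]
  ring

include hs in
/-- the case `(3,1)`, with `d = b - 2a` and `e = b - a` -/
theorem comm_31 (a b d e f : D.idx) (hd : D.P.root d = D.P.root b - (2 : ℤ) • D.P.root a)
    (he : D.P.root e = D.P.root b - D.P.root a) (hA : D.P.pairing d a = -3)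
    (hB : D.P.pairing a d = -1) (hf : D.P.root f = D.P.root a + D.P.root b) (x y : R) :
    uPt g D b y * uPt g D a x * (uPt g D b y)⁻¹ * (uPt g D a x)⁻¹ =
      uPt g D f (3 * ((-(s a d * s a e * s d a) : ℤˣ) : ℤ) * x * y) := by
  haveI := isAffineHom_hom D
  haveI := D.fintypeIdx
  haveI : Finite D.idx := Finite.of_fintype _
  have he' : D.P.root e = (1 : ℤ) • D.P.root a + (1 : ℤ) • D.P.root d := by rw [he, hd]; module
  have hb' : D.P.root b = (2 : ℤ) • D.P.root a + (1 : ℤ) • D.P.root d := by rw [hd]; module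
  have hq' : D.P.root f = (3 : ℤ) • D.P.root a + (1 : ℤ) • D.P.root d := by rw [hf, hd]; module
  have e1 : D.P.reflectionPerm a d = f := refl_eq D.P hA (by rw [hf, hd]; module)
  have e2 : D.P.reflectionPerm d a = e := refl_eq D.P hB (by rw [he, hd]; module)
  have pea : D.P.pairing e a = -1 := by
    rw [← D.P.root_coroot'_eq_pairing, he', coroot_a D.P hA]; norm_num
  have e3 : D.P.reflectionPerm a e = b := refl_eq D.P pea (by rw [he]; module)
  have pfd : D.P.pairing f d = -1 := by
    rw [← D.P.root_coroot'_eq_pairing, hq', coroot_b D.P hB]; norm_num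
  have hh : D.P.root (D.P.reflectionPerm d f) = (3 : ℤ) • D.P.root a + (2 : ℤ) • D.P.root d := by
    rw [D.P.root_reflectionPerm, D.P.reflection_apply_root, pfd, hq']; module
  let T : G2Data g D :=
    ⟨a, d, D.P.reflectionPerm a a, D.P.reflectionPerm d d, e, b, f, D.P.reflectionPerm d f, -(sU R (s a a)),
      -(sU R (s d d)), sU R (s d a), sU R (s a d), sU R (s a e), sU R (s d f), hA, hB, root_opp D a, root_opp D d,
      he', hb', hq', hh, (hs R g).1 a, (hs R g).1 d, hasN_of_signs hs g a d f e1, hasN_of_signs hs g a e b e3,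
      hasN_of_signs hs g d a e e2, hasN_of_signs hs g d f _ rfl⟩
  have h := T.rel.af R x (-y)
  rw [uPt_neg] at h
  rw [comm_aux h]
  congr 1
  simp only [T, ← map_mul, sU_inv, Algebra.algebraMap_self_apply, sU_val, Units.val_mul, Units.val_neg, Int.cast_mul,
    Int.cast_neg]
  ring

include hs in
/-- the case `(1,2)` -/
theorem comm_12 (a b e f : D.idx) (hA : D.P.pairing b a = -2) (hB : D.P.pairing a b = -1)
    (he : D.P.root e = D.P.root a + D.P.root b) (hf : D.P.root f = (2 : ℤ) • D.P.root a + D.P.root b) (x y : R) :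
    uPt g D b y * uPt g D a x * (uPt g D b y)⁻¹ * (uPt g D a x)⁻¹ =
      uPt g D e (((s b a : ℤ) : R) * x * y) * uPt g D f (((-(s a b) : ℤˣ) : ℤ) * x ^ 2 * y) := by
  haveI := isAffineHom_hom D
  haveI := D.fintypeIdx
  haveI : Finite D.idx := Finite.of_fintype _
  have he' : D.P.root e = (1 : ℤ) • D.P.root a + (1 : ℤ) • D.P.root b := by rw [he, one_zsmul, one_zsmul]
  have hf' : D.P.root f = (2 : ℤ) • D.P.root a + (1 : ℤ) • D.P.root b := by rw [hf, one_zsmul]
  have e1 : D.P.reflectionPerm a b = f := refl_eq D.P hA (by rw [hf, add_comm])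
  have e2 : D.P.reflectionPerm b a = e := refl_eq D.P hB (by rw [he, one_zsmul])
  have pea : D.P.pairing e a = 0 := by
    rw [← D.P.root_coroot'_eq_pairing, he', coroot_a D.P hA]; norm_num
  have e3 : D.P.reflectionPerm a e = e := refl_eq D.P (m := 0) (by rw [pea, neg_zero]) (by rw [zero_smul, add_zero])
  let T : B2Data g D :=
    ⟨a, b, D.P.reflectionPerm a a, D.P.reflectionPerm b b, e, f, -(sU R (s a a)), -(sU R (s b b)), sU R (s b a),
      sU R (s a b), sU R (s a e), hA, hB, root_opp D a, root_opp D b, he', hf', (hs R g).1 a,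
      (hs R g).1 b, hasN_of_signs hs g a b f e1, hasN_of_signs hs g a e e e3, hasN_of_signs hs g b a e e2⟩
  have h := T.rel.2.1 R x (-y)
  rw [uPt_neg] at h
  rw [comm_aux h]
  congr 1
  · congr 1
    simp only [T, Algebra.algebraMap_self_apply, sU_val]
    ring
  · congr 1
    simp only [T, Algebra.algebraMap_self_apply, sU_val, Units.val_neg, Int.cast_neg]
    ring

include hs in
/-- the case `(1,3)` -/
theorem comm_13 (a b c₁ c₂ c₃ c₄ : D.idx) (hA : D.P.pairing b a = -3) (hB : D.P.pairing a b = -1)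
    (h1 : D.P.root c₁ = D.P.root a + D.P.root b) (h2 : D.P.root c₂ = (2 : ℤ) • D.P.root a + D.P.root b)
    (h3 : D.P.root c₃ = (3 : ℤ) • D.P.root a + D.P.root b)
    (h4 : D.P.root c₄ = (3 : ℤ) • D.P.root a + (2 : ℤ) • D.P.root b) (x y : R) :
    uPt g D b y * uPt g D a x * (uPt g D b y)⁻¹ * (uPt g D a x)⁻¹ =
      uPt g D c₁ (((s b a : ℤ) : R) * x * y) * uPt g D c₂ (((-(s a c₁ * s b a) : ℤˣ) : ℤ) * x ^ 2 * y) *
      uPt g D c₃ (((-(s a b) : ℤˣ) : ℤ) * x ^ 3 * y) * uPt g D c₄ (((s b c₃ * s a b : ℤˣ) : ℤ) * x ^ 3 * y ^ 2) := by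
  haveI := isAffineHom_hom D
  haveI := D.fintypeIdx
  haveI : Finite D.idx := Finite.of_fintype _
  have h1' : D.P.root c₁ = (1 : ℤ) • D.P.root a + (1 : ℤ) • D.P.root b := by rw [h1, one_zsmul, one_zsmul]
  have h2' : D.P.root c₂ = (2 : ℤ) • D.P.root a + (1 : ℤ) • D.P.root b := by rw [h2, one_zsmul]
  have h3' : D.P.root c₃ = (3 : ℤ) • D.P.root a + (1 : ℤ) • D.P.root b := by rw [h3, one_zsmul]
  have e1 : D.P.reflectionPerm a b = c₃ := refl_eq D.P hA (by rw [h3, add_comm])
  have e2 : D.P.reflectionPerm b a = c₁ := refl_eq D.P hB (by rw [h1, one_zsmul])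
  have p1 : D.P.pairing c₁ a = -1 := by
    rw [← D.P.root_coroot'_eq_pairing, h1', coroot_a D.P hA]; norm_num
  have e3 : D.P.reflectionPerm a c₁ = c₂ := refl_eq D.P p1 (by rw [h1, h2]; module)
  have p3 : D.P.pairing c₃ b = -1 := by
    rw [← D.P.root_coroot'_eq_pairing, h3', coroot_b D.P hB]; norm_num
  have e4 : D.P.reflectionPerm b c₃ = c₄ := refl_eq D.P p3 (by rw [h3, h4]; module)
  let T : G2Data g D :=
    ⟨a, b, D.P.reflectionPerm a a, D.P.reflectionPerm b b, c₁, c₂, c₃, c₄, -(sU R (s a a)), -(sU R (s b b)),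
      sU R (s b a), sU R (s a b), sU R (s a c₁), sU R (s b c₃), hA, hB, root_opp D a, root_opp D b,
      h1', h2', h3', h4, (hs R g).1 a, (hs R g).1 b, hasN_of_signs hs g a b c₃ e1, hasN_of_signs hs g a c₁ c₂ e3,
      hasN_of_signs hs g b a c₁ e2, hasN_of_signs hs g b c₃ c₄ e4⟩
  have h := T.rel.ab R x (-y)
  rw [uPt_neg] at h
  rw [comm_aux h]
  simp only [T, Algebra.algebraMap_self_apply, sU_val, Units.val_mul, Units.val_neg, Int.cast_mul, Int.cast_neg]
  congr 1
  · congr 1
    · congr 1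
      · congr 1; ring
      · congr 1; ring
    · congr 1; ring
  · congr 1; ring

include hs in
/-- the case `(2,2)`, with `d = b - a` -/
theorem comm_22 (a b d c₁ c₂ c₃ : D.idx) (hd : D.P.root d = D.P.root b - D.P.root a) (hA : D.P.pairing d a = -3)
    (hB : D.P.pairing a d = -1) (h1 : D.P.root c₁ = D.P.root a + D.P.root b)
    (h2 : D.P.root c₂ = (2 : ℤ) • D.P.root a + D.P.root b)
    (h3 : D.P.root c₃ = D.P.root a + (2 : ℤ) • D.P.root b) (x y : R) :
    uPt g D b y * uPt g D a x * (uPt g D b y)⁻¹ * (uPt g D a x)⁻¹ =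
      uPt g D c₁ (2 * ((s a b : ℤ) : R) * x * y) * uPt g D c₂ (3 * ((s a d * s d a : ℤˣ) : ℤ) * x ^ 2 * y) *
      uPt g D c₃ (3 * ((s d c₂ * s a d : ℤˣ) : ℤ) * x * y ^ 2) := by
  haveI := isAffineHom_hom D
  haveI := D.fintypeIdx
  haveI : Finite D.idx := Finite.of_fintype _
  have hb' : D.P.root b = (1 : ℤ) • D.P.root a + (1 : ℤ) • D.P.root d := by rw [hd]; module
  have h1' : D.P.root c₁ = (2 : ℤ) • D.P.root a + (1 : ℤ) • D.P.root d := by rw [h1, hd]; module
  have h2' : D.P.root c₂ = (3 : ℤ) • D.P.root a + (1 : ℤ) • D.P.root d := by rw [h2, hd]; module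
  have h3' : D.P.root c₃ = (3 : ℤ) • D.P.root a + (2 : ℤ) • D.P.root d := by rw [h3, hd]; module
  have e1 : D.P.reflectionPerm a d = c₂ := refl_eq D.P hA (by rw [h2, hd]; module)
  have e2 : D.P.reflectionPerm d a = b := refl_eq D.P hB (by rw [hd]; module)
  have p1 : D.P.pairing b a = -1 := by
    rw [← D.P.root_coroot'_eq_pairing, hb', coroot_a D.P hA]; norm_num
  have e3 : D.P.reflectionPerm a b = c₁ := refl_eq D.P p1 (by rw [h1, one_zsmul, add_comm])
  have p3 : D.P.pairing c₂ d = -1 := by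
    rw [← D.P.root_coroot'_eq_pairing, h2', coroot_b D.P hB]; norm_num
  have e4 : D.P.reflectionPerm d c₂ = c₃ := refl_eq D.P p3 (by rw [h2, h3, hd]; module)
  let T : G2Data g D :=
    ⟨a, d, D.P.reflectionPerm a a, D.P.reflectionPerm d d, b, c₁, c₂, c₃, -(sU R (s a a)), -(sU R (s d d)),
      sU R (s d a), sU R (s a d), sU R (s a b), sU R (s d c₂), hA, hB, root_opp D a, root_opp D d,
      hb', h1', h2', h3', (hs R g).1 a, (hs R g).1 d, hasN_of_signs hs g a d c₂ e1, hasN_of_signs hs g a b c₁ e3,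
      hasN_of_signs hs g d a b e2, hasN_of_signs hs g d c₂ c₃ e4⟩
  have h := T.rel.ae R x (-y)
  rw [uPt_neg] at h
  rw [comm_aux h]
  have hsq : (sU R (s d a * s d a)) = 1 := by rw [Int.units_mul_self, map_one]
  simp only [T, ← map_mul, sU_inv]
  simp only [hsq, Algebra.algebraMap_self_apply, sU_val, Units.val_mul, Units.val_one, Int.cast_mul, Int.cast_one]
  congr 1
  · congr 1
    · congr 1; ring
    · congr 1; ring
  · congr 1; ring

end Groth.Agent.H21Split.R2
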