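import Groth.Agent.H21Split.Psi
import Mathlib.LinearAlgebra.RootSystem.Reduced
import Mathlib.LinearAlgebra.RootSystem.Finite.Lemmas
import Mathlib.Tactic.IntervalCases

/-!
The positive roots in the span of two roots spanning a system of type A₂, B₂ or G₂.
-/

namespace Groth.Agent.H21Split.R2

open RootPairing

set_option linter.style.haveILetI false
set_option linter.unusedSectionVars false

variable {ι M N : Type} [Finite ι] [AddCommGroup M] [AddCommGroup N] (P : RootPairing ι ℤ M N)
variable {a b : ι} {m : ℤ}

theorem coroot_a (hA : P.pairing b a = -m) (i j : ℤ) :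
    P.coroot' a (i • P.root a + j • P.root b) = 2 * i - m * j := by
  rw [coroot'_comb, P.pairing_same, hA]; ring

theorem coroot_b (hB : P.pairing a b = -1) (i j : ℤ) :
    P.coroot' b (i • P.root a + j • P.root b) = -i + 2 * j := by
  rw [coroot'_comb, P.pairing_same, hB]; ring

/-- the two roots are independent -/
theorem comb_eq_zero (hA : P.pairing b a = -m) (hB : P.pairing a b = -1) (hm : m ≠ 4) {i j : ℤ}
    (h : i • P.root a + j • P.root b = 0) : i = 0 ∧ j = 0 := by
  have h1 := coroot_a P hA i j
  have h2 := coroot_b P hB i j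
  rw [h, map_zero] at h1 h2
  have : (4 - m) * j = 0 := by linear_combination -h1 - 2 * h2
  rcases mul_eq_zero.mp this with h3 | h3
  · omega
  · subst h3; omega

theorem comb_inj (hA : P.pairing b a = -m) (hB : P.pairing a b = -1) (hm : m ≠ 4) {i j i' j' : ℤ}
    (h : i • P.root a + j • P.root b = i' • P.root a + j' • P.root b) : i = i' ∧ j = j' := by
  have := comb_eq_zero P hA hB hm (i := i - i') (j := j - j') (by rw [sub_smul, sub_smul, sub_add_sub_comm, h, sub_self])
  omega

theorem pairing_prod_lt_four [Module.IsTorsionFree ℤ M] {c d : ι}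
    (h : LinearIndependent ℤ ![P.root c, P.root d]) : P.pairing c d * P.pairing d c < 4 := by
  have h1 : P.coxeterWeightIn ℤ c d ≤ 4 := P.coxeterWeightIn_le_four ℤ c d
  have h2 := (P.linearIndependent_iff_coxeterWeightIn_ne_four ℤ).mp h
  have e : P.coxeterWeightIn ℤ c d = P.pairing c d * P.pairing d c := by
    simpa [RootPairing.coxeterWeight] using P.algebraMap_coxeterWeightIn ℤ c d
  omega

/-- the positive roots in the span, other than `a` and `b` -/
def IsPosRootCoord (m i j : ℤ) : Prop :=
  (i = 1 ∧ j = 1) ∨ (2 ≤ m ∧ i = 2 ∧ j = 1) ∨ (m = 2 ∧ i = 2 ∧ j = 2) ∨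
    (m = 3 ∧ ((i = 3 ∧ j = 1) ∨ (i = 3 ∧ j = 2)))

set_option maxHeartbeats 3000000 in
theorem pos_root_coord (hA : P.pairing b a = -m) (hB : P.pairing a b = -1) (hm : m = 1 ∨ m = 2 ∨ m = 3)
    (hsub : m = 1 → P.root b - P.root a ∉ Set.range P.root) {c : ι} {i j : ℤ} (hc : P.root c = i • P.root a + j • P.root b) (hi : 1 ≤ i) (hj : 1 ≤ j) :
    IsPosRootCoord m i j := by
  haveI := Fintype.ofFinite ι
  haveI : Module.IsReflexive ℤ M := .of_isPerfPair P.toLinearMap
  haveI : IsAddTorsionFree M := .of_isTorsionFree ℤ M
  have hm4 : m ≠ 4 := by omega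
  have hind : ∀ d : ι, ∀ p q : ℤ, P.root d = p • P.root a + q • P.root b → i * q - j * p ≠ 0 →
      LinearIndependent ℤ ![P.root c, P.root d] := by
    intro d p q hd hdet
    rw [LinearIndependent.pair_iff]
    intro s t hst
    obtain ⟨e1, e2⟩ := comb_eq_zero P hA hB hm4 (i := s * i + t * p) (j := s * j + t * q) (by
      rw [← hst, hc, hd, smul_add, smul_add, smul_smul, smul_smul, smul_smul, smul_smul, add_smul, add_smul]; abel)
    have hs : s * (i * q - j * p) = 0 := by linear_combination q * e1 - p * e2
    have ht : t * (i * q - j * p) = 0 := by linear_combination i * e2 - j * e1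
    exact ⟨(mul_eq_zero.mp hs).resolve_right hdet, (mul_eq_zero.mp ht).resolve_right hdet⟩
  have hxa := pairing_prod_lt_four P (hind a 1 0 (by simp) (by simp; omega))
  have hyb := pairing_prod_lt_four P (hind b 0 1 (by simp) (by simp; omega))
  set x := P.pairing a c
  set y := P.pairing b c
  have hx : P.pairing c a = 2 * i - m * j := by rw [← P.root_coroot'_eq_pairing, hc, coroot_a P hA]
  have hy : P.pairing c b = -i + 2 * j := by rw [← P.root_coroot'_eq_pairing, hc, coroot_b P hB]
  rw [hx] at hxa; rw [hy] at hyb
  have hsum : i * x + j * y = 2 := by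
    have := P.pairing_same c
    rw [← P.root_coroot'_eq_pairing, hc, coroot'_comb] at this
    exact this
  let F := P.RootForm
  have hα := rootForm_root_pos (P := P) a
  set α := F (P.root a) (P.root a)
  have hab : 2 * F (P.root a) (P.root b) = -α * m := by
    have := two_mul_rootForm (P := P) (P.root b) a
    rw [P.root_coroot'_eq_pairing, hA] at this
    have hs : F (P.root b) (P.root a) = F (P.root a) (P.root b) := by
      simpa using P.rootForm_symmetric.eq (P.root b) (P.root a)
    change 2 * F (P.root b) (P.root a) = _ at this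
    rw [hs] at this
    linear_combination this
  have hba : 2 * F (P.root a) (P.root b) = -F (P.root b) (P.root b) := by
    have := two_mul_rootForm (P := P) (P.root a) b
    rw [P.root_coroot'_eq_pairing, hB] at this
    linarith
  have hcc : F (P.root c) (P.root c) = α * (i * i - m * i * j + m * (j * j)) := by
    have hsym : F (P.root b) (P.root a) = F (P.root a) (P.root b) := by
      simpa using P.rootForm_symmetric.eq (P.root b) (P.root a)
    simp only [hc, map_add, map_smul, LinearMap.add_apply, LinearMap.smul_apply, smul_eq_mul]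
    linear_combination (i * j) * hsym + (i * j - j * j) * hab + (j * j) * hba
  have hac : 2 * F (P.root a) (P.root c) = x * F (P.root c) (P.root c) := by
    have := two_mul_rootForm (P := P) (P.root a) c
    rw [P.root_coroot'_eq_pairing] at this
    exact this
  have hbc : 2 * F (P.root b) (P.root c) = y * F (P.root c) (P.root c) := by
    have := two_mul_rootForm (P := P) (P.root b) c
    rw [P.root_coroot'_eq_pairing] at this
    exact this
  set Q := i * i - m * i * j + m * (j * j) with hQdef
  have hxQ : x * Q = 2 * i - m * j := by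
    rw [hcc] at hac
    simp only [hc, map_add, map_smul, smul_eq_mul] at hac
    refine mul_left_cancel₀ (ne_of_gt hα) ?_
    linear_combination -hac + j * hab
  have hyQ : y * Q = m * (2 * j - i) := by
    rw [hcc] at hbc
    simp only [hc, map_add, map_smul, smul_eq_mul] at hbc
    have hsym : F (P.root b) (P.root a) = F (P.root a) (P.root b) := by
      simpa using P.rootForm_symmetric.eq (P.root b) (P.root a)
    refine mul_left_cancel₀ (ne_of_gt hα) ?_
    rw [hsym] at hbc
    linear_combination -hbc + (i - 2 * j) * hab + (2 * j) * hba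
  have hQ0 : 0 < Q := by
    have := rootForm_root_pos (P := P) c
    change 0 < F (P.root c) (P.root c) at this
    rw [hcc] at this
    exact (pos_iff_pos_of_mul_pos this).mp hα
  have hxx : x * x * Q < 4 := by
    calc x * x * Q = (2 * i - m * j) * x := by rw [← hxQ]; ring
      _ < 4 := hxa
  have hx3 : -2 < x ∧ x < 2 := by
    constructor <;> nlinarith
  obtain ⟨hx1, hx2⟩ := hx3
  have key : 4 * Q = (2 * i - m * j) * (2 * i - m * j) + m * (4 - m) * (j * j) := by rw [hQdef]; ring
  have hb : i ≤ 4 ∧ j ≤ 2 := by
    rcases (show (x = -1 ∨ x = 1) ∨ x = 0 by omega) with h | h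
    · have hQ3 : Q ≤ 3 := by
        have hx1 : x * x = 1 := by rcases h with h | h <;> rw [h] <;> norm_num
        rw [hx1] at hxx; omega
      have hl : 2 * i - m * j ≤ 3 := by rcases h with h | h <;> rw [h] at hxQ <;> omega
      have h4 : 3 ≤ m * (4 - m) := by rcases hm with rfl | rfl | rfl <;> norm_num
      have hj2 : j ≤ 2 := by nlinarith [mul_self_nonneg (2 * i - m * j)]
      exact ⟨by rcases hm with rfl | rfl | rfl <;> omega, hj2⟩
    · rw [h, mul_zero, zero_add] at hsum
      rw [h, zero_mul] at hxQ
      have hj2 : j ≤ 2 := Int.le_of_dvd two_pos ⟨y, hsum.symm⟩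
      exact ⟨by rcases hm with rfl | rfl | rfl <;> omega, hj2⟩
  obtain ⟨hb1, hb2⟩ := hb
  have hx2' : ¬(m = 1 ∧ i = 2 ∧ j = 1) := by
    rintro ⟨rfl, rfl, rfl⟩
    refine hsub rfl ⟨P.reflectionPerm a c, ?_⟩
    rw [P.root_reflectionPerm, P.reflection_apply_root, hx, hc]
    module
  have hy2' : ¬(m = 1 ∧ i = 1 ∧ j = 2) := by
    rintro ⟨rfl, rfl, rfl⟩
    refine hsub rfl ⟨P.reflectionPerm (P.reflectionPerm b c) (P.reflectionPerm b c), ?_⟩
    rw [P.root_reflectionPerm, P.reflection_apply_self, P.root_reflectionPerm, P.reflection_apply_root, hy, hc]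
    module
  unfold IsPosRootCoord
  rcases hm with rfl | rfl | rfl <;> interval_cases i <;> interval_cases j <;>
    norm_num [hQdef] at hxQ hyQ hQ0 hsum ⊢ <;> omega

end Groth.Agent.H21Split.R2
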