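import Groth.Agent.H21Split.R2.Basic
import Groth.Agent.H21Split.R2.Roots

/-!
Coordinates of points of root groups with values in dual numbers, and the commutator formula in a span of two roots.
-/

open CategoryTheory MonoidalCategory CartesianMonoidalCategory MonObj GrpObj AlgebraicGeometry
open TrivSqZeroExt (inl inr)

universe u

set_option backward.isDefEq.respectTransparency false
set_option linter.style.haveILetI false
set_option linter.unusedSectionVars false
set_option synthInstance.maxHeartbeats 400000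

noncomputable section

namespace Groth.Agent.H21Split.R2

variable {S : Scheme.{u}} {R : Type u} [CommRing R] (g : Spec (CommRingCat.of R) ⟶ S)
variable {B : Type u} [CommRing B] [Algebra R B]
variable {G : Over S} [GrpObj G] (D : Red.SplitRed G) [IsAffineHom G.hom]

/-- product of points of root groups in square zero elements -/
def LL (l : List (D.idx × B)) : pt g (DualNumber B) ⟶ G :=
  (l.map fun p => uPt g D p.1 (inr p.2 : DualNumber B)).prod

/-- the coordinate at a root -/
def Cd (d : D.idx) (φ : pt g (DualNumber B) ⟶ G) : B :=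
  lieDev g φ ((exists_dual_split g D).choose (Sum.inl d))

open Classical in
theorem Cd_LL (d : D.idx) (l : List (D.idx × B)) :
    Cd g D d (LL g D l) = (l.map fun p => if p.1 = d then p.2 else 0).sum := by
  obtain ⟨-, h⟩ := isLie_prod l (fun p => uPt g D p.1 (inr p.2 : DualNumber B)) fun p => isLie_uPt_inr g D _ _
  rw [Cd, LL, h]
  induction l with
  | nil => simp
  | cons p l ih =>
    obtain ⟨-, h'⟩ := isLie_prod l (fun p => uPt g D p.1 (inr p.2 : DualNumber B)) fun p => isLie_uPt_inr g D _ _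
    simp only [List.map_cons, List.sum_cons, LinearMap.add_apply]
    rw [ih h']
    congr 1
    rw [lieDev_uPt, (exists_dual_split g D).choose_spec.1]
    simp [apply_ite (algebraMap R B)]

open Classical in
/-- equal products have the same coordinates -/
theorem coord_eq {l l' : List (D.idx × B)} (h : LL g D l = LL g D l') (d : D.idx) :
    (l.map fun p => if p.1 = d then p.2 else 0).sum = (l'.map fun p => if p.1 = d then p.2 else 0).sum := by
  rw [← Cd_LL (R := R) g D, ← Cd_LL (R := R) g D, h]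

theorem LL_nil : LL g D ([] : List (D.idx × B)) = 1 := rfl

theorem LL_append (l l' : List (D.idx × B)) : LL g D (l ++ l') = LL g D l * LL g D l' := by
  simp [LL, List.map_append, List.prod_append]

theorem LL_cons (p : D.idx × B) (l : List (D.idx × B)) :
    LL g D (p :: l) = uPt g D p.1 (inr p.2 : DualNumber B) * LL g D l := rfl

theorem LL_singleton (p : D.idx × B) : LL g D [p] = uPt g D p.1 (inr p.2 : DualNumber B) := by
  simp [LL]

theorem algebraMap_mul_inr (c : R) (x : B) :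
    algebraMap R (DualNumber B) c * (inr x : DualNumber B) = inr (algebraMap R B c * x) := by
  rw [TrivSqZeroExt.algebraMap_eq_inl', TrivSqZeroExt.inl_mul_inr]; rfl

/-- the Weyl point conjugates a product to the product of the images -/
theorem conj_LL (w : pt g (DualNumber B) ⟶ G) (l l' : List (D.idx × B))
    (h : List.Forall₂ (fun p q => w * uPt g D p.1 (inr p.2 : DualNumber B) * w⁻¹ = uPt g D q.1 (inr q.2 : DualNumber B)) l l') :
    w * LL g D l * w⁻¹ = LL g D l' := by
  induction h with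
  | nil => rw [LL_nil, _root_.mul_one, mul_inv_cancel]
  | cons hpq _ ih => rw [LL_cons, LL_cons, ← conj_mul3, hpq, ih]

theorem HasN.inr {a a' d d' : D.idx} {k : Rˣ} {N : R} (h : HasN g D a a' k d d' N) (x : B) :
    wPt g D a a' k (DualNumber B) * uPt g D d (inr x : DualNumber B) * (wPt g D a a' k (DualNumber B))⁻¹ =
      uPt g D d' (inr (algebraMap R B N * x) : DualNumber B) := by
  rw [h (DualNumber B), algebraMap_mul_inr]

variable {m : ℤ} {a b : D.idx}

/-- the commutator formula of two roots in the span, every candidate root allowed -/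
theorem exists_formula' (hA : D.P.pairing b a = -m) (hB : D.P.pairing a b = -1) (hm : m = 1 ∨ m = 2 ∨ m = 3)
    (hroots : ∀ (c : D.idx) (i j : ℤ), D.P.root c = i • D.P.root a + j • D.P.root b → 1 ≤ i → 1 ≤ j →
      IsPosRootCoord m i j)
    (α β : D.idx) (iα jα iβ jβ : ℕ) (hα : D.P.root α = (iα : ℤ) • D.P.root a + (jα : ℤ) • D.P.root b)
    (hβ : D.P.root β = (iβ : ℤ) • D.P.root a + (jβ : ℤ) • D.P.root b)
    (hpos : 1 ≤ iα + iβ ∧ 1 ≤ jα + jβ) (hdet : (iα : ℤ) * jβ - (jα : ℤ) * iβ ≠ 0)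
    {n : ℕ} (e : Fin n → D.idx) (i j : Fin n → ℕ) (hinj : Function.Injective fun k => (i k, j k))
    (hij : ∀ k, 1 ≤ i k ∧ 1 ≤ j k)
    (he : ∀ k, D.P.root (e k) = ((i k * iα + j k * iβ : ℕ) : ℤ) • D.P.root a + ((i k * jα + j k * jβ : ℕ) : ℤ) • D.P.root b)
    (hall : ∀ p q : ℕ, 1 ≤ p → 1 ≤ q →
      (∃ c, D.P.root c = (p : ℤ) • D.P.root α + (q : ℤ) • D.P.root β) →
      IsPosRootCoord m ((p : ℤ) * iα + (q : ℤ) * iβ) ((p : ℤ) * jα + (q : ℤ) * jβ) →
      ∃ k, i k = p ∧ j k = q) :
    ∃ C : Fin n → R, ∀ (B : Type u) [CommRing B] [Algebra R B] (x y : B),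
      uPt g D α x * uPt g D β y * (uPt g D α x)⁻¹ =
        uPt g D β y * (List.ofFn fun k => uPt g D (e k) (algebraMap R B (C k) * x ^ i k * y ^ j k)).prod := by
  haveI := D.fintypeIdx
  haveI : Finite D.idx := Finite.of_fintype _
  have hm4 : m ≠ 4 := by omega
  have hcomb : ∀ p q : ℤ, p • D.P.root α + q • D.P.root β =
      (p * iα + q * iβ) • D.P.root a + (p * jα + q * jβ) • D.P.root b := fun p q => by rw [hα, hβ]; module
  have hsolve : ∀ p q : ℤ, p * iα + q * iβ = 0 → p * jα + q * jβ = 0 → p = 0 ∧ q = 0 := fun p q h1 h2 => by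
    have hp : p * ((iα : ℤ) * jβ - (jα : ℤ) * iβ) = 0 := by linear_combination (jβ : ℤ) * h1 - (iβ : ℤ) * h2
    have hq : q * ((iα : ℤ) * jβ - (jα : ℤ) * iβ) = 0 := by linear_combination (iα : ℤ) * h2 - (jα : ℤ) * h1
    exact ⟨(mul_eq_zero.mp hp).resolve_right hdet, (mul_eq_zero.mp hq).resolve_right hdet⟩
  refine (?_ : ∀ _ : ExistsUnique _, _) (existsUnique_comm_core D g α β (fun p q hp hq h0 => ?_) e i j (fun k l hkl => hinj ?_)
    (fun k => ⟨(hij k).1, (hij k).2, by rw [hcomb, he]; push_cast; rfl⟩) (fun c p q hp hq hc => ?_))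
  · exact fun ⟨C, hC, _⟩ => ⟨C, hC⟩
  · rw [hcomb] at h0
    obtain ⟨h1, h2⟩ := comb_eq_zero D.P hA hB hm4 h0
    obtain ⟨h3, -⟩ := hsolve _ _ h1 h2
    omega
  · have h := (he k).symm.trans ((congrArg D.P.root hkl).trans (he l))
    obtain ⟨h1, h2⟩ := comb_inj D.P hA hB hm4 h
    push_cast at h1 h2
    obtain ⟨h3, h4⟩ := hsolve ((i k : ℤ) - i l) ((j k : ℤ) - j l) (by linear_combination h1) (by linear_combination h2)
    simp only [Prod.mk.injEq]
    omega
  · have hex : ∃ c, D.P.root c = (p : ℤ) • D.P.root α + (q : ℤ) • D.P.root β := ⟨c, hc⟩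
    rw [hcomb] at hc
    have h1 := hroots c _ _ hc (by nlinarith) (by nlinarith)
    obtain ⟨k, rfl, rfl⟩ := hall p q hp hq hex h1
    exact ⟨k, D.P.root.injective (by rw [hc, he]; push_cast; rfl), rfl, rfl⟩

/-- the commutator formula of two roots in the span -/
theorem exists_formula (hA : D.P.pairing b a = -m) (hB : D.P.pairing a b = -1) (hm : m = 1 ∨ m = 2 ∨ m = 3)
    (hroots : ∀ (c : D.idx) (i j : ℤ), D.P.root c = i • D.P.root a + j • D.P.root b → 1 ≤ i → 1 ≤ j →
      IsPosRootCoord m i j ∧ ¬(m = 2 ∧ i = 2 ∧ j = 2))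
    (α β : D.idx) (iα jα iβ jβ : ℕ) (hα : D.P.root α = (iα : ℤ) • D.P.root a + (jα : ℤ) • D.P.root b)
    (hβ : D.P.root β = (iβ : ℤ) • D.P.root a + (jβ : ℤ) • D.P.root b)
    (hpos : 1 ≤ iα + iβ ∧ 1 ≤ jα + jβ) (hdet : (iα : ℤ) * jβ - (jα : ℤ) * iβ ≠ 0)
    {n : ℕ} (e : Fin n → D.idx) (i j : Fin n → ℕ) (hinj : Function.Injective fun k => (i k, j k))
    (hij : ∀ k, 1 ≤ i k ∧ 1 ≤ j k)
    (he : ∀ k, D.P.root (e k) = ((i k * iα + j k * iβ : ℕ) : ℤ) • D.P.root a + ((i k * jα + j k * jβ : ℕ) : ℤ) • D.P.root b)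
    (hall : ∀ p q : ℕ, 1 ≤ p → 1 ≤ q →
      IsPosRootCoord m ((p : ℤ) * iα + (q : ℤ) * iβ) ((p : ℤ) * jα + (q : ℤ) * jβ) →
      ¬(m = 2 ∧ (p : ℤ) * iα + (q : ℤ) * iβ = 2 ∧ (p : ℤ) * jα + (q : ℤ) * jβ = 2) →
      ∃ k, i k = p ∧ j k = q) :
    ∃ C : Fin n → R, ∀ (B : Type u) [CommRing B] [Algebra R B] (x y : B),
      uPt g D α x * uPt g D β y * (uPt g D α x)⁻¹ =
        uPt g D β y * (List.ofFn fun k => uPt g D (e k) (algebraMap R B (C k) * x ^ i k * y ^ j k)).prod := by
  refine exists_formula' g D hA hB hm (fun c i j hc hi hj => (hroots c i j hc hi hj).1) α β iα jα iβ jβ hα hβ hpos hdet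
    e i j hinj hij he fun p q hp hq hex h => hall p q hp hq h ?_
  obtain ⟨c, hc⟩ := hex
  refine (hroots c _ _ (?_ : D.P.root c = _) ?_ ?_).2
  · rw [hc, hα, hβ]; module
  · nlinarith
  · nlinarith

end Groth.Agent.H21Split.R2
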