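import Groth.Agent.H21Split.R2.PinAB2

/-!
Conjugation of one Weyl point by another, and the torus part of powers of a product of two Weyl points.
-/

open CategoryTheory MonoidalCategory CartesianMonoidalCategory MonObj GrpObj AlgebraicGeometry

universe u

set_option backward.isDefEq.respectTransparency false
set_option linter.style.haveILetI false
set_option linter.unusedSectionVars false
set_option synthInstance.maxHeartbeats 400000

noncomputable section

namespace Groth.Agent.H21Split.R2

variable {S : Scheme.{u}} {R : Type u} [CommRing R] (g : Spec (CommRingCat.of R) ⟶ S)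
variable {B : Type u} [CommRing B] [Algebra R B]
variable {G : Over S} [GrpObj G] (D : Red.SplitRed G)

theorem coroot_refl (i j : D.idx) :
    D.P.coroot (D.P.reflectionPerm i j) = D.P.coroot j - D.P.pairing i j • D.P.coroot i := by
  rw [D.P.coroot_reflectionPerm, D.P.coreflection_apply, D.P.root'_coroot_eq_pairing]

/-- the coroot point at the reflected root -/
theorem cor_comp_refl (z : Bˣ) (i j : D.idx) :
    (cor D z j).comp (AddMonoidHom.toMultiplicative (sMap D i)) = cor D z (D.P.reflectionPerm i j) := by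
  refine MonoidHom.ext fun m => ?_
  obtain ⟨m, rfl⟩ := Multiplicative.ofAdd.surjective m
  rw [MonoidHom.comp_apply, cor_apply]
  change cor D z j (Multiplicative.ofAdd (D.P.reflection i m)) = _
  rw [cor_apply, coroot_refl, reflection_apply', LinearMap.sub_apply, LinearMap.smul_apply, map_sub, map_smul,
    smul_eq_mul, smul_eq_mul, coroot_apply D j (D.P.root i), D.P.root_coroot'_eq_pairing, mul_comm]

theorem cor_zpow (z : Bˣ) (n : ℤ) (a : D.idx) (m : Multiplicative D.M) :
    cor D (z ^ n) a m = ((z ^ (n * D.P.coroot a m.toAdd) : Bˣ) : B) := by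
  obtain ⟨m, rfl⟩ := Multiplicative.ofAdd.surjective m
  rw [cor_apply, zpow_mul]; rfl

/-- the torus point `a^∨(-1)^i b^∨(-1)^j` -/
def tor (a b : D.idx) (i j : ℤ) (B : Type u) [CommRing B] [Algebra R B] : Multiplicative D.M →* B :=
  cor D ((-1 : Bˣ) ^ i) a * cor D ((-1 : Bˣ) ^ j) b

theorem cor_refl (z : Bˣ) (i j : D.idx) :
    cor D z (D.P.reflectionPerm i j) = cor D z j * cor D (z ^ (-D.P.pairing i j)) i := by
  refine MonoidHom.ext fun m => ?_
  obtain ⟨m, rfl⟩ := Multiplicative.ofAdd.surjective m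
  rw [MonoidHom.mul_apply, cor_apply, cor_apply, cor_zpow, coroot_refl, LinearMap.sub_apply, LinearMap.smul_apply,
    smul_eq_mul, ← Units.val_mul, ← zpow_add]
  congr 2
  change _ = _ + -D.P.pairing i j * D.P.coroot i m
  ring

theorem cor_refl_self (z : Bˣ) (a : D.idx) : cor D z (D.P.reflectionPerm a a) = cor D z⁻¹ a := by
  rw [cor_refl, D.P.pairing_same, ← cor_mul]
  congr 1
  group

theorem tor_eq_of_parity {a b : D.idx} {i j i' j' : ℤ} (hi : Even (i - i')) (hj : Even (j - j')) :
    tor D a b i j B (R := R) = tor D a b i' j' B (R := R) := by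
  have h : ∀ n n' : ℤ, Even (n - n') → (-1 : Bˣ) ^ n = (-1 : Bˣ) ^ n' := fun n n' h => by
    rw [show n = n' + (n - n') by ring, zpow_add, Even.neg_zpow h, one_zpow, _root_.mul_one]
  rw [tor, tor, h i i' hi, h j j' hj]

theorem tor_step_left (a b : D.idx) (i j : ℤ) :
    (tor D a b i j B (R := R)).comp (AddMonoidHom.toMultiplicative (sMap D a)) * cor D (-1 : Bˣ) a =
      tor D a b (-i - D.P.pairing a b * j + 1) j B (R := R) := by
  rw [tor, MonoidHom.mul_comp, cor_comp_refl, cor_comp_refl, cor_refl_self, cor_refl, tor]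
  rw [mul_comm (cor D ((-1 : Bˣ) ^ j) b), ← _root_.mul_assoc, mul_right_comm, ← cor_mul, ← cor_mul, ← zpow_neg, ← zpow_mul,
    ← zpow_add, ← zpow_add_one]
  congr 3
  ring

theorem tor_swap (a b : D.idx) (i j : ℤ) : tor D a b i j B (R := R) = tor D b a j i B (R := R) := by
  rw [tor, tor, mul_comm]

theorem tor_step_right (a b : D.idx) (i j : ℤ) :
    (tor D a b i j B (R := R)).comp (AddMonoidHom.toMultiplicative (sMap D b)) * cor D (-1 : Bˣ) b =
      tor D a b i (-j - D.P.pairing b a * i + 1) B (R := R) := by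
  rw [tor_swap, tor_step_left, tor_swap]

theorem cor_eq_tor_left (a b : D.idx) : cor D (-1 : Bˣ) a = tor D a b 1 0 B (R := R) := by
  rw [tor, zpow_one, zpow_zero, cor_one, _root_.mul_one]

theorem cor_eq_tor_right (a b : D.idx) : cor D (-1 : Bˣ) b = tor D a b 0 1 B (R := R) := by
  rw [tor, zpow_one, zpow_zero, cor_one, _root_.one_mul]

theorem tor_zero (a b : D.idx) : tor D a b 0 0 B (R := R) = 1 := by
  rw [tor, zpow_zero, cor_one, cor_one, _root_.mul_one]

theorem sandwich_aux {H : Type*} [Group H] {W T : H} : W * T * W = W * T * W⁻¹ * (W * W) := by group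

variable {a a' : D.idx} {k : Rˣ} (ha : D.P.root a' = -D.P.root a) (hk : Dual g D a a' (k : R))

include ha hk in
/-- a torus point between two copies of the Weyl point -/
theorem wPt_sandwich (χ : Multiplicative D.M →* B) :
    wPt g D a a' k B * tPt g D χ * wPt g D a a' k B =
      tPt g D (χ.comp (AddMonoidHom.toMultiplicative (sMap D a)) * cor D (-1 : Bˣ) a) := by
  rw [sandwich_aux, wPt_tPt g D ha hk, wPt_sq g D ha hk, ← tPt_mul]

variable [IsAffineHom G.hom] [D.P.IsReduced]

/-- the constants of two pairs and the factors of a point carrying one to the other -/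
theorem pair_factor {c d c' d' : D.idx} {kc kd : Rˣ} (hd : D.P.root d' = -D.P.root d)
    (hkc : Dual g D c c' (kc : R)) (hkd : Dual g D d d' (kd : R)) (W : pt g R ⟶ G) (N N' : Rˣ)
    (hN : ∀ (B : Type u) [CommRing B] [Algebra R B] (x : B),
      pmap g (toBase R B) ≫ W * uPt g D c x * (pmap g (toBase R B) ≫ W)⁻¹ = uPt g D d (algebraMap R B N * x))
    (hN' : ∀ (B : Type u) [CommRing B] [Algebra R B] (x : B),
      pmap g (toBase R B) ≫ W * uPt g D c' x * (pmap g (toBase R B) ≫ W)⁻¹ = uPt g D d' (algebraMap R B N' * x))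
    (hT : ∀ (B : Type u) [CommRing B] [Algebra R B] (z : Bˣ),
      pmap g (toBase R B) ≫ W * tPt g D (cor D z c) * (pmap g (toBase R B) ≫ W)⁻¹ = tPt g D (cor D z d)) :
    kd * N * N' = kc := by
  have hd2 : Dual g D d d' ((kc * N⁻¹ * N'⁻¹ : Rˣ) : R) := by
    intro B _ _ ξ ζ z hz
    set V := pmap g (toBase R B) ≫ W
    have h := congrArg (fun y => V * y * V⁻¹) (hkc B (algebraMap R B ↑N⁻¹ * ξ) (algebraMap R B ↑N'⁻¹ * ζ) z
      (by rw [hz, Units.val_mul, Units.val_mul, map_mul, map_mul]; ring))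
    simp only [← conj_mul3] at h
    rw [hN, hN', hN', hN, hT] at h
    have e : ∀ (M : Rˣ) (y : B), algebraMap R B M * (algebraMap R B ↑M⁻¹ * y) = y := fun M y => by
      rw [← _root_.mul_assoc, ← map_mul, M.mul_inv, map_one, _root_.one_mul]
    rw [e, e] at h
    rw [h]
    congr 1
    · congr 2
      rw [mul_left_comm, e]
    · congr 1
      rw [mul_left_comm, e]
  have hu : kc * N⁻¹ * N'⁻¹ = kd := Units.ext (Dual.unique g D (by rw [hd, neg_neg]) hd2 hkd)
  rw [← hu, _root_.mul_assoc kc, ← _root_.mul_inv_rev, _root_.mul_assoc, _root_.mul_assoc, mul_comm N' N, inv_mul_cancel, _root_.mul_one]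

/-- conjugation by a point carrying a pair to a pair carries the Weyl point to the Weyl point -/
theorem wPt_conj_wPt {c d : D.idx} {c' d' : D.idx} {kc kd : Rˣ} (hd : D.P.root d' = -D.P.root d)
    (hkc : Dual g D c c' (kc : R)) (hkd : Dual g D d d' (kd : R)) (W : pt g R ⟶ G) (N N' : Rˣ)
    (hN : ∀ (B : Type u) [CommRing B] [Algebra R B] (x : B),
      pmap g (toBase R B) ≫ W * uPt g D c x * (pmap g (toBase R B) ≫ W)⁻¹ = uPt g D d (algebraMap R B N * x))
    (hN' : ∀ (B : Type u) [CommRing B] [Algebra R B] (x : B),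
      pmap g (toBase R B) ≫ W * uPt g D c' x * (pmap g (toBase R B) ≫ W)⁻¹ = uPt g D d' (algebraMap R B N' * x))
    (hT : ∀ (B : Type u) [CommRing B] [Algebra R B] (z : Bˣ),
      pmap g (toBase R B) ≫ W * tPt g D (cor D z c) * (pmap g (toBase R B) ≫ W)⁻¹ = tPt g D (cor D z d)) :
    W * wPt g D c c' kc R * W⁻¹ = tPt g D (cor D N d) * wPt g D d d' kd R := by
  have hpf := pair_factor g D hd hkc hkd W N N' hN hN' hT
  have hu : kc * N⁻¹ * N'⁻¹ = kd := by
    rw [← hpf, mul_right_comm (kd * N) N' N⁻¹, mul_inv_cancel_right, mul_inv_cancel_right]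
  have e0 : pmap g (toBase R R) ≫ W = W := by
    rw [show toBase R R = AlgHom.id R R from AlgHom.ext fun _ => rfl, pmap_id, Category.id_comp]
  have hW : ∀ x : R, W * uPt g D c x * W⁻¹ = uPt g D d ((N : R) * x) := fun x => by
    simpa [e0] using hN R x
  have hW' : ∀ x : R, W * uPt g D c' x * W⁻¹ = uPt g D d' ((N' : R) * x) := fun x => by
    simpa [e0] using hN' R x
  rw [← wPt_scale g D hd hkd N, wPt, ← conj_mul3, ← conj_mul3, hW, hW', Algebra.algebraMap_self_apply,
    Algebra.algebraMap_self_apply, _root_.mul_one]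
  congr 3
  rw [← hu, mul_neg, _root_.mul_inv_rev, _root_.mul_inv_rev, _root_.inv_inv, _root_.inv_inv, Units.val_mul,
    Units.val_mul]
  linear_combination ((N' : R) * ↑kc⁻¹) * N.mul_inv

end Groth.Agent.H21Split.R2
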