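import Groth.Agent.H21Split.R2.Coxeter

/-!
The braid and Coxeter relations of two Weyl points of type A₂, B₂ and G₂.
-/

open CategoryTheory MonoidalCategory CartesianMonoidalCategory MonObj GrpObj AlgebraicGeometry

universe u

set_option backward.isDefEq.respectTransparency false
set_option linter.style.haveILetI false
set_option linter.unusedSectionVars false
set_option synthInstance.maxHeartbeats 400000

noncomputable section

namespace Groth.Agent.H21Split.R2

variable {S : Scheme.{u}} {R : Type u} [CommRing R] (g : Spec (CommRingCat.of R) ⟶ S)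
variable {B : Type u} [CommRing B] [Algebra R B]
variable {G : Over S} [GrpObj G] (D : Red.SplitRed G)

theorem tor_nested_aux {H : Type*} [Group H] (a b : H) : a * b * a * (a * b * a) = a * (b * (a * a) * b) * a := by group

theorem tor_nested_aux4 {H : Type*} [Group H] (a b : H) :
    a * b * a * b * (b * a * b * a) = a * (b * (a * (b * b) * a) * b) * a := by group

theorem tor_nested_aux6 {H : Type*} [Group H] (a b : H) :
    a * b * a * b * a * b * (b * a * b * a * b * a) = a * (b * (a * (b * (a * (b * b) * a) * b) * a) * b) * a := by group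

theorem pow_three_of_braid {H : Type*} [Group H] {a b : H} (h : a * b * a = b * a * b) :
    (a * b) ^ 3 = a * b * a * (a * b * a) ∧ (b * a) ^ 3 = a * b * a * (a * b * a) := by
  constructor
  · calc (a * b) ^ 3 = a * b * a * (b * a * b) := by simp only [pow_succ, pow_zero]; group
      _ = _ := by rw [← h]
  · calc (b * a) ^ 3 = b * a * b * (a * b * a) := by simp only [pow_succ, pow_zero]; group
      _ = _ := by rw [← h]

theorem pow_four_of_braid {H : Type*} [Group H] {a b : H} (h : a * b * a * b = b * a * b * a) :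
    (a * b) ^ 4 = a * b * a * b * (b * a * b * a) ∧ (b * a) ^ 4 = a * b * a * b * (b * a * b * a) := by
  constructor
  · calc (a * b) ^ 4 = a * b * a * b * (a * b * a * b) := by simp only [pow_succ, pow_zero]; group
      _ = _ := by rw [h]
  · calc (b * a) ^ 4 = b * a * b * a * (b * a * b * a) := by simp only [pow_succ, pow_zero]; group
      _ = _ := by rw [h]

theorem pow_six_of_braid {H : Type*} [Group H] {a b : H} (h : a * b * a * b * a * b = b * a * b * a * b * a) :
    (a * b) ^ 6 = a * b * a * b * a * b * (b * a * b * a * b * a) ∧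
      (b * a) ^ 6 = a * b * a * b * a * b * (b * a * b * a * b * a) := by
  constructor
  · calc (a * b) ^ 6 = a * b * a * b * a * b * (a * b * a * b * a * b) := by simp only [pow_succ, pow_zero]; group
      _ = _ := by rw [h]
  · calc (b * a) ^ 6 = b * a * b * a * b * a * (b * a * b * a * b * a) := by simp only [pow_succ, pow_zero]; group
      _ = _ := by rw [h]

theorem root_refl_opp {c c' : D.idx} (h : D.P.root c' = -D.P.root c) (i : D.idx) :
    D.P.root (D.P.reflectionPerm i c') = -D.P.root (D.P.reflectionPerm i c) := by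
  rw [D.P.root_reflectionPerm, D.P.root_reflectionPerm, h, map_neg]

variable {a a' : D.idx} {k : Rˣ}

theorem wPt_cor (ha : D.P.root a' = -D.P.root a) (hk : Dual g D a a' (k : R)) (z : Bˣ) (c : D.idx) :
    wPt g D a a' k B * tPt g D (cor D z c) * (wPt g D a a' k B)⁻¹ = tPt g D (cor D z (D.P.reflectionPerm a c)) := by
  rw [wPt_tPt g D ha hk, cor_comp_refl]

variable {g D} [IsAffineHom G.hom] [D.P.IsReduced]

theorem conj_two {H : Type*} [Group H] (p q x : H) : p * q * x * (p * q)⁻¹ = p * (q * x * q⁻¹) * p⁻¹ := by group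

theorem conj_three {H : Type*} [Group H] (p q r x : H) :
    p * q * r * x * (p * q * r)⁻¹ = p * (q * (r * x * r⁻¹) * q⁻¹) * p⁻¹ := by group

theorem conj_five {H : Type*} [Group H] (p q r s t x : H) :
    p * q * r * s * t * x * (p * q * r * s * t)⁻¹ =
      p * (q * (r * (s * (t * x * t⁻¹) * s⁻¹) * r⁻¹) * q⁻¹) * p⁻¹ := by group

/-- the braid relation of type A₂ -/
theorem A2Data.braid (T : A2Data g D) :
    wPt g D T.a T.a' T.ka R * wPt g D T.b T.b' T.kb R * wPt g D T.a T.a' T.ka R =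
      wPt g D T.b T.b' T.kb R * wPt g D T.a T.a' T.ka R * wPt g D T.b T.b' T.kb R := by
  have eba : D.P.reflectionPerm T.b T.a = T.e := D.P.root.injective (by
    rw [D.P.root_reflectionPerm, D.P.reflection_apply_root, T.hB, T.he]; module)
  have eae : D.P.reflectionPerm T.a T.e = T.b := by
    rw [show T.e = D.P.reflectionPerm T.a T.b from D.P.root.injective (by
      rw [D.P.root_reflectionPerm, D.P.reflection_apply_root, T.hA, T.he]; module), D.P.reflectionPerm_self]
  have eopp : D.P.reflectionPerm T.a (D.P.reflectionPerm T.b T.a') = T.b' := D.P.root.injective (by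
    rw [root_refl_opp D (c := T.e) ?_, eae, T.hb']
    rw [root_refl_opp D T.ha', eba])
  obtain ⟨M', hM'⟩ := exists_hasN D g T.hb' T.hkb (d := T.a') rfl
  obtain ⟨N', hN'⟩ := exists_hasN D g T.ha' T.hka (d := D.P.reflectionPerm T.b T.a') eopp
  have hAe : HasN g D T.a T.a' T.ka T.e T.b (-↑T.N⁻¹) := by
    have h := T.nAb.symm' g D T.ha' T.hka T.N rfl
    rw [zpow_odd (by rw [T.hA]; decide), neg_one_mul, Units.val_neg] at h
    exact h
  have hN : -(↑T.N⁻¹ : R) * (T.M : R) = 1 := by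
    linear_combination T.N.inv_mul - (↑T.N⁻¹ : R) * T.rel.1
  have h := wPt_conj_wPt g D T.hb' T.hka T.hkb
    (wPt g D T.a T.a' T.ka R * wPt g D T.b T.b' T.kb R) 1 (N' * M')
    (fun B _ _ x => by
      rw [MonObj.comp_mul, pmap_toBase_wPt, pmap_toBase_wPt, conj_two, T.nBa B, hAe B, ← _root_.mul_assoc, ← map_mul,
        hN, map_one, Units.val_one, map_one])
    (fun B _ _ x => by
      rw [MonObj.comp_mul, pmap_toBase_wPt, pmap_toBase_wPt, conj_two, hM' B, hN' B, ← _root_.mul_assoc, ← map_mul,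
        Units.val_mul])
    (fun B _ _ z => by
      rw [MonObj.comp_mul, pmap_toBase_wPt, pmap_toBase_wPt, conj_two, wPt_cor g D T.hb' T.hkb, wPt_cor g D T.ha' T.hka,
        eba, eae])
  rw [cor_one, tPt_one, _root_.one_mul, mul_inv_eq_iff_eq_mul, ← _root_.mul_assoc] at h
  exact h

/-- the Coxeter relation of type A₂ -/
theorem A2Data.coxeter (T : A2Data g D) :
    (wPt g D T.a T.a' T.ka R * wPt g D T.b T.b' T.kb R) ^ 3 = 1 ∧
      (wPt g D T.b T.b' T.kb R * wPt g D T.a T.a' T.ka R) ^ 3 = 1 := by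
  obtain ⟨h1, h2⟩ := pow_three_of_braid T.braid
  suffices h : wPt g D T.a T.a' T.ka R * (wPt g D T.b T.b' T.kb R * (wPt g D T.a T.a' T.ka R * wPt g D T.a T.a' T.ka R) *
      wPt g D T.b T.b' T.kb R) * wPt g D T.a T.a' T.ka R = 1 by
    rw [h1, h2, tor_nested_aux]; exact ⟨h, h⟩
  rw [wPt_sq g D T.ha' T.hka, cor_eq_tor_left (R := R) D T.a T.b, wPt_sandwich g D T.hb' T.hkb, tor_step_right,
    wPt_sandwich g D T.ha' T.hka, tor_step_left, T.hA, T.hB]
  rw [tor_eq_of_parity D (i' := 0) (j' := 0) (by decide) (by decide), tor_zero, tPt_one]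

/-- the braid relation of type B₂ -/
theorem B2Data.braid (T : B2Data g D) :
    wPt g D T.a T.a' T.ka R * wPt g D T.b T.b' T.kb R * wPt g D T.a T.a' T.ka R * wPt g D T.b T.b' T.kb R =
      wPt g D T.b T.b' T.kb R * wPt g D T.a T.a' T.ka R * wPt g D T.b T.b' T.kb R * wPt g D T.a T.a' T.ka R := by
  haveI := D.fintypeIdx
  haveI : Finite D.idx := Finite.of_fintype _
  have eab : D.P.reflectionPerm T.a T.b = T.f := D.P.root.injective (by
    rw [D.P.root_reflectionPerm, D.P.reflection_apply_root, T.hA, T.hf]; module)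
  have eaf : D.P.reflectionPerm T.a T.f = T.b := by rw [← eab, D.P.reflectionPerm_self]
  have pfb : D.P.pairing T.f T.b = 0 := by
    rw [← D.P.root_coroot'_eq_pairing, T.hf, coroot_b D.P T.hB]; norm_num
  have ebf : D.P.reflectionPerm T.b T.f = T.f := D.P.root.injective (by
    rw [D.P.root_reflectionPerm, D.P.reflection_apply_root, pfb, zero_smul, sub_zero])
  have eopp : D.P.reflectionPerm T.a (D.P.reflectionPerm T.b (D.P.reflectionPerm T.a T.b')) = T.b' :=
    D.P.root.injective (by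
      rw [root_refl_opp D (c := T.f) ?_, eaf, T.hb']
      rw [root_refl_opp D (c := T.f) ?_, ebf]
      rw [root_refl_opp D T.hb', eab])
  obtain ⟨N₁, hN₁⟩ := exists_hasN D g T.ha' T.hka (d := T.b') rfl
  obtain ⟨N₂, hN₂⟩ := exists_hasN D g T.hb' T.hkb (d := D.P.reflectionPerm T.a T.b') rfl
  obtain ⟨N₃, hN₃⟩ := exists_hasN D g T.ha' T.hka (d := D.P.reflectionPerm T.b (D.P.reflectionPerm T.a T.b')) eopp
  have n22 : ∀ r : D.idx, D.P.root r ≠ (2 : ℤ) • D.P.root T.a + (2 : ℤ) • D.P.root T.b := fun r hr =>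
    two_comb_notMem D r T.e (by rw [hr, T.he]; module)
  have hBf : HasN g D T.b T.b' T.kb T.f T.f 1 := by
    have hp : D.P.root T.b + D.P.root T.f = (2 : ℤ) • D.P.root T.a + (2 : ℤ) • D.P.root T.b := by rw [T.hf]; module
    have hq : D.P.root T.f - D.P.root T.b = (2 : ℤ) • D.P.root T.a + (0 : ℤ) • D.P.root T.b := by rw [T.hf]; module
    refine hasN_fix g D T.hb' T.hkb (hp ▸ fun h => ?_) (hp ▸ fun ⟨r, hr⟩ => n22 r hr) (hq ▸ fun h => ?_)
      (hq ▸ fun ⟨r, hr⟩ => two_comb_notMem D r T.a (by rw [hr, zero_smul, add_zero]))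
    · have := comb_eq_zero D.P T.hA T.hB (by norm_num) h; omega
    · have := comb_eq_zero D.P T.hA T.hB (by norm_num) h; omega
  have hAf : HasN g D T.a T.a' T.ka T.f T.b (↑T.N⁻¹) := by
    have h := T.nAb.symm' g D T.ha' T.hka T.N rfl
    rw [zpow_even (by rw [T.hA]; decide), _root_.one_mul] at h
    exact h
  have h := wPt_conj_wPt g D T.hb' T.hkb T.hkb
    (wPt g D T.a T.a' T.ka R * wPt g D T.b T.b' T.kb R * wPt g D T.a T.a' T.ka R) 1 (N₃ * (N₂ * N₁))
    (fun B _ _ x => by
      rw [MonObj.comp_mul, MonObj.comp_mul, pmap_toBase_wPt, pmap_toBase_wPt, conj_three, T.nAb B, hBf B, hAf B,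
        map_one, _root_.one_mul, ← _root_.mul_assoc, ← map_mul, Units.inv_mul, map_one, Units.val_one, map_one])
    (fun B _ _ x => by
      rw [MonObj.comp_mul, MonObj.comp_mul, pmap_toBase_wPt, pmap_toBase_wPt, conj_three, hN₁ B, hN₂ B, hN₃ B]
      simp only [Units.val_mul, map_mul, _root_.mul_assoc])
    (fun B _ _ z => by
      rw [MonObj.comp_mul, MonObj.comp_mul, pmap_toBase_wPt, pmap_toBase_wPt, conj_three, wPt_cor g D T.ha' T.hka,
        wPt_cor g D T.hb' T.hkb, wPt_cor g D T.ha' T.hka, eab, ebf, eaf])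
  rw [cor_one, tPt_one, _root_.one_mul, mul_inv_eq_iff_eq_mul] at h
  rw [h]
  simp only [_root_.mul_assoc]

/-- the Coxeter relation of type B₂ -/
theorem B2Data.coxeter (T : B2Data g D) :
    (wPt g D T.a T.a' T.ka R * wPt g D T.b T.b' T.kb R) ^ 4 = tPt g D (cor D (-1 : Rˣ) T.a) ∧
      (wPt g D T.b T.b' T.kb R * wPt g D T.a T.a' T.ka R) ^ 4 = tPt g D (cor D (-1 : Rˣ) T.a) := by
  obtain ⟨h1, h2⟩ := pow_four_of_braid T.braid
  suffices h : wPt g D T.a T.a' T.ka R * (wPt g D T.b T.b' T.kb R * (wPt g D T.a T.a' T.ka R *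
      (wPt g D T.b T.b' T.kb R * wPt g D T.b T.b' T.kb R) * wPt g D T.a T.a' T.ka R) *
      wPt g D T.b T.b' T.kb R) * wPt g D T.a T.a' T.ka R = tPt g D (cor D (-1 : Rˣ) T.a) by
    rw [h1, h2, tor_nested_aux4]; exact ⟨h, h⟩
  rw [wPt_sq g D T.hb' T.hkb, cor_eq_tor_right (R := R) D T.a T.b, wPt_sandwich g D T.ha' T.hka, tor_step_left,
    wPt_sandwich g D T.hb' T.hkb, tor_step_right, wPt_sandwich g D T.ha' T.hka, tor_step_left, T.hA, T.hB]
  rw [tor_eq_of_parity D (i' := 1) (j' := 0) (by decide) (by decide), ← cor_eq_tor_left (R := R) D T.a T.b]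

/-- the braid relation of type G₂ -/
theorem G2Data.braid (T : G2Data g D) :
    wPt g D T.a T.a' T.ka R * wPt g D T.b T.b' T.kb R * wPt g D T.a T.a' T.ka R * wPt g D T.b T.b' T.kb R *
        wPt g D T.a T.a' T.ka R * wPt g D T.b T.b' T.kb R =
      wPt g D T.b T.b' T.kb R * wPt g D T.a T.a' T.ka R * wPt g D T.b T.b' T.kb R * wPt g D T.a T.a' T.ka R *
        wPt g D T.b T.b' T.kb R * wPt g D T.a T.a' T.ka R := by
  haveI := D.fintypeIdx
  haveI : Finite D.idx := Finite.of_fintype _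
  have pqb : D.P.pairing T.q T.b = -1 := by
    rw [← D.P.root_coroot'_eq_pairing, T.hq, coroot_b D.P T.hB]; norm_num
  have pha : D.P.pairing T.h T.a = 0 := by
    rw [← D.P.root_coroot'_eq_pairing, T.hh, coroot_a D.P T.hA]; norm_num
  have eab : D.P.reflectionPerm T.a T.b = T.q := D.P.root.injective (by
    rw [D.P.root_reflectionPerm, D.P.reflection_apply_root, T.hA, T.hq]; module)
  have ebq : D.P.reflectionPerm T.b T.q = T.h := D.P.root.injective (by
    rw [D.P.root_reflectionPerm, D.P.reflection_apply_root, pqb, T.hh, T.hq]; module)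
  have eah : D.P.reflectionPerm T.a T.h = T.h := D.P.root.injective (by
    rw [D.P.root_reflectionPerm, D.P.reflection_apply_root, pha, zero_smul, sub_zero])
  have ebh : D.P.reflectionPerm T.b T.h = T.q := by rw [← ebq, D.P.reflectionPerm_self]
  have eaq : D.P.reflectionPerm T.a T.q = T.b := by rw [← eab, D.P.reflectionPerm_self]
  have eopp : D.P.reflectionPerm T.a (D.P.reflectionPerm T.b (D.P.reflectionPerm T.a (D.P.reflectionPerm T.b
      (D.P.reflectionPerm T.a T.b')))) = T.b' := D.P.root.injective (by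
    rw [root_refl_opp D (c := T.q) ?_, eaq, T.hb']
    rw [root_refl_opp D (c := T.h) ?_, ebh]
    rw [root_refl_opp D (c := T.h) ?_, eah]
    rw [root_refl_opp D (c := T.q) ?_, ebq]
    rw [root_refl_opp D T.hb', eab])
  obtain ⟨N₁, hN₁⟩ := exists_hasN D g T.ha' T.hka (d := T.b') rfl
  obtain ⟨N₂, hN₂⟩ := exists_hasN D g T.hb' T.hkb (d := D.P.reflectionPerm T.a T.b') rfl
  obtain ⟨N₃, hN₃⟩ := exists_hasN D g T.ha' T.hka (d := D.P.reflectionPerm T.b (D.P.reflectionPerm T.a T.b')) rfl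
  obtain ⟨N₄, hN₄⟩ := exists_hasN D g T.hb' T.hkb
    (d := D.P.reflectionPerm T.a (D.P.reflectionPerm T.b (D.P.reflectionPerm T.a T.b'))) rfl
  obtain ⟨N₅, hN₅⟩ := exists_hasN D g T.ha' T.hka
    (d := D.P.reflectionPerm T.b (D.P.reflectionPerm T.a (D.P.reflectionPerm T.b (D.P.reflectionPerm T.a T.b')))) eopp
  have hAh : HasN g D T.a T.a' T.ka T.h T.h 1 := by
    have hne : ∀ i : ℤ, i • D.P.root T.a + (2 : ℤ) • D.P.root T.b ≠ 0 := fun i h => by
      have := comb_eq_zero D.P T.hA T.hB (by norm_num) h; omega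
    have hp : D.P.root T.a + D.P.root T.h = (4 : ℤ) • D.P.root T.a + (2 : ℤ) • D.P.root T.b := by rw [T.hh]; module
    have hq : D.P.root T.h - D.P.root T.a = (2 : ℤ) • D.P.root T.a + (2 : ℤ) • D.P.root T.b := by rw [T.hh]; module
    refine hasN_fix g D T.ha' T.hka (hp ▸ hne 4) (hp ▸ fun ⟨r, hr⟩ => ?_) (hq ▸ hne 2) (hq ▸ fun ⟨r, hr⟩ => ?_)
    · exact absurd (T.roots r 4 2 hr (by norm_num) (by norm_num)).1 (by norm_num [IsPosRootCoord])
    · exact absurd (T.roots r 2 2 hr (by norm_num) (by norm_num)).1 (by norm_num [IsPosRootCoord])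
  have hBh : HasN g D T.b T.b' T.kb T.h T.q (-↑T.Q⁻¹) := by
    have h := T.nBq.symm' g D T.hb' T.hkb T.Q rfl
    rw [zpow_odd (by rw [pqb]; decide), neg_one_mul, Units.val_neg] at h
    exact h
  have hAq : HasN g D T.a T.a' T.ka T.q T.b (-↑T.N⁻¹) := by
    have h := T.nAb.symm' g D T.ha' T.hka T.N rfl
    rw [zpow_odd (by rw [T.hA]; decide), neg_one_mul, Units.val_neg] at h
    exact h
  have h := wPt_conj_wPt g D T.hb' T.hkb T.hkb
    (wPt g D T.a T.a' T.ka R * wPt g D T.b T.b' T.kb R * wPt g D T.a T.a' T.ka R * wPt g D T.b T.b' T.kb R *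
      wPt g D T.a T.a' T.ka R) 1 (N₅ * (N₄ * (N₃ * (N₂ * N₁))))
    (fun B _ _ x => by
      simp only [MonObj.comp_mul, pmap_toBase_wPt]
      rw [conj_five, T.nAb B, T.nBq B, hAh B, hBh B, hAq B]
      congr 1
      have hn : algebraMap R B ↑T.N⁻¹ * algebraMap R B T.N = 1 := by rw [← map_mul, T.N.inv_mul, map_one]
      have hq : algebraMap R B ↑T.Q⁻¹ * algebraMap R B T.Q = 1 := by rw [← map_mul, T.Q.inv_mul, map_one]
      simp only [map_neg, map_one, Units.val_one]
      linear_combination (algebraMap R B ↑T.Q⁻¹ * algebraMap R B T.Q * x) * hn + x * hq)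
    (fun B _ _ x => by
      simp only [MonObj.comp_mul, pmap_toBase_wPt]
      rw [conj_five, hN₁ B, hN₂ B, hN₃ B, hN₄ B, hN₅ B]
      simp only [Units.val_mul, map_mul, _root_.mul_assoc])
    (fun B _ _ z => by
      simp only [MonObj.comp_mul, pmap_toBase_wPt]
      rw [conj_five, wPt_cor g D T.ha' T.hka, wPt_cor g D T.hb' T.hkb, wPt_cor g D T.ha' T.hka, wPt_cor g D T.hb' T.hkb,
        wPt_cor g D T.ha' T.hka, eab, ebq, eah, ebh, eaq])
  rw [cor_one, tPt_one, _root_.one_mul, mul_inv_eq_iff_eq_mul] at h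
  rw [h]
  simp only [_root_.mul_assoc]

/-- the Coxeter relation of type G₂ -/
theorem G2Data.coxeter (T : G2Data g D) :
    (wPt g D T.a T.a' T.ka R * wPt g D T.b T.b' T.kb R) ^ 6 = 1 ∧
      (wPt g D T.b T.b' T.kb R * wPt g D T.a T.a' T.ka R) ^ 6 = 1 := by
  obtain ⟨h1, h2⟩ := pow_six_of_braid T.braid
  suffices h : wPt g D T.a T.a' T.ka R * (wPt g D T.b T.b' T.kb R * (wPt g D T.a T.a' T.ka R *
      (wPt g D T.b T.b' T.kb R * (wPt g D T.a T.a' T.ka R *
      (wPt g D T.b T.b' T.kb R * wPt g D T.b T.b' T.kb R) * wPt g D T.a T.a' T.ka R) *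
      wPt g D T.b T.b' T.kb R) * wPt g D T.a T.a' T.ka R) *
      wPt g D T.b T.b' T.kb R) * wPt g D T.a T.a' T.ka R = 1 by
    rw [h1, h2, tor_nested_aux6]; exact ⟨h, h⟩
  rw [wPt_sq g D T.hb' T.hkb, cor_eq_tor_right (R := R) D T.a T.b, wPt_sandwich g D T.ha' T.hka, tor_step_left,
    wPt_sandwich g D T.hb' T.hkb, tor_step_right, wPt_sandwich g D T.ha' T.hka, tor_step_left,
    wPt_sandwich g D T.hb' T.hkb, tor_step_right, wPt_sandwich g D T.ha' T.hka, tor_step_left, T.hA, T.hB]
  rw [tor_eq_of_parity D (i' := 0) (j' := 0) (by decide) (by decide), tor_zero, tPt_one]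

end Groth.Agent.H21Split.R2
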