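import Groth.Agent.H21Split.R2.G2Lin

/-!
The coefficients of the commutator formulas of a system of type G₂ which are linear in a variable.
-/

open CategoryTheory MonoidalCategory CartesianMonoidalCategory MonObj GrpObj AlgebraicGeometry
open TrivSqZeroExt (inl inr)

universe u

set_option backward.isDefEq.respectTransparency false
set_option linter.style.haveILetI false
set_option linter.unusedSectionVars false
set_option synthInstance.maxHeartbeats 400000

noncomputable section

namespace Groth.Agent.H21Split.R2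

theorem braid_conj {H : Type*} [Group H] {W u X Y Z : H} (hb : u * W * u = W * u⁻¹ * W) (h1 : W * X * W⁻¹ = Y)
    (h2 : u⁻¹ * Y * u = Y) (h3 : W * Y * W⁻¹ = Z) : W * (u * X * u⁻¹) * W⁻¹ = u⁻¹ * Z * u⁻¹⁻¹ := by
  rw [_root_.inv_inv]
  calc W * (u * X * u⁻¹) * W⁻¹ = u⁻¹ * ((u * W * u) * X * (u * W * u)⁻¹) * u := by group
    _ = u⁻¹ * (W * (u⁻¹ * (W * X * W⁻¹) * u) * W⁻¹) * u := by rw [hb]; group
    _ = u⁻¹ * Z * u := by rw [h1, h2, h3]

theorem fix_of_commute {H : Type*} [Group H] {u Y : H} (h : u * Y = Y * u) : u⁻¹ * Y * u = Y := by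
  rw [_root_.mul_assoc, ← h, inv_mul_cancel_left]

variable {S : Scheme.{u}} {R : Type u} [CommRing R] {g : Spec (CommRingCat.of R) ⟶ S}
variable {B : Type u} [CommRing B] [Algebra R B]

theorem dual_pow (c : R) (t y : B) (i : ℕ) :
    algebraMap R (DualNumber B) c * (inl t : DualNumber B) ^ i * (inr y : DualNumber B) =
      inr (algebraMap R B c * t ^ i * y) := by
  rw [TrivSqZeroExt.algebraMap_eq_inl', TrivSqZeroExt.inl_pow, ← TrivSqZeroExt.inl_mul,
    TrivSqZeroExt.inl_mul_inr]
  rfl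

theorem dual_one (c : R) (t y : B) :
    algebraMap R (DualNumber B) c * (inl t : DualNumber B) * (inr y : DualNumber B) = inr (algebraMap R B c * t * y) := by
  rw [← pow_one (inl t : DualNumber B), dual_pow, pow_one]

theorem dual_swap_pow (c y t : B) (i : ℕ) :
    (inl c : DualNumber B) * inr y * (-inl t) ^ i = inr (c * y * (-t) ^ i) := by
  rw [← TrivSqZeroExt.inl_neg, TrivSqZeroExt.inl_pow, TrivSqZeroExt.inl_mul_inr, TrivSqZeroExt.inr_mul_inl]
  congr 1

variable {G : Over S} [GrpObj G] {D : Red.SplitRed G} [IsAffineHom G.hom] (T : G2Data g D)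

namespace G2Data

open Classical in
/-- the listed roots are distinct -/
theorem ne_all :
    T.a ≠ T.b ∧ T.a ≠ T.e ∧ T.a ≠ T.f ∧ T.a ≠ T.q ∧ T.a ≠ T.h ∧ T.b ≠ T.e ∧ T.b ≠ T.f ∧ T.b ≠ T.q ∧ T.b ≠ T.h ∧
      T.e ≠ T.f ∧ T.e ≠ T.q ∧ T.e ≠ T.h ∧ T.f ≠ T.q ∧ T.f ≠ T.h ∧ T.q ≠ T.h := by
  have key : ∀ {c d : D.idx} {i j k l : ℤ}, D.P.root c = i • D.P.root T.a + j • D.P.root T.b →
      D.P.root d = k • D.P.root T.a + l • D.P.root T.b → (i ≠ k ∨ j ≠ l) → c ≠ d :=
    fun hc hd hn h => by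
      subst h
      obtain ⟨h1, h2⟩ := T.coord_unique (hc.symm.trans hd)
      rcases hn with h | h
      exacts [h h1, h h2]
  refine ⟨key T.ha T.hb ?_, key T.ha T.he ?_, key T.ha T.hf ?_, key T.ha T.hq ?_, key T.ha T.hh ?_, key T.hb T.he ?_,
    key T.hb T.hf ?_, key T.hb T.hq ?_, key T.hb T.hh ?_, key T.he T.hf ?_, key T.he T.hq ?_, key T.he T.hh ?_,
    key T.hf T.hq ?_, key T.hf T.hh ?_, key T.hq T.hh ?_⟩ <;> norm_num

open Classical in
set_option maxHeartbeats 4000000 in
/-- the coefficients -/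
theorem coeffs (C : Fin 4 → R) (E : Fin 3 → R) (E4 E6 : R)
    (hC : ∀ (B : Type u) [CommRing B] [Algebra R B] (x y : B),
      uPt g D T.a x * uPt g D T.b y * (uPt g D T.a x)⁻¹ = uPt g D T.b y *
        (uPt g D T.e (algebraMap R B (C 0) * x * y) * uPt g D T.f (algebraMap R B (C 1) * x ^ 2 * y) *
          uPt g D T.q (algebraMap R B (C 2) * x ^ 3 * y) * uPt g D T.h (algebraMap R B (C 3) * x ^ 3 * y ^ 2)))
    (hE : ∀ (B : Type u) [CommRing B] [Algebra R B] (x y : B),
      uPt g D T.a x * uPt g D T.e y * (uPt g D T.a x)⁻¹ = uPt g D T.e y *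
        (uPt g D T.f (algebraMap R B (E 0) * x * y) * uPt g D T.q (algebraMap R B (E 1) * x ^ 2 * y) *
          uPt g D T.h (algebraMap R B (E 2) * x * y ^ 2)))
    (hE4 : ∀ (B : Type u) [CommRing B] [Algebra R B] (x y : B),
      uPt g D T.a x * uPt g D T.f y * (uPt g D T.a x)⁻¹ = uPt g D T.f y *
        uPt g D T.q (algebraMap R B E4 * x * y))
    (hE6 : ∀ (B : Type u) [CommRing B] [Algebra R B] (x y : B),
      uPt g D T.b x * uPt g D T.q y * (uPt g D T.b x)⁻¹ = uPt g D T.q y *
        uPt g D T.h (algebraMap R B E6 * x * y)) :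
    C 0 = -T.M ∧ C 1 = T.P * T.M ∧ C 2 = T.N ∧ E 0 = -2 * T.P ∧ E 1 = -3 * T.N * ↑T.M⁻¹ ∧
      E4 = 3 * T.N * ↑(T.P * T.M)⁻¹ ∧ E 2 = 3 * T.Q * T.N * ↑(T.M * T.M)⁻¹ ∧ E6 = T.Q := by
  obtain ⟨nab, nae, naf, naq, nah, nbe, nbf, nbq, nbh, nef, neq, neh, nfq, nfh, nqh⟩ := T.ne_all
  have z2 : ∀ {A : Type u} [CommRing A] (t : A), (inr t : DualNumber A) ^ 2 = 0 := fun t => by
    rw [pow_two, TrivSqZeroExt.inr_mul_inr]
  have sq : ∀ (c d : D.idx) (x y : R), uPt g D c (inr x : DualNumber R) * uPt g D d (inr y : DualNumber R) =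
      uPt g D d (inr y : DualNumber R) * uPt g D c (inr x : DualNumber R) := fun c d x y => (sq_commute g D c d x y).eq
  -- the formulas, linearly
  have lC : ∀ (B : Type u) [CommRing B] [Algebra R B] (t : B) (y : B),
      uPt g D T.a (inl t : DualNumber B) * uPt g D T.b (inr y : DualNumber B) * (uPt g D T.a (inl t : DualNumber B))⁻¹ =
        LL g D [(T.b, y), (T.e, algebraMap R B (C 0) * t * y), (T.f, algebraMap R B (C 1) * t ^ 2 * y),
          (T.q, algebraMap R B (C 2) * t ^ 3 * y)] := fun B _ _ t y => by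
    rw [hC, dual_one, dual_pow, dual_pow, z2, mul_zero, uPt_zero, _root_.mul_one]
    simp only [LL_cons, LL_nil, _root_.mul_one, _root_.mul_assoc]
  have lE : ∀ (B : Type u) [CommRing B] [Algebra R B] (t : B) (y : B),
      uPt g D T.a (inl t : DualNumber B) * uPt g D T.e (inr y : DualNumber B) * (uPt g D T.a (inl t : DualNumber B))⁻¹ =
        LL g D [(T.e, y), (T.f, algebraMap R B (E 0) * t * y), (T.q, algebraMap R B (E 1) * t ^ 2 * y)] :=
      fun B _ _ t y => by
    rw [hE, dual_one, dual_pow, z2, mul_zero, uPt_zero, _root_.mul_one]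
    simp only [LL_cons, LL_nil, _root_.mul_one, _root_.mul_assoc]
  have lE4 : ∀ (B : Type u) [CommRing B] [Algebra R B] (t : B) (y : B),
      uPt g D T.a (inl t : DualNumber B) * uPt g D T.f (inr y : DualNumber B) * (uPt g D T.a (inl t : DualNumber B))⁻¹ =
        LL g D [(T.f, y), (T.q, algebraMap R B E4 * t * y)] := fun B _ _ t y => by
    rw [hE4, dual_one]
    simp only [LL_cons, LL_nil, _root_.mul_one]
  have lE6 : ∀ (t : R) (y : R),
      uPt g D T.b (inl t : DualNumber R) * uPt g D T.q (inr y : DualNumber R) * (uPt g D T.b (inl t : DualNumber R))⁻¹ =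
        LL g D [(T.q, y), (T.h, E6 * t * y)] := fun t y => by
    rw [hE6, dual_one]
    simp only [LL_cons, LL_nil, _root_.mul_one, Algebra.algebraMap_self_apply]
  have lB : ∀ (t y : R), uPt g D T.b (inl t : DualNumber R) * uPt g D T.a (inr y : DualNumber R) *
      (uPt g D T.b (inl t : DualNumber R))⁻¹ = LL g D [(T.e, -(C 0 * t * y)), (T.a, y)] := fun t y => by
    have h := hC (DualNumber R) (inr y) (-inl t)
    rw [z2, pow_succ (inr y : DualNumber R) 2, z2] at h
    simp only [mul_zero, zero_mul, uPt_zero, _root_.mul_one] at h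
    rw [mul_inv_eq_iff_eq_mul, uPt_neg] at h
    rw [LL_cons, LL_singleton]
    calc _ = uPt g D T.b (inl t : DualNumber R) *
        (uPt g D T.a (inr y : DualNumber R) * (uPt g D T.b (inl t : DualNumber R))⁻¹) := by group
      _ = _ := by
        rw [h, ← pow_one (-inl t : DualNumber R), TrivSqZeroExt.algebraMap_eq_inl', dual_swap_pow, ← uPt_neg,
          pow_one]
        simp only [Algebra.algebraMap_self_apply]
        rw [uPt_neg, ← _root_.mul_assoc, ← _root_.mul_assoc, mul_inv_cancel, _root_.one_mul]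
        congr 3
        ring
  -- the equations of the Weyl points
  have hWa := wPt_braid g D T.ha' T.hka (B := DualNumber R)
  have hWb := wPt_braid g D T.hb' T.hkb (B := DualNumber R)
  set Wa := wPt g D T.a T.a' T.ka (DualNumber R)
  set Wb := wPt g D T.b T.b' T.kb (DualNumber R)
  rw [show (1 : DualNumber R) = inl 1 from rfl] at hWa hWb
  have neg1 : ∀ c : D.idx, (uPt g D c (inl (1 : R) : DualNumber R))⁻¹ = uPt g D c (inl (-1 : R) : DualNumber R) :=
    fun c => by rw [← uPt_neg, ← TrivSqZeroExt.inl_neg]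
  have e1 : (T.N : R) = C 2 ∧ (T.P : R) * C 0 = -C 1 := by
    have h := braid_conj hWa (X := uPt g D T.b (inr (1 : R) : DualNumber R))
      (Y := uPt g D T.q (inr (T.N : R) : DualNumber R)) (Z := uPt g D T.b (inr (-1 : R) : DualNumber R))
      (by simpa using HasN.inr g D T.nAb (1 : R))
      (fix_of_commute (T.commute T.a T.q T.ha T.hq (Or.inr (by norm_num [IsPosRootCoord])) _ _))
      (by simpa using HasN.inr g D T.nAq (T.N : R))
    rw [lC R 1 1, conj_LL g D Wa _ [(T.q, (T.N : R)), (T.f, (T.P : R) * C 0), (T.e, -↑T.P⁻¹ * C 1), (T.b, -↑T.N⁻¹ * C 2)]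
      (List.Forall₂.cons (by simpa using HasN.inr g D T.nAb (1 : R)) <|
        List.Forall₂.cons (by simpa using HasN.inr g D T.nAe (C 0)) <|
        List.Forall₂.cons (by simpa using HasN.inr g D T.nAf (C 1)) <|
        List.Forall₂.cons (by simpa using HasN.inr g D T.nAq (C 2)) List.Forall₂.nil)] at h
    rw [neg1] at h
    rw [lC R (-1) (-1)] at h
    refine ⟨?_, ?_⟩
    · simpa [nab, nbq, nfq, neq, nfq.symm, nbq.symm, neq.symm, pow_succ] using coord_eq g D h T.q
    · simpa [nbf, nef, nfq, nbf.symm, nef.symm, nfq.symm, pow_succ] using coord_eq g D h T.f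
  have e2 : (T.M : R) = -C 0 := by
    have h := braid_conj hWb (X := uPt g D T.a (inr (1 : R) : DualNumber R))
      (Y := uPt g D T.e (inr (T.M : R) : DualNumber R)) (Z := uPt g D T.a (inr (-1 : R) : DualNumber R))
      (by simpa using HasN.inr g D T.nBa (1 : R))
      (fix_of_commute (T.commute T.b T.e T.hb T.he (Or.inr (by norm_num [IsPosRootCoord])) _ _))
      (by simpa using HasN.inr g D T.nBe (T.M : R))
    rw [lB 1 1, conj_LL g D Wb _ [(T.a, ↑T.M⁻¹ * C 0), (T.e, (T.M : R))]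
      (List.Forall₂.cons (by simpa using HasN.inr g D T.nBe (-(C 0))) <|
        List.Forall₂.cons (by simpa using HasN.inr g D T.nBa (1 : R)) List.Forall₂.nil)] at h
    rw [neg1] at h
    rw [lB (-1) (-1)] at h
    simpa [nae, nae.symm] using coord_eq g D h T.e
  have e6 : (T.Q : R) = E6 := by
    have h := braid_conj hWb (X := uPt g D T.q (inr (1 : R) : DualNumber R))
      (Y := uPt g D T.h (inr (T.Q : R) : DualNumber R)) (Z := uPt g D T.q (inr (-1 : R) : DualNumber R))
      (by simpa using HasN.inr g D T.nBq (1 : R))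
      (fix_of_commute (T.commute T.b T.h T.hb T.hh (Or.inr (by norm_num [IsPosRootCoord])) _ _))
      (by simpa using HasN.inr g D T.nBh (T.Q : R))
    rw [lE6 1 1, conj_LL g D Wb _ [(T.h, (T.Q : R)), (T.q, -↑T.Q⁻¹ * E6)]
      (List.Forall₂.cons (by simpa using HasN.inr g D T.nBq (1 : R)) <|
        List.Forall₂.cons (by simpa using HasN.inr g D T.nBh E6) List.Forall₂.nil)] at h
    rw [neg1] at h
    rw [lE6 (-1) (-1)] at h
    simpa [nqh, nqh.symm] using coord_eq g D h T.h
  -- the group law of the first variable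
  obtain ⟨e3, e4, e5⟩ : E 0 * C 0 = 2 * C 1 ∧ E 1 * C 0 = 3 * C 2 ∧ E4 * C 1 = 3 * C 2 := by
    let A := Polynomial R
    let t : A := Polynomial.X
    have h := conj_LL g D (uPt g D T.a (inl (1 : A) : DualNumber A))
      [(T.b, 1), (T.e, algebraMap R A (C 0) * t), (T.f, algebraMap R A (C 1) * t ^ 2), (T.q, algebraMap R A (C 2) * t ^ 3)]
    have hlhs : uPt g D T.a (inl (1 : A) : DualNumber A) * (uPt g D T.a (inl t : DualNumber A) *
        uPt g D T.b (inr (1 : A) : DualNumber A) * (uPt g D T.a (inl t : DualNumber A))⁻¹) *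
        (uPt g D T.a (inl (1 : A) : DualNumber A))⁻¹ = uPt g D T.a (inl (1 + t) : DualNumber A) *
        uPt g D T.b (inr (1 : A) : DualNumber A) * (uPt g D T.a (inl (1 + t) : DualNumber A))⁻¹ := by
      rw [TrivSqZeroExt.inl_add, uPt_add]; group
    rw [lC A t 1, lC A (1 + t) 1] at hlhs
    simp only [_root_.mul_one] at hlhs
    have hq : ∀ x : A, uPt g D T.a (inl (1 : A) : DualNumber A) * uPt g D T.q (inr x : DualNumber A) *
        (uPt g D T.a (inl (1 : A) : DualNumber A))⁻¹ = LL g D [(T.q, x)] := fun x => by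
      rw [LL_singleton, mul_inv_eq_iff_eq_mul]
      exact T.commute T.a T.q T.ha T.hq (Or.inr (by norm_num [IsPosRootCoord])) _ _
    set U := uPt g D T.a (inl (1 : A) : DualNumber A)
    have hprod : U * LL g D [(T.b, (1 : A)), (T.e, algebraMap R A (C 0) * t), (T.f, algebraMap R A (C 1) * t ^ 2),
        (T.q, algebraMap R A (C 2) * t ^ 3)] * U⁻¹ =
      LL g D ([(T.b, (1 : A)), (T.e, algebraMap R A (C 0)), (T.f, algebraMap R A (C 1)), (T.q, algebraMap R A (C 2))] ++
        [(T.e, algebraMap R A (C 0) * t), (T.f, algebraMap R A (E 0) * (algebraMap R A (C 0) * t)),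
          (T.q, algebraMap R A (E 1) * (algebraMap R A (C 0) * t))] ++
        [(T.f, algebraMap R A (C 1) * t ^ 2), (T.q, algebraMap R A E4 * (algebraMap R A (C 1) * t ^ 2))] ++
        [(T.q, algebraMap R A (C 2) * t ^ 3)]) := by
      rw [LL_cons, LL_cons, LL_cons, LL_singleton, ← conj_mul3, ← conj_mul3, ← conj_mul3, lC, lE, lE4, hq,
        LL_append, LL_append, LL_append]
      simp only [_root_.mul_one, one_pow, _root_.mul_assoc]
    rw [hprod] at hlhs
    have hf := congrArg (fun p : A => p.coeff 1) (coord_eq g D hlhs T.f)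
    have hg1 := congrArg (fun p : A => p.coeff 1) (coord_eq g D hlhs T.q)
    have hg2 := congrArg (fun p : A => p.coeff 2) (coord_eq g D hlhs T.q)
    simp [nbf, nbq, nef, neq, nfq, nfq.symm, A, t, Polynomial.algebraMap_eq, Polynomial.coeff_one_add_X_pow,
      Polynomial.coeff_C_mul, Polynomial.coeff_C, Polynomial.coeff_X_pow, Polynomial.coeff_one, mul_add] at hf hg1 hg2
    exact ⟨by linear_combination hf, by linear_combination hg1, by linear_combination hg2⟩
  -- the coefficient of the square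
  have e7 : (T.Q : R) * E 1 = E 2 * (-↑T.M⁻¹) * ((T.M : R) * T.M) := by
    have h1 : Wb * (uPt g D T.a (inl (1 : R) : DualNumber R) * uPt g D T.e (inr (1 : R) : DualNumber R) *
        (uPt g D T.a (inl (1 : R) : DualNumber R))⁻¹) * Wb⁻¹ =
        uPt g D T.e (inl (T.M : R) : DualNumber R) * uPt g D T.a (inr (-↑T.M⁻¹ : R) : DualNumber R) *
          (uPt g D T.e (inl (T.M : R) : DualNumber R))⁻¹ := by
      rw [← conj_mul3, ← conj_mul3, ← conj_inv',
        show Wb * uPt g D T.a (inl (1 : R) : DualNumber R) * Wb⁻¹ = uPt g D T.e (inl (T.M : R) : DualNumber R) by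
          rw [T.nBa (DualNumber R) _, TrivSqZeroExt.algebraMap_eq_inl', ← TrivSqZeroExt.inl_mul]; simp,
        show Wb * uPt g D T.e (inr (1 : R) : DualNumber R) * Wb⁻¹ = uPt g D T.a (inr (-↑T.M⁻¹ : R) : DualNumber R) by
          simpa using HasN.inr g D T.nBe (1 : R)]
    rw [lE R 1 1, conj_LL g D Wb _ [(T.a, -↑T.M⁻¹), (T.f, E 0), (T.h, (T.Q : R) * E 1)]
      (List.Forall₂.cons (by simpa using HasN.inr g D T.nBe (1 : R)) <|
        List.Forall₂.cons (by simpa using HasN.inr g D T.nBf (E 0)) <|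
        List.Forall₂.cons (by simpa using HasN.inr g D T.nBq (E 1)) List.Forall₂.nil)] at h1
    have h2 := hE (DualNumber R) (inr (-↑T.M⁻¹ : R)) (-inl (T.M : R))
    rw [z2] at h2
    simp only [mul_zero, zero_mul, uPt_zero, _root_.mul_one] at h2
    rw [mul_inv_eq_iff_eq_mul, uPt_neg] at h2
    have h3 : uPt g D T.e (inl (T.M : R) : DualNumber R) * uPt g D T.a (inr (-↑T.M⁻¹ : R) : DualNumber R) *
        (uPt g D T.e (inl (T.M : R) : DualNumber R))⁻¹ =
        LL g D [(T.f, E 0 * (-↑T.M⁻¹) * -(T.M : R)), (T.h, E 2 * (-↑T.M⁻¹) * ((T.M : R) * T.M)), (T.a, -↑T.M⁻¹)] := by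
      have t1 : algebraMap R (DualNumber R) (E 0) * (inr (-↑T.M⁻¹ : R) : DualNumber R) * -inl (T.M : R) =
          inr (E 0 * (-↑T.M⁻¹) * -(T.M : R)) := by
        have := dual_swap_pow (E 0) (-↑T.M⁻¹) (T.M : R) 1
        rwa [pow_one, pow_one] at this
      have t2 : algebraMap R (DualNumber R) (E 2) * (inr (-↑T.M⁻¹ : R) : DualNumber R) * (-inl (T.M : R)) ^ 2 =
          inr (E 2 * (-↑T.M⁻¹) * ((T.M : R) * T.M)) := by
        have := dual_swap_pow (E 2) (-↑T.M⁻¹) (T.M : R) 2
        rwa [neg_sq (T.M : R), pow_two (T.M : R)] at this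
      rw [t1, t2] at h2
      calc _ = uPt g D T.e (inl (T.M : R) : DualNumber R) *
          (uPt g D T.a (inr (-↑T.M⁻¹ : R) : DualNumber R) * (uPt g D T.e (inl (T.M : R) : DualNumber R))⁻¹) := by group
        _ = _ := by
          rw [h2, LL_cons, LL_cons, LL_singleton]
          group
    rw [h3] at h1
    simpa [nah, nfh, nfh.symm, nah.symm] using coord_eq g D h1 T.h
  obtain ⟨hN, hP⟩ := e1
  refine ⟨?_, ?_, hN.symm, ?_, ?_, ?_, ?_, e6.symm⟩
  · linear_combination e2
  · linear_combination hP - (T.P : R) * e2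
  · refine T.M.isUnit.mul_right_cancel ?_
    linear_combination -e3 + E 0 * e2 - 2 * hP + 2 * (T.P : R) * e2
  · refine T.M.isUnit.mul_right_cancel ?_
    linear_combination -e4 + E 1 * e2 + 3 * hN + 3 * (T.N : R) * T.M.inv_mul
  · refine (T.P * T.M).isUnit.mul_right_cancel ?_
    have hc : C 1 = (T.P : R) * T.M := by linear_combination hP - (T.P : R) * e2
    rw [hc] at e5
    rw [_root_.mul_assoc (3 * (T.N : R)), Units.inv_mul, Units.val_mul]
    linear_combination e5 - 3 * hN
  · refine (T.M * T.M).isUnit.mul_right_cancel ?_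
    have hc : E 1 * (T.M : R) = -3 * T.N := by linear_combination -e4 + E 1 * e2 + 3 * hN
    rw [_root_.mul_assoc (3 * (T.Q : R) * T.N), Units.inv_mul, Units.val_mul]
    linear_combination (T.M : R) * e7 - (T.Q : R) * hc - E 2 * ((T.M : R) * T.M) * T.M.inv_mul

end G2Data

end Groth.Agent.H21Split.R2
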