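import Groth.Agent.H21Split.R2.G2Coeff

/-!
The commutator formulas of a system of type G₂.
-/

open CategoryTheory MonoidalCategory CartesianMonoidalCategory MonObj GrpObj AlgebraicGeometry
open TrivSqZeroExt (inl inr)

universe u

set_option backward.isDefEq.respectTransparency false
set_option linter.style.haveILetI false
set_option linter.unusedSectionVars false
set_option synthInstance.maxHeartbeats 400000

noncomputable section

namespace Groth.Agent.H21Split.R2

theorem reorder_first {H : Type*} [Group H] {b e1 e f1 k f q1 q l : H} (hf : k * f = f * k) (hq1 : k * q1 = q1 * k)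
    (hq : k * q = q * k) : (b * e1) * (e * (f1 * k)) * (f * q1) * q * l = b * (e1 * e) * (f1 * f) * (q1 * q) * (k * l) := by
  calc (b * e1) * (e * (f1 * k)) * (f * q1) * q * l = b * (e1 * e) * f1 * (k * f) * q1 * q * l := by group
    _ = b * (e1 * e) * (f1 * f) * (k * q1) * q * l := by rw [hf]; group
    _ = b * (e1 * e) * (f1 * f) * q1 * (k * q) * l := by rw [hq1]; group
    _ = _ := by rw [hq]; group

theorem reorder_second {H : Type*} [Group H] {b b' e e' f f' q q' l k1 k2 : H} (hlb : l * b' = b' * l)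
    (hqb : q * b' = b' * (q * k1)) (hfb : f * b' = b' * f) (heb : e * b' = b' * e) (hle : k1 * l * e' = e' * (k1 * l))
    (hqe : q * e' = e' * q) (hfe : f * e' = e' * (f * k2)) (hkq : k2 * q = q * k2)
    (hkf : k2 * (k1 * l) * f' = f' * (k2 * (k1 * l))) (hqf : q * f' = f' * q)
    (hkq' : k2 * (k1 * l) * q' = q' * (k2 * (k1 * l))) :
    b * (e * f * q * l) * (b' * (e' * f' * q')) = (b * b') * (e * e') * (f * f') * (q * q') * (k2 * (k1 * l)) := by
  calc b * (e * f * q * l) * (b' * (e' * f' * q')) = b * e * f * q * (l * b') * (e' * f' * q') := by group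
    _ = b * e * f * (q * b') * l * (e' * f' * q') := by rw [hlb]; group
    _ = b * e * (f * b') * q * (k1 * l) * (e' * f' * q') := by rw [hqb]; group
    _ = b * (e * b') * f * q * (k1 * l) * (e' * f' * q') := by rw [hfb]; group
    _ = b * b' * e * f * q * (k1 * l * e') * (f' * q') := by rw [heb]; group
    _ = b * b' * e * f * (q * e') * (k1 * l) * (f' * q') := by rw [hle]; group
    _ = b * b' * e * (f * e') * q * (k1 * l) * (f' * q') := by rw [hqe]; group
    _ = b * b' * (e * e') * f * (k2 * q) * (k1 * l) * (f' * q') := by rw [hfe]; group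
    _ = b * b' * (e * e') * f * q * (k2 * (k1 * l) * f') * q' := by rw [hkq]; group
    _ = b * b' * (e * e') * f * (q * f') * (k2 * (k1 * l) * q') := by rw [hkf]; group
    _ = _ := by rw [hqf, hkq']; group

variable {S : Scheme.{u}} {R : Type u} [CommRing R] {g : Spec (CommRingCat.of R) ⟶ S}
variable {G : Over S} [GrpObj G] {D : Red.SplitRed G} [IsAffineHom G.hom] (T : G2Data g D)

namespace G2Data

/-- the formulas of `a` and `b`, `a` and `a+b`, `a` and `2a+b`, `b` and `3a+b`, `a+b` and `2a+b` -/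
structure Rel : Prop where
  ab : ∀ (B : Type u) [CommRing B] [Algebra R B] (x y : B),
    uPt g D T.a x * uPt g D T.b y * (uPt g D T.a x)⁻¹ = uPt g D T.b y *
      (uPt g D T.e (-algebraMap R B T.M * x * y) * uPt g D T.f (algebraMap R B (T.P * T.M) * x ^ 2 * y) *
        uPt g D T.q (algebraMap R B T.N * x ^ 3 * y) * uPt g D T.h (algebraMap R B (T.Q * T.N) * x ^ 3 * y ^ 2))
  ae : ∀ (B : Type u) [CommRing B] [Algebra R B] (x y : B),
    uPt g D T.a x * uPt g D T.e y * (uPt g D T.a x)⁻¹ = uPt g D T.e y *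
      (uPt g D T.f (algebraMap R B (-2 * T.P) * x * y) * uPt g D T.q (algebraMap R B (-3 * T.N * ↑T.M⁻¹) * x ^ 2 * y) *
        uPt g D T.h (algebraMap R B (3 * T.Q * T.N * ↑(T.M * T.M)⁻¹) * x * y ^ 2))
  af : ∀ (B : Type u) [CommRing B] [Algebra R B] (x y : B),
    uPt g D T.a x * uPt g D T.f y * (uPt g D T.a x)⁻¹ = uPt g D T.f y *
      uPt g D T.q (algebraMap R B (3 * T.N * ↑(T.P * T.M)⁻¹) * x * y)
  bq : ∀ (B : Type u) [CommRing B] [Algebra R B] (x y : B),
    uPt g D T.b x * uPt g D T.q y * (uPt g D T.b x)⁻¹ = uPt g D T.q y * uPt g D T.h (algebraMap R B T.Q * x * y)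
  ef : ∀ (B : Type u) [CommRing B] [Algebra R B] (x y : B),
    uPt g D T.e x * uPt g D T.f y * (uPt g D T.e x)⁻¹ = uPt g D T.f y *
      uPt g D T.h (algebraMap R B (3 * T.Q * T.N * ↑(T.P * T.M * T.M)⁻¹) * x * y)

set_option maxHeartbeats 2000000 in
theorem ef_aux {E4 : R}
    (hE4 : ∀ (B : Type u) [CommRing B] [Algebra R B] (x y : B),
      uPt g D T.a x * uPt g D T.f y * (uPt g D T.a x)⁻¹ = uPt g D T.f y * uPt g D T.q (algebraMap R B E4 * x * y))
    (B : Type u) [CommRing B] [Algebra R B] (x y : B) :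
    uPt g D T.e x * uPt g D T.f y * (uPt g D T.e x)⁻¹ = uPt g D T.f y *
      uPt g D T.h (algebraMap R B (T.Q * E4 * ↑T.M⁻¹) * x * y) := by
  set W := wPt g D T.b T.b' T.kb B
  have hx : W * uPt g D T.a (algebraMap R B ↑T.M⁻¹ * x) * W⁻¹ = uPt g D T.e x := by
    rw [T.nBa B, ← _root_.mul_assoc, ← map_mul, T.M.mul_inv, map_one, _root_.one_mul]
  have hy : W * uPt g D T.f y * W⁻¹ = uPt g D T.f y := by rw [T.nBf B, map_one, _root_.one_mul]
  have h := congrArg (fun z => W * z * W⁻¹) (hE4 B (algebraMap R B ↑T.M⁻¹ * x) y)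
  simp only [← conj_mul3, ← conj_inv', hx, hy] at h
  rw [h, show W * uPt g D T.q _ * W⁻¹ = _ from T.nBq B _]
  congr 2
  simp only [map_mul]
  ring

/-- coordinates in the product of the five root groups other than that of `a` are unique -/
theorem coord5 {B : Type u} [CommRing B] [Algebra R B] {x y : Fin 5 → B}
    (hxy : uPt g D T.b (x 0) * uPt g D T.e (x 1) * uPt g D T.f (x 2) * uPt g D T.q (x 3) * uPt g D T.h (x 4) =
      uPt g D T.b (y 0) * uPt g D T.e (y 1) * uPt g D T.f (y 2) * uPt g D T.q (y 3) * uPt g D T.h (y 4)) : x = y := by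
  let L : D.M →ₗ[ℤ] ℤ := (3 : ℤ) • (D.P.coroot T.a : D.M →ₗ[ℤ] ℤ) + (5 : ℤ) • (D.P.coroot T.b : D.M →ₗ[ℤ] ℤ)
  have hψ : ∀ (c : D.idx) (i j : ℤ), D.P.root c = i • D.P.root T.a + j • D.P.root T.b →
      L.toAddMonoidHom (D.P.root c) = i + j := by
    intro c i j hc
    change L (D.P.root c) = _
    rw [LinearMap.add_apply, LinearMap.smul_apply, LinearMap.smul_apply, coroot_apply, coroot_apply,
      D.P.root_coroot'_eq_pairing, D.P.root_coroot'_eq_pairing, T.pairing_a hc, T.pairing_b hc, smul_eq_mul,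
      smul_eq_mul]
    ring
  obtain ⟨-, -, -, -, -, nbe, nbf, nbq, nbh, nef, neq, neh, nfq, nfh, nqh⟩ := T.ne_all
  refine prod_uPt_injective g D ![T.b, T.e, T.f, T.q, T.h] ?_ L.toAddMonoidHom ?_ ?_
  · intro i j hij
    fin_cases i <;> fin_cases j <;>
      first | rfl | exact absurd hij nbe | exact absurd hij nbe.symm | exact absurd hij nbf | exact absurd hij nbf.symm |
        exact absurd hij nbq | exact absurd hij nbq.symm | exact absurd hij nbh | exact absurd hij nbh.symm |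
        exact absurd hij nef | exact absurd hij nef.symm | exact absurd hij neq | exact absurd hij neq.symm |
        exact absurd hij neh | exact absurd hij neh.symm | exact absurd hij nfq | exact absurd hij nfq.symm |
        exact absurd hij nfh | exact absurd hij nfh.symm | exact absurd hij nqh | exact absurd hij nqh.symm
  · intro k
    fin_cases k
    · simp [hψ _ _ _ T.hb]
    · simp [hψ _ _ _ T.he]
    · simp [hψ _ _ _ T.hf]
    · simp [hψ _ _ _ T.hq]
    · simp [hψ _ _ _ T.hh]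
  · simpa [List.ofFn_succ, _root_.mul_assoc] using hxy

set_option maxHeartbeats 1600000 in
/-- the commutator formulas of G₂ -/
theorem rel : T.Rel := by
  obtain ⟨⟨C, hC⟩, ⟨E, hE⟩, ⟨E4, hE4⟩, ⟨E6, hE6⟩⟩ := T.formulas
  obtain ⟨c0, c1, c2, d0, d1, d4, d2, d6⟩ := T.coeffs C E E4 E6 hC hE hE4 hE6
  let A := DualNumber R
  let ε : A := inr 1
  let am : R →+* A := algebraMap R A
  have hh : ∀ (c d : D.idx) {i j k l : ℤ}, D.P.root c = i • D.P.root T.a + j • D.P.root T.b →
      D.P.root d = k • D.P.root T.a + l • D.P.root T.b →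
      ((i + k = 2 ∧ j + l = 0) ∨ (1 ≤ i + k ∧ 1 ≤ j + l ∧ ¬IsPosRootCoord 3 (i + k) (j + l))) →
      ∀ x y : A, uPt g D c x * uPt g D d y = uPt g D d y * uPt g D c x := fun c d => T.commute c d
  have z2 : ε ^ 2 = 0 := by rw [pow_two, TrivSqZeroExt.inr_mul_inr]
  have z3 : ε ^ 3 = 0 := by rw [pow_succ, z2, zero_mul]
  have inj : ∀ {x y : Fin 5 → A}, uPt g D T.b (x 0) * uPt g D T.e (x 1) * uPt g D T.f (x 2) * uPt g D T.q (x 3) *
      uPt g D T.h (x 4) = uPt g D T.b (y 0) * uPt g D T.e (y 1) * uPt g D T.f (y 2) * uPt g D T.q (y 3) *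
      uPt g D T.h (y 4) → x = y := fun h => T.coord5 h
  have t3 : 3 * C 3 = E 2 * C 0 ^ 2 := by
    have h1 : uPt g D T.a (1 + ε) * uPt g D T.b (1 : A) * (uPt g D T.a (1 + ε))⁻¹ =
        (uPt g D T.a ε * uPt g D T.b (1 : A) * (uPt g D T.a ε)⁻¹) *
        (uPt g D T.a ε * uPt g D T.e (am (C 0)) * (uPt g D T.a ε)⁻¹) *
        (uPt g D T.a ε * uPt g D T.f (am (C 1)) * (uPt g D T.a ε)⁻¹) *
        (uPt g D T.a ε * uPt g D T.q (am (C 2)) * (uPt g D T.a ε)⁻¹) *
        (uPt g D T.a ε * uPt g D T.h (am (C 3)) * (uPt g D T.a ε)⁻¹) := by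
      rw [conj_mul3, conj_mul3, conj_mul3, conj_mul3, add_comm (1 : A) ε, uPt_add]
      have := hC A 1 1
      simp only [one_pow, _root_.mul_one] at this
      calc _ = uPt g D T.a ε * (uPt g D T.a (1 : A) * uPt g D T.b (1 : A) * (uPt g D T.a (1 : A))⁻¹) *
          (uPt g D T.a ε)⁻¹ := by group
        _ = _ := by rw [this]; simp only [am, _root_.mul_assoc]
    have hq : ∀ x : A, uPt g D T.a ε * uPt g D T.q x * (uPt g D T.a ε)⁻¹ = uPt g D T.q x := fun x =>
      mul_inv_eq_iff_eq_mul.mpr (hh T.a T.q T.ha T.hq (Or.inr (by norm_num [IsPosRootCoord])) _ _)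
    have hl : ∀ x : A, uPt g D T.a ε * uPt g D T.h x * (uPt g D T.a ε)⁻¹ = uPt g D T.h x := fun x =>
      mul_inv_eq_iff_eq_mul.mpr (hh T.a T.h T.ha T.hh (Or.inr (by norm_num [IsPosRootCoord])) _ _)
    rw [hC A (1 + ε) 1, hC A ε 1, hE A ε, hE4 A ε, hq, hl] at h1
    simp only [z2, z3, mul_zero, zero_mul, uPt_zero, _root_.mul_one, one_pow] at h1
    rw [reorder_first (hh T.h T.f T.hh T.hf (Or.inr (by norm_num [IsPosRootCoord])) _ _)
        (hh T.h T.q T.hh T.hq (Or.inr (by norm_num [IsPosRootCoord])) _ _)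
        (hh T.h T.q T.hh T.hq (Or.inr (by norm_num [IsPosRootCoord])) _ _)] at h1
    simp only [← uPt_add, ← _root_.mul_assoc] at h1
    have h2 := congrArg (fun v : Fin 5 → A => TrivSqZeroExt.snd (v 4))
      (inj (x := ![1, _, _, _, _]) (y := ![1, _, _, _, _]) h1)
    simp [am, A, ε, pow_succ, TrivSqZeroExt.algebraMap_eq_inl', TrivSqZeroExt.snd_mul, TrivSqZeroExt.fst_mul] at h2
    linear_combination h2
  have t2 : 2 * C 3 = -(E6 * C 2) - T.Q * E4 * ↑T.M⁻¹ * C 0 * C 1 := by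
    have h1 : uPt g D T.a (1 : A) * uPt g D T.b (1 + ε) * (uPt g D T.a (1 : A))⁻¹ =
        (uPt g D T.a (1 : A) * uPt g D T.b (1 : A) * (uPt g D T.a (1 : A))⁻¹) *
        (uPt g D T.a (1 : A) * uPt g D T.b ε * (uPt g D T.a (1 : A))⁻¹) := by
      rw [conj_mul3, uPt_add]
    rw [hC A 1 (1 + ε), hC A 1 1, hC A 1 ε] at h1
    simp only [z2, mul_zero, uPt_zero, _root_.mul_one, one_pow] at h1
    have hbq : uPt g D T.q (algebraMap R A (C 2)) * uPt g D T.b ε =
        uPt g D T.b ε * (uPt g D T.q (algebraMap R A (C 2)) * uPt g D T.h (algebraMap R A E6 * -ε * algebraMap R A (C 2))) := by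
      rw [← hE6 A (-ε), uPt_neg]; group
    have hfe : uPt g D T.f (algebraMap R A (C 1)) * uPt g D T.e (algebraMap R A (C 0) * ε) =
        uPt g D T.e (algebraMap R A (C 0) * ε) * (uPt g D T.f (algebraMap R A (C 1)) *
          uPt g D T.h (algebraMap R A (T.Q * E4 * ↑T.M⁻¹) * -(algebraMap R A (C 0) * ε) * algebraMap R A (C 1))) := by
      rw [← T.ef_aux hE4 A, uPt_neg]; group
    rw [reorder_second
      (hh T.h T.b T.hh T.hb (Or.inr (by norm_num [IsPosRootCoord])) _ _) hbq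
      (hh T.f T.b T.hf T.hb (Or.inr (by norm_num [IsPosRootCoord])) _ _)
      (hh T.e T.b T.he T.hb (Or.inr (by norm_num [IsPosRootCoord])) _ _)
      (by rw [← uPt_add]; exact hh T.h T.e T.hh T.he (Or.inr (by norm_num [IsPosRootCoord])) _ _)
      (hh T.q T.e T.hq T.he (Or.inr (by norm_num [IsPosRootCoord])) _ _) hfe
      (hh T.h T.q T.hh T.hq (Or.inr (by norm_num [IsPosRootCoord])) _ _)
      (by rw [← uPt_add, ← uPt_add]; exact hh T.h T.f T.hh T.hf (Or.inr (by norm_num [IsPosRootCoord])) _ _)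
      (hh T.q T.f T.hq T.hf (Or.inr (by norm_num [IsPosRootCoord])) _ _)
      (by rw [← uPt_add, ← uPt_add]; exact hh T.h T.q T.hh T.hq (Or.inr (by norm_num [IsPosRootCoord])) _ _)] at h1
    simp only [← uPt_add, ← _root_.mul_assoc] at h1
    have h2 := congrArg (fun v : Fin 5 → A => TrivSqZeroExt.snd (v 4))
      (inj (x := ![_, _, _, _, _]) (y := ![_, _, _, _, _]) h1)
    simp [A, ε, pow_succ, TrivSqZeroExt.algebraMap_eq_inl', TrivSqZeroExt.snd_mul, TrivSqZeroExt.fst_mul] at h2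
    linear_combination h2
  have hF : C 3 = T.Q * T.N := by
    rw [d2, c0] at t3
    rw [d6, c2, d4, c0, c1] at t2
    have hM : (↑(T.M * T.M)⁻¹ : R) * (T.M * T.M) = 1 := by rw [← Units.val_mul, Units.inv_mul]
    have hPM : (↑(T.P * T.M)⁻¹ : R) * (T.P * T.M) = 1 := by rw [← Units.val_mul, Units.inv_mul]
    linear_combination t3 - t2 + 3 * (T.Q : R) * T.N * hM -
      3 * (T.Q : R) * T.N * ((↑(T.P * T.M)⁻¹ : R) * (T.P * T.M)) * T.M.inv_mul - 3 * (T.Q : R) * T.N * hPM
  refine ⟨fun B _ _ x y => ?_, fun B _ _ x y => ?_, fun B _ _ x y => ?_, fun B _ _ x y => ?_, fun B _ _ x y => ?_⟩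
  · rw [hC, c0, c1, c2, hF, map_neg]
  · rw [hE, d0, d1, d2]
  · rw [hE4, d4]
  · rw [hE6, d6]
  · rw [T.ef_aux hE4, d4]
    congr 4
    simp only [_root_.mul_inv_rev, Units.val_mul]
    ring

end G2Data

end Groth.Agent.H21Split.R2
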