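import Groth.Agent.H21Split.R2.Coord

/-!
Two roots spanning a system of type G₂: the setting and the coefficients linear in one of the variables.
-/

open CategoryTheory MonoidalCategory CartesianMonoidalCategory MonObj GrpObj AlgebraicGeometry
open TrivSqZeroExt (inl inr)

universe u

set_option backward.isDefEq.respectTransparency false
set_option linter.style.haveILetI false
set_option linter.unusedSectionVars false
set_option synthInstance.maxHeartbeats 400000

noncomputable section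

namespace Groth.Agent.H21Split.R2

variable {S : Scheme.{u}} {R : Type u} [CommRing R] (g : Spec (CommRingCat.of R) ⟶ S)
variable {B : Type u} [CommRing B] [Algebra R B]
variable {G : Over S} [GrpObj G] (D : Red.SplitRed G)

/-- roots `a`, `b` spanning G₂ (`a` short), the other positive roots, and the factors of the Weyl points -/
structure G2Data where
  a : D.idx
  b : D.idx
  a' : D.idx
  b' : D.idx
  e : D.idx
  f : D.idx
  q : D.idx
  h : D.idx
  ka : Rˣ
  kb : Rˣ
  M : Rˣ
  N : Rˣ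
  P : Rˣ
  Q : Rˣ
  hA : D.P.pairing b a = -3
  hB : D.P.pairing a b = -1
  ha' : D.P.root a' = -D.P.root a
  hb' : D.P.root b' = -D.P.root b
  he : D.P.root e = (1 : ℤ) • D.P.root a + (1 : ℤ) • D.P.root b
  hf : D.P.root f = (2 : ℤ) • D.P.root a + (1 : ℤ) • D.P.root b
  hq : D.P.root q = (3 : ℤ) • D.P.root a + (1 : ℤ) • D.P.root b
  hh : D.P.root h = (3 : ℤ) • D.P.root a + (2 : ℤ) • D.P.root b
  hka : Dual g D a a' (ka : R)
  hkb : Dual g D b b' (kb : R)
  nAb : HasN g D a a' ka b q (N : R)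
  nAe : HasN g D a a' ka e f (P : R)
  nBa : HasN g D b b' kb a e (M : R)
  nBq : HasN g D b b' kb q h (Q : R)

variable {g D} [IsAffineHom G.hom] (T : G2Data g D)

namespace G2Data

theorem ha : D.P.root T.a = (1 : ℤ) • D.P.root T.a + (0 : ℤ) • D.P.root T.b := by simp

theorem hb : D.P.root T.b = (0 : ℤ) • D.P.root T.a + (1 : ℤ) • D.P.root T.b := by simp

include T in
theorem finite_idx : Finite D.idx := by haveI := D.fintypeIdx; exact Finite.of_fintype _

theorem coord_unique {i j i' j' : ℤ}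
    (h : i • D.P.root T.a + j • D.P.root T.b = i' • D.P.root T.a + j' • D.P.root T.b) : i = i' ∧ j = j' :=
  haveI := T.finite_idx
  comb_inj D.P T.hA T.hB (by norm_num) h

theorem roots (c : D.idx) (i j : ℤ) (hc : D.P.root c = i • D.P.root T.a + j • D.P.root T.b) (hi : 1 ≤ i)
    (hj : 1 ≤ j) : IsPosRootCoord 3 i j ∧ ¬((3 : ℤ) = 2 ∧ i = 2 ∧ j = 2) :=
  haveI := T.finite_idx
  ⟨pos_root_coord D.P T.hA T.hB (by norm_num) (by norm_num) hc hi hj, by norm_num⟩

/-- twice the root `a` is not a root -/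
theorem two_a_notMem (r : D.idx) : D.P.root r ≠ (2 : ℤ) • D.P.root T.a + (0 : ℤ) • D.P.root T.b := by
  haveI := D.fintypeIdx
  haveI := T.finite_idx
  intro hr
  rw [zero_smul, add_zero] at hr
  have h1 := two_mul_rootForm (P := D.P) (D.P.root T.b) r
  have h2 := two_mul_rootForm (P := D.P) (D.P.root T.b) T.a
  rw [D.P.root_coroot'_eq_pairing] at h1 h2
  rw [T.hA] at h2
  simp only [hr, map_smul, LinearMap.smul_apply, smul_eq_mul] at h1
  have h4 : D.P.pairing T.b r * 4 = -6 := by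
    refine mul_right_cancel₀ (ne_of_gt (rootForm_root_pos (P := D.P) T.a)) ?_
    linear_combination -h1 + 2 * h2
  omega

/-- the combinations which are neither zero nor roots -/
theorem comb (c d : D.idx) {i j k l : ℤ} (hc : D.P.root c = i • D.P.root T.a + j • D.P.root T.b)
    (hd : D.P.root d = k • D.P.root T.a + l • D.P.root T.b)
    (hn : (i + k = 2 ∧ j + l = 0) ∨ (1 ≤ i + k ∧ 1 ≤ j + l ∧ ¬IsPosRootCoord 3 (i + k) (j + l))) :
    D.P.root c + D.P.root d ≠ 0 ∧ D.P.root c + D.P.root d ∉ Set.range D.P.root := by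
  haveI := T.finite_idx
  have e : D.P.root c + D.P.root d = (i + k) • D.P.root T.a + (j + l) • D.P.root T.b := by rw [hc, hd]; module
  rw [e]
  refine ⟨fun h0 => ?_, fun ⟨r, hr⟩ => ?_⟩
  · obtain ⟨h1, h2⟩ := comb_eq_zero D.P T.hA T.hB (by norm_num) h0
    omega
  · rcases hn with ⟨h1, h2⟩ | ⟨h1, h2, h3⟩
    · rw [h1, h2] at hr; exact T.two_a_notMem r hr
    · exact h3 (T.roots r _ _ hr h1 h2).1

theorem commute (c d : D.idx) {i j k l : ℤ} (hc : D.P.root c = i • D.P.root T.a + j • D.P.root T.b)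
    (hd : D.P.root d = k • D.P.root T.a + l • D.P.root T.b)
    (hn : (i + k = 2 ∧ j + l = 0) ∨ (1 ≤ i + k ∧ 1 ≤ j + l ∧ ¬IsPosRootCoord 3 (i + k) (j + l))) (x y : B) :
    uPt g D c x * uPt g D d y = uPt g D d y * uPt g D c x :=
  uPt_commute g D (T.comb c d hc hd hn).1 (T.comb c d hc hd hn).2 x y

theorem zpow_neg_one_odd {n : ℤ} (h : Odd n) : ((-1 : Rˣ) ^ n : Rˣ) = -1 := by
  rw [Odd.neg_zpow h, one_zpow]

theorem pairing_a {c : D.idx} {i j : ℤ} (hc : D.P.root c = i • D.P.root T.a + j • D.P.root T.b) :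
    D.P.pairing c T.a = 2 * i - 3 * j := by
  haveI := T.finite_idx
  rw [← D.P.root_coroot'_eq_pairing, hc, coroot_a D.P T.hA]

theorem pairing_b {c : D.idx} {i j : ℤ} (hc : D.P.root c = i • D.P.root T.a + j • D.P.root T.b) :
    D.P.pairing c T.b = -i + 2 * j := by
  haveI := T.finite_idx
  rw [← D.P.root_coroot'_eq_pairing, hc, coroot_b D.P T.hB]

theorem nAq : HasN g D T.a T.a' T.ka T.q T.b (-↑T.N⁻¹) := by
  have h := T.nAb.symm' g D T.ha' T.hka T.N rfl
  rw [zpow_neg_one_odd (by rw [T.hA]; decide), neg_one_mul, Units.val_neg] at h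
  exact h

theorem nAf : HasN g D T.a T.a' T.ka T.f T.e (-↑T.P⁻¹) := by
  have h := T.nAe.symm' g D T.ha' T.hka T.P rfl
  rw [zpow_neg_one_odd (by rw [T.pairing_a T.he]; decide), neg_one_mul, Units.val_neg] at h
  exact h

theorem nBe : HasN g D T.b T.b' T.kb T.e T.a (-↑T.M⁻¹) := by
  have h := T.nBa.symm' g D T.hb' T.hkb T.M rfl
  rw [zpow_neg_one_odd (by rw [T.hB]; decide), neg_one_mul, Units.val_neg] at h
  exact h

theorem nBh : HasN g D T.b T.b' T.kb T.h T.q (-↑T.Q⁻¹) := by
  have h := T.nBq.symm' g D T.hb' T.hkb T.Q rfl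
  rw [zpow_neg_one_odd (by rw [T.pairing_b T.hq]; decide), neg_one_mul, Units.val_neg] at h
  exact h

theorem nBf : HasN g D T.b T.b' T.kb T.f T.f 1 := by
  have h1 := T.comb T.b T.f T.hb T.hf (Or.inr (by norm_num [IsPosRootCoord]))
  have h2 := T.comb T.b' T.f (i := 0) (j := -1) (by rw [T.hb']; simp) T.hf (Or.inl (by norm_num))
  rw [T.hb', neg_add_eq_sub] at h2
  exact hasN_fix g D T.hb' T.hkb h1.1 h1.2 h2.1 h2.2

theorem nAh : HasN g D T.a T.a' T.ka T.h T.h 1 := by
  have h1 := T.comb T.a T.h T.ha T.hh (Or.inr (by norm_num [IsPosRootCoord]))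
  have h2 := T.comb T.a' T.h (i := -1) (j := 0) (by rw [T.ha']; simp) T.hh (Or.inr (by norm_num [IsPosRootCoord]))
  rw [T.ha', neg_add_eq_sub] at h2
  exact hasN_fix g D T.ha' T.hka h1.1 h1.2 h2.1 h2.2

/-- the five formulas -/
theorem formulas :
    (∃ C : Fin 4 → R, ∀ (B : Type u) [CommRing B] [Algebra R B] (x y : B),
      uPt g D T.a x * uPt g D T.b y * (uPt g D T.a x)⁻¹ = uPt g D T.b y *
        (uPt g D T.e (algebraMap R B (C 0) * x * y) * uPt g D T.f (algebraMap R B (C 1) * x ^ 2 * y) *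
          uPt g D T.q (algebraMap R B (C 2) * x ^ 3 * y) * uPt g D T.h (algebraMap R B (C 3) * x ^ 3 * y ^ 2))) ∧
    (∃ E : Fin 3 → R, ∀ (B : Type u) [CommRing B] [Algebra R B] (x y : B),
      uPt g D T.a x * uPt g D T.e y * (uPt g D T.a x)⁻¹ = uPt g D T.e y *
        (uPt g D T.f (algebraMap R B (E 0) * x * y) * uPt g D T.q (algebraMap R B (E 1) * x ^ 2 * y) *
          uPt g D T.h (algebraMap R B (E 2) * x * y ^ 2))) ∧
    (∃ E : R, ∀ (B : Type u) [CommRing B] [Algebra R B] (x y : B),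
      uPt g D T.a x * uPt g D T.f y * (uPt g D T.a x)⁻¹ = uPt g D T.f y *
        uPt g D T.q (algebraMap R B E * x * y)) ∧
    ∃ E : R, ∀ (B : Type u) [CommRing B] [Algebra R B] (x y : B),
      uPt g D T.b x * uPt g D T.q y * (uPt g D T.b x)⁻¹ = uPt g D T.q y *
        uPt g D T.h (algebraMap R B E * x * y) := by
  haveI := T.finite_idx
  have hm : (3 : ℤ) = 1 ∨ (3 : ℤ) = 2 ∨ (3 : ℤ) = 3 := by norm_num
  refine ⟨?_, ?_, ?_, ?_⟩
  · obtain ⟨C, hC⟩ := exists_formula g D (m := 3) T.hA T.hB hm T.roots T.a T.b 1 0 0 1 (by simp) (by simp) (by omega) (by norm_num)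
      ![T.e, T.f, T.q, T.h] ![1, 2, 3, 3] ![1, 1, 1, 2] (by decide) (fun k => by fin_cases k <;> simp)
      (fun k => by fin_cases k <;> simp [T.he, T.hf, T.hq, T.hh])
      (fun p q _ _ h _ => by
        simp only [IsPosRootCoord, Fin.exists_fin_succ, Matrix.cons_val_zero, Matrix.cons_val_succ, IsEmpty.exists_iff] at h ⊢
        omega)
    refine ⟨C, fun B _ _ x y => ?_⟩
    rw [hC B x y]
    simp [List.ofFn_succ, _root_.mul_assoc]
  · obtain ⟨C, hC⟩ := exists_formula g D (m := 3) T.hA T.hB hm T.roots T.a T.e 1 0 1 1 (by simp) (by simpa using T.he) (by omega) (by norm_num)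
      ![T.f, T.q, T.h] ![1, 2, 1] ![1, 1, 2] (by decide) (fun k => by fin_cases k <;> simp)
      (fun k => by fin_cases k <;> simp [T.hf, T.hq, T.hh])
      (fun p q _ _ h _ => by
        simp only [IsPosRootCoord, Fin.exists_fin_succ, Matrix.cons_val_zero, Matrix.cons_val_succ, IsEmpty.exists_iff] at h ⊢
        omega)
    refine ⟨C, fun B _ _ x y => ?_⟩
    rw [hC B x y]
    simp [List.ofFn_succ, _root_.mul_assoc]
  · obtain ⟨C, hC⟩ := exists_formula g D (m := 3) T.hA T.hB hm T.roots T.a T.f 1 0 2 1 (by simp) (by simpa using T.hf) (by omega) (by norm_num)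
      ![T.q] ![1] ![1] (by decide) (fun k => by fin_cases k; simp) (fun k => by fin_cases k; simp [T.hq])
      (fun p q _ _ h _ => by
        simp only [IsPosRootCoord, Fin.exists_fin_succ, Matrix.cons_val_zero, Matrix.cons_val_succ, IsEmpty.exists_iff] at h ⊢
        omega)
    refine ⟨C 0, fun B _ _ x y => ?_⟩
    rw [hC B x y]
    simp [List.ofFn_succ]
  · obtain ⟨C, hC⟩ := exists_formula g D (m := 3) T.hA T.hB hm T.roots T.b T.q 0 1 3 1 (by simp) (by simpa using T.hq) (by omega) (by norm_num)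
      ![T.h] ![1] ![1] (by decide) (fun k => by fin_cases k; simp) (fun k => by fin_cases k; simp [T.hh])
      (fun p q _ _ h _ => by
        simp only [IsPosRootCoord, Fin.exists_fin_succ, Matrix.cons_val_zero, Matrix.cons_val_succ, IsEmpty.exists_iff] at h ⊢
        omega)
    refine ⟨C 0, fun B _ _ x y => ?_⟩
    rw [hC B x y]
    simp [List.ofFn_succ]

end G2Data

end Groth.Agent.H21Split.R2
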