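import Groth.Agent.H21Split.R2.Coxeter

/-!
Points permuting the root groups, with their factors taken up to sign.
-/

open CategoryTheory MonoidalCategory CartesianMonoidalCategory MonObj GrpObj AlgebraicGeometry

universe u

set_option backward.isDefEq.respectTransparency false
set_option linter.style.haveILetI false
set_option linter.unusedSectionVars false
set_option synthInstance.maxHeartbeats 400000

noncomputable section

namespace Groth.Agent.H21Split.R2

/-- units up to sign -/
abbrev SgnQ (R : Type u) [CommRing R] : Type u := Rˣ ⧸ Subgroup.zpowers (-1 : Rˣ)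

/-- the class of a unit up to sign -/
def cls {R : Type u} [CommRing R] : Rˣ →* SgnQ R := QuotientGroup.mk' _

section units

variable {R : Type u} [CommRing R]

theorem cls_neg_one : cls (-1 : Rˣ) = 1 :=
  (QuotientGroup.eq_one_iff _).mpr (Subgroup.mem_zpowers _)

theorem cls_neg (N : Rˣ) : cls (-N) = cls N := by
  have h : -N = (-1 : Rˣ) * N := by simp
  rw [h, map_mul, cls_neg_one]
  exact _root_.one_mul (cls N)

theorem cls_zpow_neg_one (n : ℤ) : cls ((-1 : Rˣ) ^ n) = 1 := by rw [map_zpow, cls_neg_one, one_zpow]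

theorem exists_sign_of_cls {N N' : Rˣ} (h : cls N = cls N') : ∃ n : ℤ, N' = N * (-1 : Rˣ) ^ n := by
  obtain ⟨n, hn⟩ := Subgroup.mem_zpowers_iff.mp (QuotientGroup.eq.mp h)
  exact ⟨n, by rw [hn, ← _root_.mul_assoc, mul_inv_cancel, _root_.one_mul]⟩

theorem sign_zpow (n : ℤ) : ((-1 : Rˣ) ^ n : Rˣ) = 1 ∨ ((-1 : Rˣ) ^ n : Rˣ) = -1 := by
  rcases Int.even_or_odd n with h | h
  · exact Or.inl (by rw [Even.neg_zpow h, one_zpow])
  · exact Or.inr (by rw [Odd.neg_zpow h, one_zpow])

end units

theorem step_aux {A : Type*} [CommGroup A] (k p q t : A) : q * (k * p * q * t)⁻¹ = (k * (p * t))⁻¹ := by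
  rw [mul_right_comm (k * p) q t, _root_.mul_inv_rev, mul_inv_cancel_left, _root_.mul_assoc]

variable {S : Scheme.{u}} {R : Type u} [CommRing R] (g : Spec (CommRingCat.of R) ⟶ S)
variable {B : Type u} [CommRing B] [Algebra R B]
variable {G : Over S} [GrpObj G] (D : Red.SplitRed G)

/-- a point acting on the root groups by a permutation, with given factors up to sign -/
def Good (W : pt g R ⟶ G) (σ : Equiv.Perm D.idx) (f : Equiv.Perm (D.idx × SgnQ R)) : Prop :=
  ∀ c, ∃ N : Rˣ, (∀ t, f (c, t) = (σ c, cls N * t)) ∧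
    ∀ (B : Type u) [CommRing B] [Algebra R B] (x : B),
      pmap g (toBase R B) ≫ W * uPt g D c x * (pmap g (toBase R B) ≫ W)⁻¹ = uPt g D (σ c) (algebraMap R B N * x)

variable {g D}

theorem good_one : Good g D (1 : pt g R ⟶ G) 1 1 := fun c =>
  ⟨1, fun t => Prod.ext rfl (by rw [map_one]; exact (one_mul t).symm), fun B _ _ x => by simp [MonObj.comp_one]⟩

theorem Good.mul {W W' : pt g R ⟶ G} {σ σ' : Equiv.Perm D.idx} {f f' : Equiv.Perm (D.idx × SgnQ R)}
    (h : Good g D W σ f) (h' : Good g D W' σ' f') : Good g D (W * W') (σ * σ') (f * f') := by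
  intro c
  obtain ⟨N', hf', hc'⟩ := h' c
  obtain ⟨N, hf, hc⟩ := h (σ' c)
  refine ⟨N * N', fun t => ?_, fun B _ _ x => ?_⟩
  · rw [Equiv.Perm.mul_apply, hf', hf, map_mul, _root_.mul_assoc]; rfl
  · rw [MonObj.comp_mul, _root_.mul_inv_rev]
    calc _ = pmap g (toBase R B) ≫ W * (pmap g (toBase R B) ≫ W' * uPt g D c x * (pmap g (toBase R B) ≫ W')⁻¹) *
        (pmap g (toBase R B) ≫ W)⁻¹ := by group
      _ = _ := by rw [hc', hc, Units.val_mul, map_mul, _root_.mul_assoc]; rfl

theorem good_listProd {κ : Type*} (W : κ → (pt g R ⟶ G)) (σ : κ → Equiv.Perm D.idx)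
    (f : κ → Equiv.Perm (D.idx × SgnQ R)) (h : ∀ k, Good g D (W k) (σ k) (f k)) (l : List κ) :
    Good g D (l.map W).prod (l.map σ).prod (l.map f).prod := by
  induction l with
  | nil => simpa using good_one
  | cons k l ih => simpa using (h k).mul ih

theorem Good.pow {W : pt g R ⟶ G} {σ : Equiv.Perm D.idx} {f : Equiv.Perm (D.idx × SgnQ R)}
    (h : Good g D W σ f) : ∀ n : ℕ, Good g D (W ^ n) (σ ^ n) (f ^ n)
  | 0 => by simpa using good_one
  | n + 1 => by rw [pow_succ, pow_succ, pow_succ]; exact (h.pow n).mul h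

variable [IsAffineHom G.hom]

theorem Good.unique {W : pt g R ⟶ G} {σ : Equiv.Perm D.idx} {f f' : Equiv.Perm (D.idx × SgnQ R)}
    (h : Good g D W σ f) (h' : Good g D W σ f') : f = f' := by
  refine Equiv.ext fun ⟨c, t⟩ => ?_
  obtain ⟨N, hf, hc⟩ := h c
  obtain ⟨N', hf', hc'⟩ := h' c
  have e := (hc R 1).symm.trans (hc' R 1)
  simp only [Algebra.algebraMap_self_apply, _root_.mul_one] at e
  rw [hf, hf', Units.ext (uPt_injective g D (σ c) e)]

variable [D.P.IsReduced]

theorem good_tor (a b : D.idx) (i j : ℤ) : Good g D (tPt g D (tor D a b i j R (R := R))) 1 1 := by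
  intro c
  refine ⟨((-1 : Rˣ) ^ i) ^ D.P.coroot a (D.P.root c) * ((-1 : Rˣ) ^ j) ^ D.P.coroot b (D.P.root c),
    fun t => Prod.ext rfl (by simp [map_mul, ← zpow_mul, cls_zpow_neg_one]; exact ((congrArg (· * t) (_root_.one_mul 1)).trans (_root_.one_mul t)).symm), fun B _ _ x => ?_⟩
  rw [pmap_tPt, tPt_conj, Equiv.Perm.one_apply]
  congr 2

section step

variable {a : D.idx} (ha : Dual g D a (D.P.reflectionPerm a a) ((1 : Rˣ) : R))

variable (g D) in
/-- the Weyl point of a root -/
abbrev wP (a : D.idx) : pt g R ⟶ G := wPt g D a (D.P.reflectionPerm a a) 1 R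

theorem root_oppIdx (c : D.idx) : D.P.root (D.P.reflectionPerm c c) = -D.P.root c := by
  rw [D.P.root_reflectionPerm, D.P.reflection_apply_self]

/-- the factor of the Weyl point -/
def nu (c : D.idx) : Rˣ := (exists_hasN D g (root_oppIdx a) ha (d := c) rfl).choose

theorem nu_spec (c : D.idx) :
    HasN g D a (D.P.reflectionPerm a a) 1 c (D.P.reflectionPerm a c) (nu ha c : R) :=
  (exists_hasN D g (root_oppIdx a) ha (d := c) rfl).choose_spec

/-- the Weyl point on roots and classes of factors -/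
def xP : Equiv.Perm (D.idx × SgnQ R) :=
  Equiv.prodShear (D.P.reflectionPerm a) fun c => Equiv.mulLeft (cls (nu ha c))

theorem xP_apply (c : D.idx) (t : SgnQ R) : xP ha (c, t) = (D.P.reflectionPerm a c, cls (nu ha c) * t) := rfl

theorem good_wP : Good g D (wP g D a) (D.P.reflectionPerm a) (xP ha) := fun c =>
  ⟨nu ha c, fun t => rfl, fun B _ _ x => by rw [pmap_toBase_wPt]; exact nu_spec ha c B x⟩

theorem cls_eq_of_hasN {c d : D.idx} {M : Rˣ} (hd : D.P.reflectionPerm a c = d)
    (h : HasN g D a (D.P.reflectionPerm a a) 1 c d (M : R)) : cls (nu ha c) = cls M := by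
  subst hd
  have e := (HasN.apply_one g D (nu_spec ha c)).symm.trans (HasN.apply_one g D h)
  rw [Units.ext (uPt_injective g D _ e)]

theorem xP_of_hasN {c d : D.idx} {M : Rˣ} (hd : D.P.reflectionPerm a c = d)
    (h : HasN g D a (D.P.reflectionPerm a a) 1 c d (M : R)) (t : SgnQ R) : xP ha (c, t) = (d, cls M * t) := by
  rw [xP_apply, cls_eq_of_hasN ha hd h, hd]

theorem xP_self (t : SgnQ R) : xP ha (a, t) = (D.P.reflectionPerm a a, t) := by
  refine (xP_of_hasN ha (M := -1) rfl ?_ t).trans (Prod.ext rfl (by rw [cls_neg_one]; exact one_mul t))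
  have h := hasN_self g D (root_oppIdx a) ha
  rw [inv_one] at h
  rwa [Units.val_neg]

theorem xP_opp (t : SgnQ R) : xP ha (D.P.reflectionPerm a a, t) = (a, t) := by
  refine (xP_of_hasN ha (M := -1) (D.P.reflectionPerm_self a a) ?_ t).trans (Prod.ext rfl (by rw [cls_neg_one]; exact one_mul t))
  have h := hasN_opp g D (root_oppIdx a) ha
  rwa [Units.val_neg]

variable (g D) in
/-- the constant of a pair of opposite roots -/
def kC (c : D.idx) : Rˣ := (exists_dual D g c).choose_spec.2.unit

variable (g D) in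
theorem kC_spec (c : D.idx) : Dual g D c (D.P.reflectionPerm c c) ((kC g D c : Rˣ) : R) := by
  rw [kC, IsUnit.unit_spec]; exact (exists_dual D g c).choose_spec.1

theorem kC_eq_one {c : D.idx} (hc : Dual g D c (D.P.reflectionPerm c c) ((1 : Rˣ) : R)) : kC g D c = 1 :=
  Units.ext (Dual.unique g D (by rw [root_oppIdx, neg_neg]) (kC_spec g D c) hc)

variable (g D) in
/-- the opposite root with the inverse class -/
def negP (p : D.idx × SgnQ R) : D.idx × SgnQ R :=
  (D.P.reflectionPerm p.1 p.1, (cls (kC g D p.1) * p.2)⁻¹)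

include ha in
/-- the factors on a pair of opposite roots -/
theorem kC_step (c : D.idx) :
    kC g D (D.P.reflectionPerm a c) * nu ha c * nu ha (D.P.reflectionPerm c c) = kC g D c := by
  set d := D.P.reflectionPerm a c
  have ed : D.P.reflectionPerm a (D.P.reflectionPerm c c) = D.P.reflectionPerm d d := D.P.root.injective (by
    rw [root_refl_opp' (root_oppIdx c) a, root_oppIdx])
  have h := pair_factor (g := g) (D := D) (root_oppIdx d) (kC_spec g D c) (kC_spec g D d) (wP g D a) (nu ha c)
    (nu ha (D.P.reflectionPerm c c)) (fun B _ _ x => by rw [pmap_toBase_wPt]; exact nu_spec ha c B x)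
    (fun B _ _ x => by rw [pmap_toBase_wPt, ← ed]; exact nu_spec ha (D.P.reflectionPerm c c) B x)
    (fun B _ _ z => by rw [pmap_toBase_wPt, wPt_tPt g D (root_oppIdx a) ha, cor_comp_refl])
  exact h
where
  root_refl_opp' {c c' : D.idx} (h : D.P.root c' = -D.P.root c) (i : D.idx) :
      D.P.root (D.P.reflectionPerm i c') = -D.P.root (D.P.reflectionPerm i c) := by
    rw [D.P.root_reflectionPerm, D.P.root_reflectionPerm, h, map_neg]

include ha in
theorem xP_negP (p : D.idx × SgnQ R) : xP ha (negP g D p) = negP g D (xP ha p) := by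
  obtain ⟨c, t⟩ := p
  simp only [negP, xP_apply]
  refine Prod.ext ?_ ?_
  · exact D.P.root.injective (by
      rw [kC_step.root_refl_opp' (root_oppIdx c) a, root_oppIdx])
  · dsimp only
    rw [← kC_step ha c, map_mul cls, map_mul cls]
    exact step_aux (cls (kC g D (D.P.reflectionPerm a c))) (cls (nu ha c)) (cls (nu ha (D.P.reflectionPerm c c))) t

end step

end Groth.Agent.H21Split.R2
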