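import Groth.Agent.H21Root.DomHom
import Groth.Agent.H21Split.R2.Roots

/-!
The order of the product of two reflections.
-/

namespace Groth.Agent.H21Split.R2

open RootPairing Groth.Agent.H21Root

set_option linter.style.haveILetI false
set_option linter.unusedSectionVars false

variable {ι M N : Type} [Finite ι] [AddCommGroup M] [AddCommGroup N] {P : RootPairing ι ℤ M N}
variable {a b : ι} {m : ℤ}

/-- the product of two reflections on the weights -/
theorem sr_mul_sr_smul (hA : P.pairing b a = -m) (v : M) :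
    (sr P a * sr P b) • v =
      v - (P.coroot' a v + m * P.coroot' b v) • P.root a - P.coroot' b v • P.root b := by
  rw [mul_smul, sr_smul_weight, sr_smul_weight,
    map_sub, map_zsmul, P.root_coroot'_eq_pairing, hA, smul_eq_mul]
  module

theorem sr_mul_sr_smul_comb (hA : P.pairing b a = -m) (hB : P.pairing a b = -1) (i j : ℤ) :
    (sr P a * sr P b) • (i • P.root a + j • P.root b) =
      ((m - 1) * i - m * j) • P.root a + (i - j) • P.root b := by
  rw [sr_mul_sr_smul hA, coroot_a P hA, coroot_b P hB]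
  module

theorem orderOf_eq_two (hA : P.pairing b a = 0) (hB : P.pairing a b = 0) : orderOf (sr P a * sr P b) = 2 := by
  have h2 : (sr P a * sr P b) ^ 2 = 1 := aut_ext P fun v => by
    simp only [pow_succ, pow_zero, one_mul, one_smul, mul_smul _ (sr P a * sr P b),
      sr_mul_sr_smul (m := 0) (by rw [hA]; norm_num), map_sub, map_zsmul, P.root_coroot'_eq_pairing, P.pairing_same,
      hA, hB, smul_eq_mul]
    module
  refine orderOf_eq_prime h2 fun h => ?_
  haveI : Module.IsReflexive ℤ M := .of_isPerfPair P.toLinearMap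
  haveI : IsAddTorsionFree M := .of_isTorsionFree ℤ M
  have h1 := congrArg (fun x : P.Aut => x • P.root a) h
  simp only [sr_mul_sr_smul (m := 0) (show P.pairing b a = -0 by rw [hA]; norm_num), P.root_coroot'_eq_pairing,
    P.pairing_same, hB, one_smul] at h1
  have h3 : (2 : ℤ) • P.root a = 0 := by rw [← sub_eq_zero.mpr h1.symm]; module
  exact P.ne_zero a ((smul_eq_zero.mp h3).resolve_left two_ne_zero)

theorem pow_smul_root (hA : P.pairing b a = -m) (hB : P.pairing a b = -1) :
    ∀ k : ℕ, (sr P a * sr P b) ^ k • P.root a =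
      ((fun p : ℤ × ℤ => ((m - 1) * p.1 - m * p.2, p.1 - p.2))^[k] (1, 0)).1 • P.root a +
        ((fun p : ℤ × ℤ => ((m - 1) * p.1 - m * p.2, p.1 - p.2))^[k] (1, 0)).2 • P.root b
  | 0 => by simp
  | k + 1 => by
    rw [pow_succ', mul_smul _ ((sr P a * sr P b) ^ k), pow_smul_root hA hB k, sr_mul_sr_smul_comb hA hB,
      Function.iterate_succ_apply']

theorem pow_ne_one (hA : P.pairing b a = -m) (hB : P.pairing a b = -1) (hm : m ≠ 4) (k : ℕ) (i j : ℤ)
    (hk : (sr P a * sr P b) ^ k • P.root a = i • P.root a + j • P.root b) (hne : i ≠ 1 ∨ j ≠ 0) :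
    (sr P a * sr P b) ^ k ≠ 1 := fun h => by
  rw [h, one_smul] at hk
  have := comb_inj P hA hB hm (i := 1) (j := 0) (by simpa using hk)
  omega

theorem orderOf_A2 (hA : P.pairing b a = -1) (hB : P.pairing a b = -1) : orderOf (sr P a * sr P b) = 3 := by
  refine orderOf_eq_prime (aut_ext P fun v => ?_) ?_
  · simp only [pow_succ, pow_zero, one_mul, one_smul, mul_smul _ (sr P a * sr P b),
      sr_mul_sr_smul hA, map_sub, map_zsmul, P.root_coroot'_eq_pairing, P.pairing_same, hA, hB, smul_eq_mul]
    module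
  · simpa using pow_ne_one hA hB (by norm_num) 1 _ _ (pow_smul_root hA hB 1) (by norm_num)

theorem orderOf_B2 (hA : P.pairing b a = -2) (hB : P.pairing a b = -1) : orderOf (sr P a * sr P b) = 4 := by
  have h4 : (sr P a * sr P b) ^ 4 = 1 := aut_ext P fun v => by
    simp only [pow_succ, pow_zero, one_mul, one_smul, mul_smul _ (sr P a * sr P b),
      sr_mul_sr_smul hA, map_sub, map_zsmul, P.root_coroot'_eq_pairing, P.pairing_same, hA, hB, smul_eq_mul]
    module
  have h2 : (sr P a * sr P b) ^ 2 ≠ 1 := pow_ne_one hA hB (by norm_num) 2 _ _ (pow_smul_root hA hB 2) (by norm_num)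
  simpa using orderOf_eq_prime_pow (p := 2) (n := 1) (by simpa using h2) (by simpa using h4)

theorem orderOf_G2 (hA : P.pairing b a = -3) (hB : P.pairing a b = -1) : orderOf (sr P a * sr P b) = 6 := by
  have h6 : (sr P a * sr P b) ^ 6 = 1 := aut_ext P fun v => by
    simp only [pow_succ, pow_zero, one_mul, one_smul, mul_smul _ (sr P a * sr P b),
      sr_mul_sr_smul hA, map_sub, map_zsmul, P.root_coroot'_eq_pairing, P.pairing_same, hA, hB, smul_eq_mul]
    module
  have hne : ∀ k : ℕ, k = 1 ∨ k = 2 ∨ k = 3 → (sr P a * sr P b) ^ k ≠ 1 := by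
    rintro k (rfl | rfl | rfl) <;> exact pow_ne_one hA hB (by norm_num) _ _ _ (pow_smul_root hA hB _) (by norm_num)
  refine (orderOf_eq_iff (by norm_num)).mpr ⟨h6, fun k hk hk0 h => ?_⟩
  have hd : orderOf (sr P a * sr P b) ∣ Nat.gcd k 6 :=
    Nat.dvd_gcd (orderOf_dvd_of_pow_eq_one h) (orderOf_dvd_of_pow_eq_one h6)
  have hg := orderOf_dvd_iff_pow_eq_one.mp hd
  refine hne (Nat.gcd k 6) ?_ hg
  interval_cases k <;> decide

end Groth.Agent.H21Split.R2
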