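import Groth.Agent.H21Split.R2.G2Form

/-!
The setting of a pinned group at a test ring: duality, Weyl points and the factors of their conjugations.
-/

open CategoryTheory MonoidalCategory CartesianMonoidalCategory MonObj GrpObj AlgebraicGeometry
open Groth.Agent.H27Witt.GaCoord (gaFn_comp gaFn_injective gaFn_one)

universe u

set_option backward.isDefEq.respectTransparency false
set_option linter.style.haveILetI false
set_option linter.unusedSectionVars false
set_option synthInstance.maxHeartbeats 400000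

noncomputable section

namespace Groth.Agent.H21Split.R2

variable {S : Scheme.{u}} {G : Over S} [GrpObj G] (D : Red.SplitRed G)

/-- the duality of a pair of opposite roots with constant one, on all schemes -/
def Pair1 (a : D.idx) (av : Red.Gm S ⟶ D.T) : Prop :=
  ∀ (X : Over S) (x y : X ⟶ Red.Ga S), IsUnit (1 + Red.gaFn x * Red.gaFn y) →
    ∃ (x' y' : X ⟶ Red.Ga S) (z : X ⟶ Red.Gm S), Red.gmFn z = 1 + Red.gaFn x * Red.gaFn y ∧
      Red.gaFn x' * Red.gmFn z = Red.gaFn x ∧ Red.gaFn y' * Red.gmFn z = Red.gaFn y ∧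
      (x ≫ D.u a) * (y ≫ D.u (D.P.reflectionPerm a a)) =
        (y' ≫ D.u (D.P.reflectionPerm a a)) * (z ≫ av ≫ D.i) * (x' ≫ D.u a)

variable {R : Type u} [CommRing R] (g : Spec (CommRingCat.of R) ⟶ S)

theorem root_opp (a : D.idx) : D.P.root (D.P.reflectionPerm a a) = -D.P.root a := by
  rw [D.P.root_reflectionPerm, D.P.reflection_apply_self]

theorem dual_of_pair1 {a : D.idx} {av : Red.Gm S ⟶ D.T}
    (hav : av = Red.DSmap S (D.P.coroot a).toAddMonoidHom ≫ D.split.inv.hom.hom) (h : Pair1 D a av) :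
    Dual g D a (D.P.reflectionPerm a a) ((1 : Rˣ) : R) := by
  intro B _ _ ξ ζ z hz
  have hu : IsUnit (1 + Red.gaFn (ga g ξ) * Red.gaFn (ga g ζ)) := by
    have h1 : IsUnit (1 + ξ * ζ) := ⟨z, by rw [hz, Units.val_one, map_one, _root_.one_mul]⟩
    rw [gaFn_eq_of_gv g (gv_ga g ξ), gaFn_eq_of_gv g (gv_ga g ζ)]
    simpa only [map_add, map_one, map_mul] using h1.map (Scheme.ΓSpecIso (CommRingCat.of B)).inv.hom
  obtain ⟨x', y', t, ht, hx', hy', he⟩ := h (pt g B) (ga g ξ) (ga g ζ) hu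
  have hφ : ∀ s : Γ((pt g B).left, ⊤), (Scheme.ΓSpecIso (CommRingCat.of B)).hom s =
      (Scheme.ΓSpecIso (CommRingCat.of B)).hom s := fun _ => rfl
  have hg : ∀ w : pt g B ⟶ Red.Ga S, gv g w = (Scheme.ΓSpecIso (CommRingCat.of B)).hom (Red.gaFn w) := gv_def g
  have hzt : gmv g t = (z : B) := by
    rw [gmv, ht, map_add, map_one, map_mul, ← hg, ← hg, gv_ga, gv_ga, hz, Units.val_one, map_one, _root_.one_mul]
  have hxv : gv g x' = ↑z⁻¹ * ξ := by
    have := congrArg (Scheme.ΓSpecIso (CommRingCat.of B)).hom hx'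
    rw [map_mul, ← hg, ← hg, gv_ga] at this
    rw [← this, show (Scheme.ΓSpecIso (CommRingCat.of B)).hom (Red.gmFn t) = (z : B) from hzt]
    linear_combination -(gv g x') * z.mul_inv
  have hyv : gv g y' = ↑z⁻¹ * ζ := by
    have := congrArg (Scheme.ΓSpecIso (CommRingCat.of B)).hom hy'
    rw [map_mul, ← hg, ← hg, gv_ga] at this
    rw [← this, show (Scheme.ΓSpecIso (CommRingCat.of B)).hom (Red.gmFn t) = (z : B) from hzt]
    linear_combination -(gv g y') * z.mul_inv
  rw [← ga_gv g x', ← ga_gv g y', hxv, hyv, hav, coroot_pt D g a t z hzt] at he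
  exact he

variable [IsAffineHom G.hom]

/-- the factor of the Weyl point on a root group -/
theorem exists_hasN [D.P.IsReduced] {a a' : D.idx} {k : Rˣ} (ha : D.P.root a' = -D.P.root a)
    (hk : Dual g D a a' (k : R)) {d d' : D.idx} (hd : D.P.reflectionPerm a d = d') :
    ∃ N : Rˣ, HasN g D a a' k d d' (N : R) := by
  obtain ⟨N, hN, -⟩ := existsUnique_conj_core g D a d (two_smul_notMem D _) (actsBy_wPt g D ha hk)
  obtain ⟨N', hN', -⟩ := existsUnique_conj_core g D a d' (two_smul_notMem D _) (actsBy_wPt g D ha hk)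
  have h1 : HasN g D a a' k d d' N := fun B _ _ x => by rw [← hd, ← pmap_toBase_wPt]; exact hN B x
  have h2 : HasN g D a a' k d' d N' := fun B _ _ x => by
    rw [show d = D.P.reflectionPerm a d' by rw [← hd, D.P.reflectionPerm_self], ← pmap_toBase_wPt]; exact hN' B x
  have hu : IsUnit (N' * N) := ⟨_, (HasN.round g D ha hk h1 h2).symm⟩
  exact ⟨(isUnit_of_mul_isUnit_right hu).unit, h1⟩

theorem root_refl {a b : D.idx} {i j : ℤ} {c : D.idx} (hc : D.P.root c = i • D.P.root a + j • D.P.root b) (d : D.idx) :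
    D.P.root (D.P.reflectionPerm d c) = i • D.P.root a + j • D.P.root b - D.P.pairing c d • D.P.root d := by
  rw [D.P.root_reflectionPerm, D.P.reflection_apply_root, hc]

section

variable [D.P.IsReduced] {a b : D.idx}

/-- the data of G₂ -/
theorem exists_g2Data {a' b' : D.idx} {ka kb : Rˣ} (ha' : D.P.root a' = -D.P.root a) (hb' : D.P.root b' = -D.P.root b)
    (hka : Dual g D a a' (ka : R)) (hkb : Dual g D b b' (kb : R)) (hA : D.P.pairing b a = -3)
    (hB : D.P.pairing a b = -1) :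
    ∃ T : G2Data g D, T.a = a ∧ T.b = b ∧ T.a' = a' ∧ T.b' = b' ∧ T.ka = ka ∧ T.kb = kb ∧
      T.e = D.P.reflectionPerm b a ∧ T.q = D.P.reflectionPerm a b := by
  haveI := D.fintypeIdx
  haveI : Finite D.idx := Finite.of_fintype _
  set e := D.P.reflectionPerm b a with he'
  set q := D.P.reflectionPerm a b with hq'
  have he : D.P.root e = (1 : ℤ) • D.P.root a + (1 : ℤ) • D.P.root b := by
    rw [he', D.P.root_reflectionPerm, D.P.reflection_apply_root, hB]; module
  have hq : D.P.root q = (3 : ℤ) • D.P.root a + (1 : ℤ) • D.P.root b := by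
    rw [hq', D.P.root_reflectionPerm, D.P.reflection_apply_root, hA]; module
  have pa : D.P.pairing e a = -1 := by
    rw [← D.P.root_coroot'_eq_pairing, he, coroot_a D.P hA]; norm_num
  have pb : D.P.pairing q b = -1 := by
    rw [← D.P.root_coroot'_eq_pairing, hq, coroot_b D.P hB]; norm_num
  have hf : D.P.root (D.P.reflectionPerm a e) = (2 : ℤ) • D.P.root a + (1 : ℤ) • D.P.root b := by
    rw [D.P.root_reflectionPerm, D.P.reflection_apply_root, pa, he]; module
  have hh : D.P.root (D.P.reflectionPerm b q) = (3 : ℤ) • D.P.root a + (2 : ℤ) • D.P.root b := by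
    rw [D.P.root_reflectionPerm, D.P.reflection_apply_root, pb, hq]; module
  obtain ⟨N, hN⟩ := exists_hasN D g ha' hka hq'.symm
  obtain ⟨P, hP⟩ := exists_hasN D g ha' hka (d := e) rfl
  obtain ⟨M, hM⟩ := exists_hasN D g hb' hkb he'.symm
  obtain ⟨Q, hQ⟩ := exists_hasN D g hb' hkb (d := q) rfl
  exact ⟨⟨a, b, a', b', e, D.P.reflectionPerm a e, q, D.P.reflectionPerm b q, ka, kb, M, N, P, Q, hA, hB, ha', hb', he,
    hf, hq, hh, hka, hkb, hN, hP, hM, hQ⟩, rfl, rfl, rfl, rfl, rfl, rfl, rfl, rfl⟩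

end

section points

variable {X : Over S} (j : pt g R ⟶ X)

theorem comp_u (x : X ⟶ Red.Ga S) (a : D.idx) : j ≫ x ≫ D.u a = uPt g D a (gv g (j ≫ x)) := by
  rw [uPt, ga_gv, Category.assoc]

theorem gv_comp_mul {x y z : X ⟶ Red.Ga S} (h : Red.gaFn z = Red.gaFn x * Red.gaFn y) :
    gv g (j ≫ z) = gv g (j ≫ x) * gv g (j ≫ y) := by
  simp only [gv_def, gaFn_comp, h, map_mul]

/-- the values of functions at a point -/
def evPt : Γ(X.left, ⊤) →+* R := (j.left.appTop ≫ (Scheme.ΓSpecIso (CommRingCat.of R)).hom).hom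

theorem gv_comp (x : X ⟶ Red.Ga S) : gv g (j ≫ x) = evPt g j (Red.gaFn x) := by
  rw [gv_def, gaFn_comp]; rfl

/-- the Weyl point of a pinned group at a point -/
theorem comp_weyl (e₁ : 𝟙_ (Over S) ⟶ Red.Ga S) (he₁ : Red.gaFn e₁ = 1) (a : D.idx) :
    j ≫ toUnit X ≫ ((e₁ ≫ D.u a) * (e₁ ≫ D.u (D.P.reflectionPerm a a))⁻¹ * (e₁ ≫ D.u a)) =
      wPt g D a (D.P.reflectionPerm a a) 1 R := by
  have h1 : gv g ((j ≫ toUnit X) ≫ e₁) = 1 := by
    rw [Category.assoc, gv_comp, gaFn_comp, he₁, map_one, map_one]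
  rw [← Category.assoc, MonObj.comp_mul, MonObj.comp_mul, GrpObj.comp_inv]
  simp only [← Category.assoc]
  rw [← ga_gv g ((j ≫ toUnit X) ≫ e₁), h1, ← uPt, ← uPt, wPt, inv_one, Units.val_one, map_one, uPt_neg]

end points

end Groth.Agent.H21Split.R2
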