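import Groth.Agent.H21Split.R2.Mono
import Groth.Agent.H21Split.R2.Coxeter2
import Groth.Agent.H21Split.R2.PairOrder

/-!
Two simple roots: the relation of their Weyl points on root groups up to sign, and a stable set.
-/

open CategoryTheory MonoidalCategory CartesianMonoidalCategory MonObj GrpObj AlgebraicGeometry
open Groth.Agent.H21Root (sr)

universe u

set_option backward.isDefEq.respectTransparency false
set_option linter.style.haveILetI false
set_option linter.unusedSectionVars false
set_option linter.unusedSimpArgs false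
set_option synthInstance.maxHeartbeats 400000

noncomputable section

namespace Groth.Agent.H21Split.R2

variable {S : Scheme.{u}} {R : Type u} [CommRing R] (g : Spec (CommRingCat.of R) ⟶ S)
variable {G : Over S} [GrpObj G] (D : Red.SplitRed G)

/-- the action of an automorphism on the roots -/
abbrev toP : D.P.Aut →* Equiv.Perm D.idx := MulAction.toPermHom D.P.Aut D.idx

theorem toP_sr (a : D.idx) : toP D (sr D.P a) = D.P.reflectionPerm a :=
  Equiv.ext fun _ => rfl

variable {g D} [IsAffineHom G.hom] [D.P.IsReduced]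
variable {a s : D.idx} (ha : Dual g D a (D.P.reflectionPerm a a) ((1 : Rˣ) : R))
  (hs : Dual g D s (D.P.reflectionPerm s s) ((1 : Rˣ) : R))

theorem q_one_mul (t : SgnQ R) : (1 : SgnQ R) * t = t := _root_.one_mul t

theorem q_mul_one (t : SgnQ R) : t * (1 : SgnQ R) = t := _root_.mul_one t

include ha in
theorem xP_mul_self : xP ha * xP ha = 1 := by
  haveI := D.fintypeIdx
  haveI : Finite D.idx := Finite.of_fintype _
  have h1 := (good_wP ha).mul (good_wP ha)
  have h2 : (D.P.reflectionPerm a * D.P.reflectionPerm a : Equiv.Perm D.idx) = 1 :=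
    Equiv.ext fun c => D.P.reflectionPerm_self a c
  rw [wP, wPt_sq g D (root_oppIdx a) ha, cor_eq_tor_left (R := R) D a a, h2] at h1
  exact h1.unique (good_tor a a 1 0)

/-- a list of pairs whose union with the opposite pairs is stable -/
structure StableList (P0 : List (D.idx × SgnQ R)) : Prop where
  memA : (a, (1 : SgnQ R)) ∈ P0
  memS : (s, (1 : SgnQ R)) ∈ P0
  one : ∀ p ∈ P0, p.1 = a ∨ p.1 = s → p.2 = 1
  pos : ∀ p ∈ P0, D.P.reflectionPerm p.1 p.1 ≠ a ∧ D.P.reflectionPerm p.1 p.1 ≠ s
  stepA : ∀ p ∈ P0, p ≠ (a, 1) → xP ha p ∈ P0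
  stepS : ∀ p ∈ P0, p ≠ (s, 1) → xP hs p ∈ P0

/-- the two conclusions for a pair of simple roots -/
structure PairRel : Prop where
  cox : (xP ha * xP hs) ^ orderOf (sr D.P a * sr D.P s) = 1
  stable : ∀ v ∈ Subgroup.closure ({xP ha, xP hs} : Set (Equiv.Perm (D.idx × SgnQ R))), ∀ d, d = a ∨ d = s →
    (v (d, 1)).1 = a ∨ (v (d, 1)).1 = s → (v (d, 1)).2 = 1

omit ha hs in
theorem mapsTo_of_list {x : D.idx} (hx : Dual g D x (D.P.reflectionPerm x x) ((1 : Rˣ) : R))
    {P0 : List (D.idx × SgnQ R)} (h : ∀ p ∈ P0, p ≠ (x, 1) → xP hx p ∈ P0) (hmem : (x, (1 : SgnQ R)) ∈ P0)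
    (p : D.idx × SgnQ R) (hp : p ∈ P0 ∨ ∃ q ∈ P0, p = negP g D q) :
    xP hx p ∈ P0 ∨ ∃ q ∈ P0, xP hx p = negP g D q := by
  classical
  have hneg : negP g D (x, (1 : SgnQ R)) = (D.P.reflectionPerm x x, 1) := by
    refine Prod.ext rfl ?_
    change (cls (kC g D x) * 1 : SgnQ R)⁻¹ = 1
    rw [kC_eq_one hx, map_one]
    exact inv_eq_one.mpr (q_one_mul 1)
  rcases hp with hp | ⟨q, hq, rfl⟩
  · by_cases hpx : p = (x, 1)
    · subst hpx
      exact Or.inr ⟨_, hp, by rw [xP_self, hneg]⟩
    · exact Or.inl (h p hp hpx)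
  · by_cases hqx : q = (x, 1)
    · subst hqx
      left
      rw [hneg, xP_opp]
      exact hmem
    · exact Or.inr ⟨_, h q hq hqx, xP_negP hx q⟩

theorem stable_of_list {P0 : List (D.idx × SgnQ R)} (h : StableList ha hs P0)
    (v : Equiv.Perm (D.idx × SgnQ R)) (hv : v ∈ Subgroup.closure ({xP ha, xP hs} : Set _))
    (d : D.idx) (hd : d = a ∨ d = s) (he : (v (d, 1)).1 = a ∨ (v (d, 1)).1 = s) : (v (d, 1)).2 = 1 := by
  let K : D.idx × SgnQ R → Prop := fun p => p ∈ P0 ∨ ∃ q ∈ P0, p = negP g D q
  have hA : ∀ p, K p → K (xP ha p) := mapsTo_of_list ha h.stepA h.memA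
  have hS : ∀ p, K p → K (xP hs p) := mapsTo_of_list hs h.stepS h.memS
  have hK : ∀ v ∈ Subgroup.closure ({xP ha, xP hs} : Set (Equiv.Perm (D.idx × SgnQ R))), ∀ p, K p → K (v p) := by
    intro v hv
    induction hv using Subgroup.closure_induction'' with
    | mem x hx => rcases hx with rfl | rfl; exacts [hA, hS]
    | inv_mem x hx =>
      rcases hx with rfl | rfl
      · rw [inv_eq_of_mul_eq_one_right (xP_mul_self ha)]; exact hA
      · rw [inv_eq_of_mul_eq_one_right (xP_mul_self hs)]; exact hS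
    | one => exact fun p hp => hp
    | mul x y _ _ hx hy => exact fun p hp => hx _ (hy p hp)
  have hd1 : K (d, 1) := by rcases hd with rfl | rfl; exacts [Or.inl h.memA, Or.inl h.memS]
  rcases hK v hv _ hd1 with h1 | ⟨q, hq, h1⟩
  · exact h.one _ h1 he
  · rw [h1] at he
    obtain ⟨h2, h3⟩ := h.pos q hq
    rcases he with he | he
    · exact absurd he h2
    · exact absurd he h3

/-- a list given by coordinates meets the two requirements on first components -/
theorem coord_conditions (hind : ∀ i j : ℤ, i • D.P.root a + j • D.P.root s = 0 → i = 0 ∧ j = 0)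
    {P0 : List (D.idx × SgnQ R)}
    (h : ∀ p ∈ P0, ∃ i j : ℤ, D.P.root p.1 = i • D.P.root a + j • D.P.root s ∧ 0 ≤ i ∧ 0 ≤ j ∧ 1 ≤ i + j ∧
      (i + j = 1 → p.2 = 1)) :
    (∀ p ∈ P0, p.1 = a ∨ p.1 = s → p.2 = 1) ∧
      ∀ p ∈ P0, D.P.reflectionPerm p.1 p.1 ≠ a ∧ D.P.reflectionPerm p.1 p.1 ≠ s := by
  refine ⟨fun p hp he => ?_, fun p hp => ?_⟩
  all_goals obtain ⟨i, j, hr, hi, hj, hij, h1⟩ := h p hp
  · refine h1 ?_
    rcases he with he | he <;> rw [he] at hr
    · obtain ⟨e1, e2⟩ := hind (i - 1) j (by rw [sub_smul, one_smul]; rw [sub_add_eq_add_sub, ← hr, sub_self])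
      omega
    · obtain ⟨e1, e2⟩ := hind i (j - 1) (by rw [sub_smul, one_smul, ← add_sub_assoc, ← hr, sub_self])
      omega
  · constructor <;> intro he
    · have h0 := root_oppIdx (D := D) p.1
      rw [he, hr] at h0
      obtain ⟨e1, e2⟩ := hind (1 + i) j (by linear_combination (norm := module) h0)
      omega
    · have h0 := root_oppIdx (D := D) p.1
      rw [he, hr] at h0
      obtain ⟨e1, e2⟩ := hind i (1 + j) (by linear_combination (norm := module) h0)
      omega

theorem cox_of_torus (n : ℕ) (hn : orderOf (sr D.P a * sr D.P s) = n) (i j : ℤ)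
    (h : (wP g D a * wP g D s) ^ n = tPt g D (tor D a s i j R (R := R))) : (xP ha * xP hs) ^ n = 1 := by
  have h1 := ((good_wP ha).mul (good_wP hs)).pow n
  rw [h] at h1
  have h2 : (D.P.reflectionPerm a * D.P.reflectionPerm s : Equiv.Perm D.idx) ^ n = 1 := by
    rw [← toP_sr, ← toP_sr, ← map_mul, ← map_pow, ← hn, pow_orderOf_eq_one, map_one]
  rw [h2] at h1
  exact h1.unique (good_tor a s i j)

theorem back_mul (M : Rˣ) (t : SgnQ R) : cls (-M⁻¹) * (cls M * t) = t := by
  rw [cls_neg, map_inv]; exact inv_mul_cancel_left _ _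

/-- orthogonal simple roots -/
theorem pairRel_zero (hA : D.P.pairing s a = 0) (hB : D.P.pairing a s = 0)
    (hind : ∀ i j : ℤ, i • D.P.root a + j • D.P.root s = 0 → i = 0 ∧ j = 0)
    (hsub : D.P.root s - D.P.root a ∉ Set.range D.P.root) : PairRel ha hs := by
  haveI := D.fintypeIdx
  haveI : Finite D.idx := Finite.of_fintype _
  have hp : D.P.root a + D.P.root s ∉ Set.range D.P.root := fun ⟨r, hr⟩ => hsub ⟨D.P.reflectionPerm a r, by
    rw [D.P.root_reflectionPerm, D.P.reflection_apply_root, ← D.P.root_coroot'_eq_pairing, hr, map_add,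
      D.P.root_coroot'_eq_pairing, D.P.root_coroot'_eq_pairing, D.P.pairing_same, hA]
    module⟩
  have hsub' : D.P.root a - D.P.root s ∉ Set.range D.P.root := fun ⟨r, hr⟩ =>
    hsub ⟨D.P.reflectionPerm r r, by rw [root_oppIdx, hr, neg_sub]⟩
  have n1 : D.P.root a + D.P.root s ≠ 0 := fun h => by
    have := hind 1 1 (by simpa using h); omega
  have n2 : D.P.root s - D.P.root a ≠ 0 := fun h => by
    have := hind (-1) 1 (by rw [← h]; module); omega
  have fA : HasN g D a (D.P.reflectionPerm a a) 1 s s ((1 : Rˣ) : R) := by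
    rw [Units.val_one]; exact hasN_fix g D (root_oppIdx a) ha n1 hp n2 hsub
  have fS : HasN g D s (D.P.reflectionPerm s s) 1 a a ((1 : Rˣ) : R) := by
    rw [Units.val_one]
    exact hasN_fix g D (root_oppIdx s) hs (by rwa [add_comm]) (by rwa [add_comm])
      (fun h => n2 (by rw [← neg_sub, h, neg_zero])) hsub'
  have eAs : D.P.reflectionPerm a s = s := D.P.root.injective (by
    rw [D.P.root_reflectionPerm, D.P.reflection_apply_root, hA, zero_smul, sub_zero])
  have eSa : D.P.reflectionPerm s a = a := D.P.root.injective (by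
    rw [D.P.root_reflectionPerm, D.P.reflection_apply_root, hB, zero_smul, sub_zero])
  constructor
  · rw [orderOf_eq_two hA hB]
    refine cox_of_torus ha hs 2 (orderOf_eq_two hA hB) 1 1 ?_
    have hc : wP g D a * wP g D s = wP g D s * wP g D a := by
      have h := wPt_conj_wPt g D (root_oppIdx s) hs hs (wP g D a) 1 (nu ha (D.P.reflectionPerm s s))
        (fun B _ _ x => by rw [pmap_toBase_wPt]; exact fA B x)
        (fun B _ _ x => by
          rw [pmap_toBase_wPt]
          have := nu_spec ha (D.P.reflectionPerm s s) B x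
          rwa [show D.P.reflectionPerm a (D.P.reflectionPerm s s) = D.P.reflectionPerm s s from D.P.root.injective (by
            rw [root_refl_opp D (root_oppIdx s), eAs, root_oppIdx])] at this)
        (fun B _ _ z => by rw [pmap_toBase_wPt, wPt_cor g D (root_oppIdx a) ha, eAs])
      rw [cor_one, tPt_one, _root_.one_mul, mul_inv_eq_iff_eq_mul] at h
      exact h
    calc (wP g D a * wP g D s) ^ 2 = wP g D a * wP g D a * (wP g D s * wP g D s) := by
          rw [(show Commute (wP g D a) (wP g D s) from hc).mul_pow, pow_two, pow_two]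
      _ = _ := by
          rw [wP, wP, wPt_sq g D (root_oppIdx a) ha, wPt_sq g D (root_oppIdx s) hs, ← tPt_mul, tor, zpow_one]
  · obtain ⟨c1, c2⟩ := coord_conditions hind (P0 := [(a, (1 : SgnQ R)), (s, 1)]) (by
      simp only [List.forall_mem_cons]
      exact ⟨⟨1, 0, by simp, by norm_num, le_rfl, by norm_num, fun _ => trivial⟩,
        ⟨0, 1, by simp, le_rfl, by norm_num, by norm_num, fun _ => trivial⟩, fun _ h => absurd h List.not_mem_nil⟩)
    refine fun v hv d hd he => stable_of_list ha hs ⟨by simp, by simp, c1, c2, ?_, ?_⟩ v hv d hd he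
    · simp only [List.forall_mem_cons]
      refine ⟨fun h => absurd rfl h, fun _ => ?_, fun _ h => absurd h List.not_mem_nil⟩
      rw [xP_of_hasN ha eAs fA, map_one]
      exact List.mem_cons_of_mem _ (List.mem_singleton.mpr (Prod.ext rfl (q_one_mul 1)))
    · simp only [List.forall_mem_cons]
      refine ⟨fun _ => ?_, fun h => absurd rfl h, fun _ h => absurd h List.not_mem_nil⟩
      rw [xP_of_hasN hs eSa fS, map_one, List.mem_cons]
      exact Or.inl (Prod.ext rfl (q_one_mul 1))

/-- type A₂ -/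
theorem pairRel_A2 (hA : D.P.pairing s a = -1) (hB : D.P.pairing a s = -1)
    (hsub : D.P.root s - D.P.root a ∉ Set.range D.P.root) : PairRel ha hs := by
  haveI := D.fintypeIdx
  haveI : Finite D.idx := Finite.of_fintype _
  obtain ⟨T, rfl, rfl, hTa', hTb', hTka, hTkb, -⟩ :=
    exists_a2Data D g (root_oppIdx a) (root_oppIdx s) ha hs hA hB hsub
  have nAb : HasN g D T.a (D.P.reflectionPerm T.a T.a) 1 T.b T.e (T.N : R) := by
    rw [← hTa', ← hTka]; exact T.nAb
  have nBa : HasN g D T.b (D.P.reflectionPerm T.b T.b) 1 T.a T.e (T.M : R) := by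
    rw [← hTb', ← hTkb]; exact T.nBa
  have eab : D.P.reflectionPerm T.a T.b = T.e := D.P.root.injective (by
    rw [D.P.root_reflectionPerm, D.P.reflection_apply_root, hA, T.he]; module)
  have eba : D.P.reflectionPerm T.b T.a = T.e := D.P.root.injective (by
    rw [D.P.root_reflectionPerm, D.P.reflection_apply_root, hB, T.he]; module)
  have nAe : HasN g D T.a (D.P.reflectionPerm T.a T.a) 1 T.e T.b ((-T.N⁻¹ : Rˣ) : R) := by
    have h := nAb.symm' g D (root_oppIdx T.a) ha T.N rfl
    rwa [zpow_odd (by rw [hA]; decide), neg_one_mul] at h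
  have nBe : HasN g D T.b (D.P.reflectionPerm T.b T.b) 1 T.e T.a ((-T.M⁻¹ : Rˣ) : R) := by
    have h := nBa.symm' g D (root_oppIdx T.b) hs T.M rfl
    rwa [zpow_odd (by rw [hB]; decide), neg_one_mul] at h
  have eae : D.P.reflectionPerm T.a T.e = T.b := by rw [← eab, D.P.reflectionPerm_self]
  have ebe : D.P.reflectionPerm T.b T.e = T.a := by rw [← eba, D.P.reflectionPerm_self]
  constructor
  · rw [orderOf_A2 hA hB]
    refine cox_of_torus ha hs 3 (orderOf_A2 hA hB) 0 0 ?_
    rw [tor_zero, tPt_one]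
    have h := T.coxeter.1
    rwa [hTa', hTb', hTka, hTkb] at h
  · obtain ⟨c1, c2⟩ := coord_conditions (a := T.a) (s := T.b) (fun i j h => comb_eq_zero D.P hA hB (by norm_num) h)
      (P0 := [(T.a, (1 : SgnQ R)), (T.b, 1), (T.e, cls T.M)]) (by
      simp only [List.forall_mem_cons]
      exact ⟨⟨1, 0, by simp, by norm_num, le_rfl, by norm_num, fun _ => trivial⟩,
        ⟨0, 1, by simp, le_rfl, by norm_num, by norm_num, fun _ => trivial⟩,
        ⟨1, 1, T.he, by norm_num, by norm_num, by norm_num, fun h => absurd h (by norm_num)⟩,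
        fun _ h => absurd h List.not_mem_nil⟩)
    have hNM : cls T.N = cls T.M := by
      rw [show T.N = -T.M from Units.ext (by rw [Units.val_neg]; exact T.rel.1), cls_neg]
    refine fun v hv d hd he => stable_of_list ha hs ⟨by simp, by simp, c1, c2, ?_, ?_⟩ v hv d hd he
    · simp only [List.forall_mem_cons]
      refine ⟨fun h => absurd rfl h, fun _ => ?_, fun _ => ?_, fun _ h => absurd h List.not_mem_nil⟩
      · rw [xP_of_hasN ha eab nAb, hNM]
        simp [q_mul_one, q_one_mul]
      · rw [xP_of_hasN ha eae nAe, cls_neg, map_inv, hNM, inv_mul_cancel]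
        simp [q_mul_one, q_one_mul]
    · simp only [List.forall_mem_cons]
      refine ⟨fun _ => ?_, fun h => absurd rfl h, fun _ => ?_, fun _ h => absurd h List.not_mem_nil⟩
      · rw [xP_of_hasN hs eba nBa]
        simp [q_mul_one, q_one_mul]
      · rw [xP_of_hasN hs ebe nBe, cls_neg, map_inv, inv_mul_cancel]
        simp [q_mul_one, q_one_mul]

/-- type B₂ -/
theorem pairRel_B2 (hA : D.P.pairing s a = -2) (hB : D.P.pairing a s = -1) : PairRel ha hs := by
  haveI := D.fintypeIdx
  haveI : Finite D.idx := Finite.of_fintype _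
  obtain ⟨T, rfl, rfl, hTa', hTb', hTka, hTkb, -, -, hBf, -⟩ :=
    exists_b2Data D g (root_oppIdx a) (root_oppIdx s) ha hs hA hB
  have nAb : HasN g D T.a (D.P.reflectionPerm T.a T.a) 1 T.b T.f (T.N : R) := by
    rw [← hTa', ← hTka]; exact T.nAb
  have nAe : HasN g D T.a (D.P.reflectionPerm T.a T.a) 1 T.e T.e ((-1 : Rˣ) : R) := by
    have h := T.nAe
    rw [hTa', hTka, T.rel.1] at h
    rwa [Units.val_neg, Units.val_one]
  have nBa : HasN g D T.b (D.P.reflectionPerm T.b T.b) 1 T.a T.e (T.M : R) := by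
    rw [← hTb', ← hTkb]; exact T.nBa
  have nBf : HasN g D T.b (D.P.reflectionPerm T.b T.b) 1 T.f T.f ((1 : Rˣ) : R) := by
    rw [Units.val_one]; exact hBf
  have eab : D.P.reflectionPerm T.a T.b = T.f := D.P.root.injective (by
    rw [D.P.root_reflectionPerm, D.P.reflection_apply_root, hA, T.hf]; module)
  have eba : D.P.reflectionPerm T.b T.a = T.e := D.P.root.injective (by
    rw [D.P.root_reflectionPerm, D.P.reflection_apply_root, hB, T.he]; module)
  have pea : D.P.pairing T.e T.a = 0 := by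
    rw [← D.P.root_coroot'_eq_pairing, T.he, coroot_a D.P hA]; norm_num
  have pfb : D.P.pairing T.f T.b = 0 := by
    rw [← D.P.root_coroot'_eq_pairing, T.hf, coroot_b D.P hB]; norm_num
  have eae : D.P.reflectionPerm T.a T.e = T.e := D.P.root.injective (by
    rw [D.P.root_reflectionPerm, D.P.reflection_apply_root, pea, zero_smul, sub_zero])
  have ebf : D.P.reflectionPerm T.b T.f = T.f := D.P.root.injective (by
    rw [D.P.root_reflectionPerm, D.P.reflection_apply_root, pfb, zero_smul, sub_zero])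
  have nAf : HasN g D T.a (D.P.reflectionPerm T.a T.a) 1 T.f T.b ((T.N⁻¹ : Rˣ) : R) := by
    have h := nAb.symm' g D (root_oppIdx T.a) ha T.N rfl
    rwa [zpow_even (by rw [hA]; decide), _root_.one_mul] at h
  have nBe : HasN g D T.b (D.P.reflectionPerm T.b T.b) 1 T.e T.a ((-T.M⁻¹ : Rˣ) : R) := by
    have h := nBa.symm' g D (root_oppIdx T.b) hs T.M rfl
    rwa [zpow_odd (by rw [hB]; decide), neg_one_mul] at h
  have eaf : D.P.reflectionPerm T.a T.f = T.b := by rw [← eab, D.P.reflectionPerm_self]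
  have ebe : D.P.reflectionPerm T.b T.e = T.a := by rw [← eba, D.P.reflectionPerm_self]
  constructor
  · rw [orderOf_B2 hA hB]
    refine cox_of_torus ha hs 4 (orderOf_B2 hA hB) 1 0 ?_
    rw [← cor_eq_tor_left (R := R) D T.a T.b]
    have h := T.coxeter.1
    rwa [hTa', hTb', hTka, hTkb] at h
  · obtain ⟨c1, c2⟩ := coord_conditions (a := T.a) (s := T.b) (fun i j h => comb_eq_zero D.P hA hB (by norm_num) h)
      (P0 := [(T.a, (1 : SgnQ R)), (T.b, 1), (T.e, cls T.M), (T.f, cls T.N)]) (by
      simp only [List.forall_mem_cons]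
      exact ⟨⟨1, 0, by simp, by norm_num, le_rfl, by norm_num, fun _ => trivial⟩,
        ⟨0, 1, by simp, le_rfl, by norm_num, by norm_num, fun _ => trivial⟩,
        ⟨1, 1, T.he, by norm_num, by norm_num, by norm_num, fun h => absurd h (by norm_num)⟩,
        ⟨2, 1, T.hf, by norm_num, by norm_num, by norm_num, fun h => absurd h (by norm_num)⟩,
        fun _ h => absurd h List.not_mem_nil⟩)
    refine fun v hv d hd he => stable_of_list ha hs ⟨by simp, by simp, c1, c2, ?_, ?_⟩ v hv d hd he
    · simp only [List.forall_mem_cons]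
      refine ⟨fun h => absurd rfl h, fun _ => ?_, fun _ => ?_, fun _ => ?_, fun _ h => absurd h List.not_mem_nil⟩
      · rw [xP_of_hasN ha eab nAb]
        simp [q_mul_one, q_one_mul]
      · rw [xP_of_hasN ha eae nAe, cls_neg_one]
        simp [q_mul_one, q_one_mul]
      · rw [xP_of_hasN ha eaf nAf, map_inv, inv_mul_cancel]
        simp [q_mul_one, q_one_mul]
    · simp only [List.forall_mem_cons]
      refine ⟨fun _ => ?_, fun h => absurd rfl h, fun _ => ?_, fun _ => ?_, fun _ h => absurd h List.not_mem_nil⟩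
      · rw [xP_of_hasN hs eba nBa]
        simp [q_mul_one, q_one_mul]
      · rw [xP_of_hasN hs ebe nBe, cls_neg, map_inv, inv_mul_cancel]
        simp [q_mul_one, q_one_mul]
      · rw [xP_of_hasN hs ebf nBf, map_one]
        simp [q_mul_one, q_one_mul]

/-- type G₂ -/
theorem pairRel_G2 (hA : D.P.pairing s a = -3) (hB : D.P.pairing a s = -1) : PairRel ha hs := by
  haveI := D.fintypeIdx
  haveI : Finite D.idx := Finite.of_fintype _
  obtain ⟨T, rfl, rfl, hTa', hTb', hTka, hTkb, -, -⟩ :=
    exists_g2Data D g (root_oppIdx a) (root_oppIdx s) ha hs hA hB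
  have nAb : HasN g D T.a (D.P.reflectionPerm T.a T.a) 1 T.b T.q (T.N : R) := by
    rw [← hTa', ← hTka]; exact T.nAb
  have nAe : HasN g D T.a (D.P.reflectionPerm T.a T.a) 1 T.e T.f (T.P : R) := by
    rw [← hTa', ← hTka]; exact T.nAe
  have nBa : HasN g D T.b (D.P.reflectionPerm T.b T.b) 1 T.a T.e (T.M : R) := by
    rw [← hTb', ← hTkb]; exact T.nBa
  have nBq : HasN g D T.b (D.P.reflectionPerm T.b T.b) 1 T.q T.h (T.Q : R) := by
    rw [← hTb', ← hTkb]; exact T.nBq
  have nBf : HasN g D T.b (D.P.reflectionPerm T.b T.b) 1 T.f T.f ((1 : Rˣ) : R) := by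
    rw [Units.val_one, ← hTb', ← hTkb]; exact T.nBf
  have pea : D.P.pairing T.e T.a = -1 := by
    rw [← D.P.root_coroot'_eq_pairing, T.he, coroot_a D.P hA]; norm_num
  have pha : D.P.pairing T.h T.a = 0 := by
    rw [← D.P.root_coroot'_eq_pairing, T.hh, coroot_a D.P hA]; norm_num
  have pqb : D.P.pairing T.q T.b = -1 := by
    rw [← D.P.root_coroot'_eq_pairing, T.hq, coroot_b D.P hB]; norm_num
  have pfb : D.P.pairing T.f T.b = 0 := by
    rw [← D.P.root_coroot'_eq_pairing, T.hf, coroot_b D.P hB]; norm_num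
  have eab : D.P.reflectionPerm T.a T.b = T.q := D.P.root.injective (by
    rw [D.P.root_reflectionPerm, D.P.reflection_apply_root, hA, T.hq]; module)
  have eba : D.P.reflectionPerm T.b T.a = T.e := D.P.root.injective (by
    rw [D.P.root_reflectionPerm, D.P.reflection_apply_root, hB, T.he]; module)
  have eae : D.P.reflectionPerm T.a T.e = T.f := D.P.root.injective (by
    rw [D.P.root_reflectionPerm, D.P.reflection_apply_root, pea, T.he, T.hf]; module)
  have ebq : D.P.reflectionPerm T.b T.q = T.h := D.P.root.injective (by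
    rw [D.P.root_reflectionPerm, D.P.reflection_apply_root, pqb, T.hq, T.hh]; module)
  have eah : D.P.reflectionPerm T.a T.h = T.h := D.P.root.injective (by
    rw [D.P.root_reflectionPerm, D.P.reflection_apply_root, pha, zero_smul, sub_zero])
  have ebf : D.P.reflectionPerm T.b T.f = T.f := D.P.root.injective (by
    rw [D.P.root_reflectionPerm, D.P.reflection_apply_root, pfb, zero_smul, sub_zero])
  have nAh : HasN g D T.a (D.P.reflectionPerm T.a T.a) 1 T.h T.h ((1 : Rˣ) : R) := by
    rw [Units.val_one]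
    have hne : ∀ i : ℤ, i • D.P.root T.a + (2 : ℤ) • D.P.root T.b ≠ 0 := fun i h => by
      have := comb_eq_zero D.P hA hB (by norm_num) h; omega
    have hp : D.P.root T.a + D.P.root T.h = (4 : ℤ) • D.P.root T.a + (2 : ℤ) • D.P.root T.b := by rw [T.hh]; module
    have hq : D.P.root T.h - D.P.root T.a = (2 : ℤ) • D.P.root T.a + (2 : ℤ) • D.P.root T.b := by rw [T.hh]; module
    refine hasN_fix g D (root_oppIdx T.a) ha (hp ▸ hne 4) (hp ▸ fun ⟨r, hr⟩ => ?_) (hq ▸ hne 2) (hq ▸ fun ⟨r, hr⟩ => ?_)
    · exact absurd (T.roots r 4 2 hr (by norm_num) (by norm_num)).1 (by norm_num [IsPosRootCoord])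
    · exact absurd (T.roots r 2 2 hr (by norm_num) (by norm_num)).1 (by norm_num [IsPosRootCoord])
  have nAq : HasN g D T.a (D.P.reflectionPerm T.a T.a) 1 T.q T.b ((-T.N⁻¹ : Rˣ) : R) := by
    have h := nAb.symm' g D (root_oppIdx T.a) ha T.N rfl
    rwa [zpow_odd (by rw [hA]; decide), neg_one_mul] at h
  have nAf : HasN g D T.a (D.P.reflectionPerm T.a T.a) 1 T.f T.e ((-T.P⁻¹ : Rˣ) : R) := by
    have h := nAe.symm' g D (root_oppIdx T.a) ha T.P rfl
    rwa [zpow_odd (by rw [pea]; decide), neg_one_mul] at h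
  have nBe : HasN g D T.b (D.P.reflectionPerm T.b T.b) 1 T.e T.a ((-T.M⁻¹ : Rˣ) : R) := by
    have h := nBa.symm' g D (root_oppIdx T.b) hs T.M rfl
    rwa [zpow_odd (by rw [hB]; decide), neg_one_mul] at h
  have nBh : HasN g D T.b (D.P.reflectionPerm T.b T.b) 1 T.h T.q ((-T.Q⁻¹ : Rˣ) : R) := by
    have h := nBq.symm' g D (root_oppIdx T.b) hs T.Q rfl
    rwa [zpow_odd (by rw [pqb]; decide), neg_one_mul] at h
  have eaq : D.P.reflectionPerm T.a T.q = T.b := by rw [← eab, D.P.reflectionPerm_self]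
  have eaf : D.P.reflectionPerm T.a T.f = T.e := by rw [← eae, D.P.reflectionPerm_self]
  have ebe : D.P.reflectionPerm T.b T.e = T.a := by rw [← eba, D.P.reflectionPerm_self]
  have ebh : D.P.reflectionPerm T.b T.h = T.q := by rw [← ebq, D.P.reflectionPerm_self]
  constructor
  · rw [orderOf_G2 hA hB]
    refine cox_of_torus ha hs 6 (orderOf_G2 hA hB) 0 0 ?_
    rw [tor_zero, tPt_one]
    have h := T.coxeter.1
    rwa [hTa', hTb', hTka, hTkb] at h
  · obtain ⟨c1, c2⟩ := coord_conditions (a := T.a) (s := T.b) (fun i j h => comb_eq_zero D.P hA hB (by norm_num) h)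
      (P0 := [(T.a, (1 : SgnQ R)), (T.b, 1), (T.e, cls T.M), (T.f, cls T.P * cls T.M), (T.q, cls T.N),
        (T.h, cls T.Q * cls T.N)]) (by
      simp only [List.forall_mem_cons]
      exact ⟨⟨1, 0, by simp, by norm_num, le_rfl, by norm_num, fun _ => trivial⟩,
        ⟨0, 1, by simp, le_rfl, by norm_num, by norm_num, fun _ => trivial⟩,
        ⟨1, 1, T.he, by norm_num, by norm_num, by norm_num, fun h => absurd h (by norm_num)⟩,
        ⟨2, 1, T.hf, by norm_num, by norm_num, by norm_num, fun h => absurd h (by norm_num)⟩,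
        ⟨3, 1, T.hq, by norm_num, by norm_num, by norm_num, fun h => absurd h (by norm_num)⟩,
        ⟨3, 2, T.hh, by norm_num, by norm_num, by norm_num, fun h => absurd h (by norm_num)⟩,
        fun _ h => absurd h List.not_mem_nil⟩)
    refine fun v hv d hd he => stable_of_list ha hs ⟨by simp, by simp, c1, c2, ?_, ?_⟩ v hv d hd he
    · simp only [List.forall_mem_cons]
      refine ⟨fun h => absurd rfl h, fun _ => ?_, fun _ => ?_, fun _ => ?_, fun _ => ?_, fun _ => ?_,
        fun _ h => absurd h List.not_mem_nil⟩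
      · rw [xP_of_hasN ha eab nAb]
        simp [q_mul_one, q_one_mul]
      · rw [xP_of_hasN ha eae nAe]
        simp [q_mul_one, q_one_mul]
      · rw [xP_of_hasN ha eaf nAf, back_mul]
        simp [q_mul_one, q_one_mul]
      · rw [xP_of_hasN ha eaq nAq, cls_neg, map_inv, inv_mul_cancel]
        simp [q_mul_one, q_one_mul]
      · rw [xP_of_hasN ha eah nAh, map_one]
        simp [q_mul_one, q_one_mul]
    · simp only [List.forall_mem_cons]
      refine ⟨fun _ => ?_, fun h => absurd rfl h, fun _ => ?_, fun _ => ?_, fun _ => ?_, fun _ => ?_,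
        fun _ h => absurd h List.not_mem_nil⟩
      · rw [xP_of_hasN hs eba nBa]
        simp [q_mul_one, q_one_mul]
      · rw [xP_of_hasN hs ebe nBe, cls_neg, map_inv, inv_mul_cancel]
        simp [q_mul_one, q_one_mul]
      · rw [xP_of_hasN hs ebf nBf, map_one]
        simp [q_mul_one, q_one_mul]
      · rw [xP_of_hasN hs ebq nBq]
        simp [q_mul_one, q_one_mul]
      · rw [xP_of_hasN hs ebh nBh, back_mul]
        simp [q_mul_one, q_one_mul]

theorem PairRel.symm (h : PairRel ha hs) : PairRel hs ha := by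
  constructor
  · have e : orderOf (sr D.P s * sr D.P a) = orderOf (sr D.P a * sr D.P s) := by
      rw [← orderOf_inv, _root_.mul_inv_rev, RootPairing.Equiv.reflection_inv, RootPairing.Equiv.reflection_inv]
    rw [e, show xP hs * xP ha = (xP ha * xP hs)⁻¹ from by
      rw [_root_.mul_inv_rev, inv_eq_of_mul_eq_one_right (xP_mul_self ha), inv_eq_of_mul_eq_one_right (xP_mul_self hs)],
      inv_pow, h.cox, inv_one]
  · intro v hv d hd he
    exact h.stable v (by rwa [Set.pair_comm]) d hd.symm he.symm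

end Groth.Agent.H21Split.R2
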