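import Groth.Agent.H21Split.R2.WeylWord
import Mathlib.AlgebraicGeometry.Limits

/-!
The sign of a word in the Weyl points is the same at all points.
-/

open CategoryTheory MonoidalCategory CartesianMonoidalCategory MonObj GrpObj AlgebraicGeometry
open CategoryTheory.Limits

universe u

set_option backward.isDefEq.respectTransparency false
set_option linter.style.haveILetI false
set_option linter.unusedSectionVars false
set_option synthInstance.maxHeartbeats 400000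

noncomputable section

namespace Groth.Agent.H21Split.R2

variable {S : Scheme.{u}} {G : Over S} [GrpObj G] (D : Red.SplitRed G)

/-- at a test ring, conjugation by `W` carries `u_a` to `u_{a₀}` with factor the image of `ε` -/
def SignAt (W : 𝟙_ (Over S) ⟶ G) (a a₀ : D.idx) (ε : ℤ) (R : Type u) [CommRing R]
    (g : Spec (CommRingCat.of R) ⟶ S) : Prop :=
  ∀ (x : R), (toUnit (pt g R) ≫ W) * uPt g D a x * (toUnit (pt g R) ≫ W)⁻¹ = uPt g D a₀ ((ε : R) * x)

variable {D}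

theorem signAt_of_comp {W : 𝟙_ (Over S) ⟶ G} {a a₀ : D.idx} {ε : ℤ} {R R' : Type u} [CommRing R] [CommRing R']
    {g : Spec (CommRingCat.of R) ⟶ S} {g' : Spec (CommRingCat.of R') ⟶ S} (j : pt g' R' ⟶ pt g R)
    (h : SignAt D W a a₀ ε R g) : (toUnit (pt g' R') ≫ W) * uPt g' D a 1 * (toUnit (pt g' R') ≫ W)⁻¹ =
      uPt g' D a₀ (ε : R') := by
  haveI := isAffineHom_hom D
  have h1 := congrArg (fun w => j ≫ w) (h 1)
  have e : ∀ (c : D.idx) (n : ℤ), j ≫ uPt g D c (n : R) = uPt g' D c (n : R') := fun c n => by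
    rw [uPt, comp_u D g' j, gv_comp, gaFn_eq_of_gv g (gv_ga g (n : R)), map_intCast, map_intCast]
  simp only [MonObj.comp_mul, GrpObj.comp_inv, _root_.mul_one, e] at h1
  rw [← Int.cast_one, e, Int.cast_one] at h1
  rw [← Category.assoc, toUnit_unique (j ≫ toUnit _) (toUnit _)] at h1
  exact h1

/-- if at every test ring the factor is a sign, then one sign serves at all of them -/
theorem exists_uniform_sign {W : 𝟙_ (Over S) ⟶ G} {a a₀ : D.idx}
    (h : ∀ (R : Type u) [CommRing R] (g : Spec (CommRingCat.of R) ⟶ S),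
      ∃ ε : ℤ, (ε = 1 ∨ ε = -1) ∧ SignAt D W a a₀ ε R g) :
    ∃ ε : ℤ, (ε = 1 ∨ ε = -1) ∧ ∀ (R : Type u) [CommRing R] (g : Spec (CommRingCat.of R) ⟶ S),
      SignAt D W a a₀ ε R g := by
  by_cases hp : ∀ (R : Type u) [CommRing R] (g : Spec (CommRingCat.of R) ⟶ S), SignAt D W a a₀ 1 R g
  · exact ⟨1, Or.inl rfl, hp⟩
  push Not at hp
  obtain ⟨R₁, _, g₁, h₁⟩ := hp
  refine ⟨-1, Or.inr rfl, fun R₂ _ g₂ => ?_⟩
  let g : Spec (CommRingCat.of (R₁ × R₂)) ⟶ S := CategoryTheory.inv (coprodSpec R₁ R₂) ≫ coprod.desc g₁ g₂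
  have e₁ : Spec.map (CommRingCat.ofHom (RingHom.fst R₁ R₂)) ≫ g = g₁ := by
    simp only [g]
    rw [← coprodSpec_inl, Category.assoc, IsIso.hom_inv_id_assoc, coprod.inl_desc]
  have e₂ : Spec.map (CommRingCat.ofHom (RingHom.snd R₁ R₂)) ≫ g = g₂ := by
    simp only [g]
    rw [← coprodSpec_inr, Category.assoc, IsIso.hom_inv_id_assoc, coprod.inr_desc]
  let j₁ : pt g₁ R₁ ⟶ pt g (R₁ × R₂) := Over.homMk (Spec.map (CommRingCat.ofHom (RingHom.fst R₁ R₂))) (by
    simpa [pt, Algebra.algebraMap_self] using e₁)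
  let j₂ : pt g₂ R₂ ⟶ pt g (R₁ × R₂) := Over.homMk (Spec.map (CommRingCat.ofHom (RingHom.snd R₁ R₂))) (by
    simpa [pt, Algebra.algebraMap_self] using e₂)
  haveI := isAffineHom_hom D
  obtain ⟨ε, hε, hs⟩ := h (R₁ × R₂) g
  obtain ⟨ε₁, hε₁, hs₁⟩ := h R₁ g₁
  obtain ⟨ε₂, hε₂, hs₂⟩ := h R₂ g₂
  have k₁ := (signAt_of_comp (𝟙 _) hs₁).symm.trans (signAt_of_comp j₁ hs)
  have k₂ := (signAt_of_comp (𝟙 _) hs₂).symm.trans (signAt_of_comp j₂ hs)
  replace k₁ := uPt_injective g₁ D a₀ k₁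
  replace k₂ := uPt_injective g₂ D a₀ k₂
  rcases hε with rfl | rfl
  · exact absurd (fun x => by rw [hs₁ x, k₁]) h₁
  · intro x
    rw [hs₂ x, k₂]

end Groth.Agent.H21Split.R2
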