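import Groth.Agent.H21Split.R2.WeylPair
import Groth.Agent.H21Root.Exchange
import Groth.Agent.H21Root.Inversions

/-!
A word in the simple Weyl points sending a simple root to a simple root has factor a sign there.
-/

open CategoryTheory MonoidalCategory CartesianMonoidalCategory MonObj GrpObj AlgebraicGeometry
open Groth.Agent.H21Root (sr wl)
open Groth.Agent.H21Root.SimpleZ (coxM cS coxHom)

universe u

set_option backward.isDefEq.respectTransparency false
set_option linter.style.haveILetI false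
set_option linter.unusedSectionVars false
set_option synthInstance.maxHeartbeats 400000

noncomputable section

namespace Groth.Agent.H21Split.R2

section roots

variable {I M N : Type} [AddCommGroup M] [AddCommGroup N] {P : RootPairing I ℤ M N} (b : P.Base)

theorem height_comb {k p q : I} {i j : ℤ} (hk : P.root k = i • P.root p + j • P.root q) :
    b.height k = i * b.height p + j * b.height q := by
  obtain ⟨f, -, -, hf⟩ := b.exists_root_eq_sum_int p
  obtain ⟨h, -, -, hh⟩ := b.exists_root_eq_sum_int q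
  have hfg : P.root k = ∑ l ∈ b.support, (i • f + j • h) l • P.root l := by
    simp only [Pi.add_apply, Pi.smul_apply, add_smul, smul_assoc, Finset.sum_add_distrib, ← Finset.smul_sum,
      ← hf, ← hh, hk]
  simp only [RootPairing.Base.height_eq_sum hf, RootPairing.Base.height_eq_sum hh,
    RootPairing.Base.height_eq_sum hfg, Pi.add_apply, Pi.smul_apply, smul_eq_mul, Finset.sum_add_distrib,
    Finset.mul_sum]

open Classical in
theorem coord_sign {k p q : I} (hp : p ∈ b.support) (hq : q ∈ b.support) (hpq : p ≠ q) {i j : ℤ}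
    (hk : P.root k = i • P.root p + j • P.root q) : (0 ≤ i ∧ 0 ≤ j) ∨ (i ≤ 0 ∧ j ≤ 0) := by
  let f : I → ℤ := Pi.single p i + Pi.single q j
  have hsum : ∑ l ∈ b.support, f l • P.root l = P.root k := by
    simp only [f, Pi.add_apply, add_smul, Finset.sum_add_distrib, Pi.single_apply, ite_smul, zero_smul,
      Finset.sum_ite_eq', hp, hq, if_true, hk]
  have hsupp : f.support ⊆ (b.support : Set I) := fun l hl => by
    by_contra hc
    refine hl ?_
    have h1 : l ≠ p := fun h => hc (h ▸ hp)
    have h2 : l ≠ q := fun h => hc (h ▸ hq)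
    simp [f, Pi.single_apply, h1, h2]
  rcases b.pos_or_neg_of_sum_smul_root_mem f ⟨k, hsum.symm⟩ hsupp with h | h
  · exact Or.inl ⟨by simpa [f, Pi.single_apply, hpq] using h.le p, by simpa [f, Pi.single_apply, hpq.symm] using h.le q⟩
  · exact Or.inr ⟨by simpa [f, Pi.single_apply, hpq] using h.le p, by simpa [f, Pi.single_apply, hpq.symm] using h.le q⟩

end roots

variable {S : Scheme.{u}} {R : Type u} [CommRing R] {g : Spec (CommRingCat.of R) ⟶ S}
variable {G : Over S} [GrpObj G] {D : Red.SplitRed G} [IsAffineHom G.hom] [D.P.IsReduced]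
variable (b : D.P.Base)

/-- two simple roots give the relation -/
theorem pairRel_base {a s : D.idx} (ha : Dual g D a (D.P.reflectionPerm a a) ((1 : Rˣ) : R))
    (hs : Dual g D s (D.P.reflectionPerm s s) ((1 : Rˣ) : R)) (haΔ : a ∈ b.support) (hsΔ : s ∈ b.support)
    (hne : a ≠ s) : PairRel ha hs := by
  haveI := D.fintypeIdx
  haveI : Finite D.idx := Finite.of_fintype _
  haveI : Module.IsReflexive ℤ D.M := .of_isPerfPair D.P.toLinearMap
  haveI : IsAddTorsionFree D.M := .of_isTorsionFree ℤ D.M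
  have hli : LinearIndependent ℤ ![D.P.root a, D.P.root s] := by
    have h := LinearIndependent.comp b.linearIndepOn_root
      ![(⟨a, haΔ⟩ : (b.support : Set D.idx)), ⟨s, hsΔ⟩] (by
        intro i j hij
        fin_cases i <;> fin_cases j <;> simp_all [hne.symm])
    have e : ((fun x : (b.support : Set D.idx) => D.P.root x.1) ∘ ![(⟨a, haΔ⟩ : (b.support : Set D.idx)), ⟨s, hsΔ⟩]) =
        ![D.P.root a, D.P.root s] := funext fun i => by fin_cases i <;> rfl
    exact e ▸ h
  have hsub : D.P.root s - D.P.root a ∉ Set.range D.P.root := b.sub_notMem_range_root hsΔ haΔ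
  have hsub' : D.P.root a - D.P.root s ∉ Set.range D.P.root := b.sub_notMem_range_root haΔ hsΔ
  have e : ∀ p q : D.idx, D.P.pairingIn ℤ p q = D.P.pairing p q := fun p q => by
    simpa using D.P.algebraMap_pairingIn ℤ p q
  have h1 : D.P.pairing s a ≤ 0 := e s a ▸ b.pairingIn_le_zero_of_ne hne.symm hsΔ haΔ
  have h2 : D.P.pairing a s ≤ 0 := e a s ▸ b.pairingIn_le_zero_of_ne hne haΔ hsΔ
  have h4 := pairing_prod_lt_four D.P hli
  have h0 : D.P.pairing s a = 0 ↔ D.P.pairing a s = 0 := D.P.pairing_eq_zero_iff'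
  have hcases : (D.P.pairing s a = 0 ∧ D.P.pairing a s = 0) ∨
      ((D.P.pairing s a = -1 ∨ D.P.pairing s a = -2 ∨ D.P.pairing s a = -3) ∧ D.P.pairing a s = -1) ∨
      ((D.P.pairing a s = -2 ∨ D.P.pairing a s = -3) ∧ D.P.pairing s a = -1) := by
    by_cases hz : D.P.pairing s a = 0
    · exact Or.inl ⟨hz, h0.mp hz⟩
    · have hz' : D.P.pairing a s ≠ 0 := fun h => hz (h0.mpr h)
      have hy1 : D.P.pairing s a ≤ -1 := by omega
      have hx1 : D.P.pairing a s ≤ -1 := by omega
      have hx : -3 ≤ D.P.pairing a s := by nlinarith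
      have hy : -3 ≤ D.P.pairing s a := by nlinarith
      interval_cases hh : D.P.pairing a s <;> omega
  rcases hcases with ⟨hA, hB⟩ | ⟨hA | hA | hA, hB⟩ | ⟨hA | hA, hB⟩
  · exact pairRel_zero ha hs hA hB (fun i j h => LinearIndependent.pair_iff.mp hli i j h) hsub
  · exact pairRel_A2 ha hs hA hB hsub
  · exact pairRel_B2 ha hs hA hB
  · exact pairRel_G2 ha hs hA hB
  · exact (pairRel_B2 hs ha hA hB).symm hs ha
  · exact (pairRel_G2 hs ha hA hB).symm hs ha

variable (hd : ∀ a ∈ b.support, Dual g D a (D.P.reflectionPerm a a) ((1 : Rˣ) : R))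

/-- the monomial action of a simple root -/
def xS (a : (b.support : Set D.idx)) : Equiv.Perm (D.idx × SgnQ R) := xP (hd a.1 a.2)

abbrev zS : Groth.Agent.H21Root.SimpleZ D.P (b.support : Set D.idx) :=
  Groth.Agent.H21Root.simpleZ_base (P := D.P) b

variable [Finite D.idx]

include hd in
theorem xS_liftable : (coxM (zS b)).IsLiftable (xS b hd) := by
  intro a s
  change (xP (hd a.1 a.2) * xP (hd s.1 s.2)) ^ orderOf (sr D.P a.1 * sr D.P s.1) = 1
  by_cases h : a = s
  · subst h
    rw [Groth.Agent.H21Root.sr_mul_self, orderOf_one, pow_one, xP_mul_self]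
  · exact (pairRel_base b (hd a.1 a.2) (hd s.1 s.2) a.2 s.2 fun e => h (Subtype.ext e)).cox

/-- the monomial action of the Weyl group -/
def X : (coxM (zS b)).Group →* Equiv.Perm (D.idx × SgnQ R) := (cS (zS b)).lift ⟨xS b hd, xS_liftable b hd⟩

theorem X_simple (a : (b.support : Set D.idx)) : X b hd ((cS (zS b)).simple a) = xP (hd a.1 a.2) :=
  (cS (zS b)).lift_apply_simple _ a

theorem X_wordProd (l : List (b.support : Set D.idx)) :
    X b hd ((cS (zS b)).wordProd l) = (l.map fun a => xP (hd a.1 a.2)).prod := by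
  induction l with
  | nil => simp
  | cons a l ih => rw [(cS (zS b)).wordProd_cons, map_mul, ih, X_simple, List.map_cons, List.prod_cons]

theorem X_fst (x : (coxM (zS b)).Group) : ∀ p : D.idx × SgnQ R, (X b hd x p).1 = coxHom (zS b) x • p.1 := by
  obtain ⟨l, rfl⟩ := (cS (zS b)).wordProd_surjective x
  induction l with
  | nil => intro p; simp
  | cons a l ih =>
    intro p
    rw [(cS (zS b)).wordProd_cons, map_mul, map_mul, Equiv.Perm.mul_apply, X_simple, mul_smul,
      Groth.Agent.H21Root.SimpleZ.coxHom_simple, ← ih p]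
    rfl

/-- positive roots -/
abbrev PS : Set D.idx := RootD.posOf D.P (b.support : Set D.idx)

theorem eq_one_of_maps_pos {x : (coxM (zS b)).Group} (h : ∀ c ∈ PS b, coxHom (zS b) x • c ∈ PS b) : x = 1 := by
  obtain ⟨l, hl, rfl⟩ := Groth.Agent.H21Root.SimpleZ.exists_red (zS b) x
  rcases l with _ | ⟨a, u⟩
  · exact (cS (zS b)).wordProd_nil
  · exfalso
    have h1 := Groth.Agent.H21Root.SimpleZ.neg_of_red_cons (zS b) hl
    have hS := (zS b).isPosSys
    set w := coxHom (zS b) ((cS (zS b)).wordProd (a :: u))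
    have h2 := h _ ((hS.cover _).resolve_left h1)
    rw [Groth.Agent.H21Root.smul_opp, smul_inv_smul] at h2
    exact hS.disjoint (Groth.Agent.H21Root.subset_posOf D.P _ a.2) h2

theorem exists_simple_neg {x : (coxM (zS b)).Group} (hx : x ≠ 1) :
    ∃ s ∈ b.support, coxHom (zS b) x • s ∉ PS b := by
  by_contra hc
  push Not at hc
  refine hx (eq_one_of_maps_pos b fun c hcp => ?_)
  change D.P.root (coxHom (zS b) x • c) ∈ RootD.natSpan D.P _
  rw [Groth.Agent.H21Root.root_smul]
  change D.P.root c ∈ AddSubmonoid.closure _ at hcp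
  refine AddSubmonoid.closure_induction (motive := fun m _ => coxHom (zS b) x • m ∈ RootD.natSpan D.P (b.support : Set D.idx))
    ?_ (by rw [smul_zero]; exact zero_mem _) (fun m m' _ _ hm hm' => by rw [smul_add]; exact add_mem hm hm') hcp
  rintro _ ⟨s, hs, rfl⟩
  rw [← Groth.Agent.H21Root.root_smul]
  exact hc s hs

/-- the number of inversions -/
def inv (x : (coxM (zS b)).Group) : ℕ := {c | c ∈ PS b ∧ coxHom (zS b) x • c ∉ PS b}.ncard

theorem inv_lt {x : (coxM (zS b)).Group} {s : (b.support : Set D.idx)} (h : coxHom (zS b) x • s.1 ∉ PS b) :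
    inv b (x * (cS (zS b)).simple s) < inv b x := by
  have hS := (zS b).isPosSys
  have h1 : (coxHom (zS b) x * sr D.P s.1) • s.1 ∈ PS b := by
    rw [mul_smul, Groth.Agent.H21Root.sr_smul, show D.P.reflectionPerm s.1 s.1 = Groth.Agent.H21Root.opp D.P s.1 from rfl,
      Groth.Agent.H21Root.smul_opp]
    exact (hS.cover _).resolve_left h
  have := Groth.Agent.H21Root.inversions_lt hS (Groth.Agent.H21Root.subset_posOf D.P _ s.2) h1
  rw [_root_.mul_assoc, Groth.Agent.H21Root.sr_mul_self, _root_.mul_one] at this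
  simpa only [inv, map_mul, Groth.Agent.H21Root.SimpleZ.coxHom_simple] using this

theorem exists_min (a s : (b.support : Set D.idx)) : ∀ (n : ℕ) (x : (coxM (zS b)).Group), inv b x = n →
    ∃ v ∈ Subgroup.closure ({(cS (zS b)).simple a, (cS (zS b)).simple s} : Set _), inv b (x * v) ≤ n ∧
      coxHom (zS b) (x * v) • a.1 ∈ PS b ∧ coxHom (zS b) (x * v) • s.1 ∈ PS b := by
  intro n
  induction n using Nat.strong_induction_on with
  | _ n ih =>
    intro x hx
    by_cases hneg : ∃ t, (t = a ∨ t = s) ∧ coxHom (zS b) x • t.1 ∉ PS b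
    · obtain ⟨t, ht, htn⟩ := hneg
      have hlt := inv_lt b htn
      obtain ⟨v, hv, hle, h1, h2⟩ := ih _ (hx ▸ hlt) _ rfl
      rw [_root_.mul_assoc] at hle h1 h2
      refine ⟨(cS (zS b)).simple t * v, mul_mem (Subgroup.subset_closure ?_) hv, by omega, h1, h2⟩
      rcases ht with rfl | rfl <;> simp
    · push Not at hneg
      exact ⟨1, one_mem _, by rw [_root_.mul_one, hx], by rw [_root_.mul_one]; exact hneg a (Or.inl rfl),
        by rw [_root_.mul_one]; exact hneg s (Or.inr rfl)⟩

theorem span_smul {a s : (b.support : Set D.idx)} {v : (coxM (zS b)).Group}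
    (hv : v ∈ Subgroup.closure ({(cS (zS b)).simple a, (cS (zS b)).simple s} : Set _)) :
    ∀ i j : ℤ, ∃ i' j' : ℤ, coxHom (zS b) v • (i • D.P.root a.1 + j • D.P.root s.1) =
      i' • D.P.root a.1 + j' • D.P.root s.1 := by
  have step : ∀ t : (b.support : Set D.idx), t = a ∨ t = s → ∀ i j : ℤ, ∃ i' j' : ℤ,
      coxHom (zS b) ((cS (zS b)).simple t) • (i • D.P.root a.1 + j • D.P.root s.1) =
        i' • D.P.root a.1 + j' • D.P.root s.1 := by
    intro t ht i j
    rw [Groth.Agent.H21Root.SimpleZ.coxHom_simple, Groth.Agent.H21Root.sr_smul_weight]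
    rcases ht with rfl | rfl
    · exact ⟨i - D.P.coroot' t.1 (i • D.P.root t.1 + j • D.P.root s.1), j, by module⟩
    · exact ⟨i, j - D.P.coroot' t.1 (i • D.P.root a.1 + j • D.P.root t.1), by module⟩
  induction hv using Subgroup.closure_induction'' with
  | mem x hx => rcases hx with rfl | rfl; exacts [step a (Or.inl rfl), step s (Or.inr rfl)]
  | inv_mem x hx =>
    rcases hx with rfl | rfl
    · rw [(cS (zS b)).inv_simple]; exact step a (Or.inl rfl)
    · rw [(cS (zS b)).inv_simple]; exact step s (Or.inr rfl)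
  | one => exact fun i j => ⟨i, j, by rw [map_one, one_smul]⟩
  | mul x y _ _ hx hy =>
    intro i j
    obtain ⟨i1, j1, h1⟩ := hy i j
    obtain ⟨i2, j2, h2⟩ := hx i1 j1
    exact ⟨i2, j2, by rw [map_mul, mul_smul, h1, h2]⟩

/-- the factor is a sign -/
theorem factor_one : ∀ (n : ℕ) (x : (coxM (zS b)).Group), inv b x = n → ∀ a ∈ b.support,
    coxHom (zS b) x • a ∈ b.support → (X b hd x (a, 1)).2 = 1 := by
  intro n
  induction n using Nat.strong_induction_on with
  | _ n ih =>
    intro x hx a ha hga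
    by_cases hx1 : x = 1
    · subst hx1; simp
    obtain ⟨s, hs, hsn⟩ := exists_simple_neg b hx1
    have hne : a ≠ s := fun h => hsn (h ▸ Groth.Agent.H21Root.subset_posOf D.P _ hga)
    obtain ⟨v₀, hv₀, hle, h1, h2⟩ := exists_min b ⟨a, ha⟩ ⟨s, hs⟩ _ (x * (cS (zS b)).simple ⟨s, hs⟩) rfl
    have hlt := inv_lt b (s := ⟨s, hs⟩) hsn
    set u := (cS (zS b)).simple ⟨s, hs⟩ * v₀ with hu
    have hum : u ∈ Subgroup.closure ({(cS (zS b)).simple ⟨a, ha⟩, (cS (zS b)).simple ⟨s, hs⟩} : Set _) :=
      mul_mem (Subgroup.subset_closure (by simp)) hv₀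
    rw [_root_.mul_assoc, ← hu] at hle h1 h2
    set y := x * u with hy
    have hxy : x = y * u⁻¹ := by rw [hy, mul_inv_cancel_right]
    set c := coxHom (zS b) u⁻¹ • a with hc
    obtain ⟨i, j, hij⟩ := span_smul b (inv_mem hum) 1 0
    rw [one_smul, zero_smul, add_zero, ← Groth.Agent.H21Root.root_smul, ← hc] at hij
    have hyc : coxHom (zS b) y • c = coxHom (zS b) x • a := by rw [hc, ← mul_smul, ← map_mul, ← hxy]
    have hroot : D.P.root (coxHom (zS b) y • c) =
        i • D.P.root (coxHom (zS b) y • a) + j • D.P.root (coxHom (zS b) y • s) := by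
      rw [Groth.Agent.H21Root.root_smul, hij, smul_add, smul_comm, smul_comm (coxHom (zS b) y) j,
        ← Groth.Agent.H21Root.root_smul, ← Groth.Agent.H21Root.root_smul]
    have hh := height_comb b hroot
    rw [hyc, b.height_one_of_mem_support hga] at hh
    have ha1 : 1 ≤ b.height (coxHom (zS b) y • a) := (Groth.Agent.H21Root.isPos_iff_mem_posOf b _).mpr h1
    have hs1 : 1 ≤ b.height (coxHom (zS b) y • s) := (Groth.Agent.H21Root.isPos_iff_mem_posOf b _).mpr h2
    have hcas : c = a ∨ c = s := by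
      rcases coord_sign b ha hs hne hij with ⟨hi, hj⟩ | ⟨hi, hj⟩
      · have : i + j = 1 := by nlinarith [D.P.ne_zero c]
        rcases (show (i = 1 ∧ j = 0) ∨ (i = 0 ∧ j = 1) by omega) with ⟨rfl, rfl⟩ | ⟨rfl, rfl⟩
        · exact Or.inl (D.P.root.injective (by simpa using hij))
        · exact Or.inr (D.P.root.injective (by simpa using hij))
      · exfalso; nlinarith
    have hfst : (X b hd u⁻¹ (a, 1)).1 = c := X_fst b hd _ _
    have hst : (X b hd u⁻¹ (a, 1)).2 = 1 := by
      refine (pairRel_base b (hd a ha) (hd s hs) ha hs hne).stable _ ?_ a (Or.inl rfl) (by rw [hfst]; exact hcas)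
      have := Subgroup.mem_map_of_mem (X b hd) (inv_mem hum)
      rwa [MonoidHom.map_closure, Set.image_pair, X_simple, X_simple] at this
    have hcΔ : c ∈ b.support := by rcases hcas with h | h <;> rw [h] <;> assumption
    have hrec := ih (inv b y) (by omega) y rfl c hcΔ (hyc ▸ hga)
    rw [hxy, map_mul, Equiv.Perm.mul_apply, show X b hd u⁻¹ (a, 1) = (c, 1) from Prod.ext hfst hst]
    exact hrec

theorem map_prod_subtype {κ : Type*} [Monoid κ] {Δ : Set D.idx} (f : D.idx → κ) (l : List D.idx) (hl : ∀ c ∈ l, c ∈ Δ) :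
    ((l.attach.map fun c => (⟨c.1, hl c.1 c.2⟩ : Δ)).map fun c => f c.1).prod = (l.map f).prod := by
  rw [List.map_map]
  conv_rhs => rw [← List.attach_map_subtype_val l, List.map_map]
  rfl

include hd in
/-- a word in the Weyl points sending a simple root to a simple root acts there by a sign -/
theorem word_factor (l : List D.idx) (hl : ∀ c ∈ l, c ∈ b.support) {a a₀ : D.idx} (ha : a ∈ b.support)
    (ha₀ : a₀ ∈ b.support) (h : (l.map D.P.reflectionPerm).prod a = a₀) :
    ∃ n : ℤ, ∀ (B : Type u) [CommRing B] [Algebra R B] (x : B),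
      pmap g (toBase R B) ≫ (l.map (wP g D)).prod * uPt g D a x * (pmap g (toBase R B) ≫ (l.map (wP g D)).prod)⁻¹ =
        uPt g D a₀ (algebraMap R B (((-1 : Rˣ) ^ n : Rˣ) : R) * x) := by
  set l' : List (b.support : Set D.idx) := l.attach.map fun c => ⟨c.1, hl c.1 c.2⟩
  have hW : (l'.map fun c => wP g D c.1).prod = (l.map (wP g D)).prod := map_prod_subtype (wP g D) l hl
  have hσ : (l'.map fun c => (D.P.reflectionPerm c.1 : Equiv.Perm D.idx)).prod = (l.map D.P.reflectionPerm).prod :=
    map_prod_subtype (fun c => (D.P.reflectionPerm c : Equiv.Perm D.idx)) l hl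
  obtain ⟨N, hN, hconj⟩ := good_listProd (fun c : (b.support : Set D.idx) => wP g D c.1)
    (fun c => (D.P.reflectionPerm c.1 : Equiv.Perm D.idx)) (fun c => xP (hd c.1 c.2))
    (fun c => good_wP (hd c.1 c.2)) l' a
  rw [hσ, h] at hN hconj
  have h2 := hN 1
  rw [← X_wordProd b hd] at h2
  have hmem : coxHom (zS b) ((cS (zS b)).wordProd l') • a = a₀ := by
    rw [← X_fst b hd _ (a, 1), h2]
  have h3 := factor_one b hd _ ((cS (zS b)).wordProd l') rfl a ha (hmem ▸ ha₀)
  rw [h2] at h3
  have hN1 : cls (1 : Rˣ) = cls N := by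
    rw [map_one]; exact h3.symm.trans (_root_.mul_one (cls N))
  obtain ⟨n, hn⟩ := exists_sign_of_cls hN1
  refine ⟨n, fun B _ _ x => ?_⟩
  rw [← hW, hconj B x, hn, _root_.one_mul]

end Groth.Agent.H21Split.R2
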